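import Cfsg.Agent.Walter.Rank.Pieces
import Cfsg.Agent.LocBal.Main

/-!
# Walter, rank at least four: `k`-balance

With all traces of components of order at most `q`, `G` is `balK q`-balanced: a component with a
trace of order at least 16 is a `PSL₂(2ⁿ)`, and `eq_bot_of_balanced` applies in `N(L)/C(L)`.
-/

set_option autoImplicit false
set_option linter.style.haveILetI false
set_option linter.unusedSectionVars false

open Subgroup

namespace CfsgLib.Walter.Rank

universe u

/-- The balance index. -/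
def balK (q : ℕ) : ℕ := if q = 4 then 3 else 4

theorem one_le_balK (q : ℕ) : 1 ≤ balK q := by unfold balK; split <;> omega

section Top

variable {X : Type u} [Group X] [Finite X]

/-- With a Sylow subgroup of order at least 16 the type is `PSL₂(2ⁿ)`. -/
theorem CompType.isPSLTwo_of_card {K : Type u} [Group K] [Finite K] (hK : CompType K)
    (P : Sylow 2 K) (h16 : 16 ≤ Nat.card (P : Subgroup K)) : IsPSLTwo K := by
  rcases hK with h | h | ⟨h, -⟩
  · have := (isPSLOdd_sylow h P).2; omega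
  · exact h
  · have := ((isJR_twoType h) P P.isPGroup').2; omega

theorem TopHyp.delta_le_centralizer (hX : TopHyp X) (P : Sylow 2 X) {k : ℕ} (hk : 1 ≤ k)
    {E : Subgroup X} (hE : Cfsg.IsElementaryAbelian 2 E) (hEk : Nat.card E = 2 ^ k)
    (hEP : E ≤ (P : Subgroup X)) {L : Subgroup X} (hL : Cfsg.IsComponent L)
    (hbig : 2 ^ k ≤ Nat.card ↥((P : Subgroup X) ⊓ L) → 16 ≤ Nat.card ↥((P : Subgroup X) ⊓ L)) :
    Cfsg.signalizerDelta 2 E ≤ centralizer (L : Set X) := by
  classical
  haveI : Fact (Nat.Prime 2) := ⟨Nat.prime_two⟩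
  rcases LocBal.component_cases hX.core hk hE hEk hL with h0 | ⟨hEN, hΔN, hinj⟩
  · exact h0
  set C := centralizer (L : Set X) with hC
  have hdec : ∀ a : E, ∃ u : ↥((P : Subgroup X) ⊓ L), (u : X)⁻¹ * a ∈ C := fun a => by
    obtain ⟨u, hu, c, -, hc, e⟩ := hX.exists_mul hL P (hEP a.2)
    exact ⟨⟨u, hu⟩, by rw [e, inv_mul_cancel_left]; exact hc⟩
  choose f hf using hdec
  have hf_inj : Function.Injective f := fun a b e => by
    have h1 : ((a : X))⁻¹ * b ∈ C := by
      have h2 := mul_mem (inv_mem (hf a)) (hf b)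
      rw [e] at h2
      rwa [mul_inv_rev, inv_inv, mul_assoc, ← mul_assoc (f b : X), mul_inv_cancel, one_mul] at h2
    exact Subtype.ext (inv_mul_eq_one.1 (hinj _ (mul_mem (inv_mem a.2) b.2) h1))
  have h16 := hbig (hEk ▸ Nat.card_le_card_of_injective f hf_inj)
  let T : Sylow 2 L := ((P.isPGroup'.to_le inf_le_left).comap_subtype (K := L)).toSylow
    (not_dvd_relIndex_of_isSubnormal P hL.1)
  have hT : IsPSLTwo L := CompType.isPSLTwo_of_card (hX.compType hL) T
    (h16.trans_eq (Nat.card_congr (subgroupOfEquivOfLe inf_le_right).toEquiv).symm)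
  -- pass to `N(L)/C(L)`
  set N := normalizer (L : Set X)
  haveI : (L.subgroupOf N).Normal := normal_in_normalizer
  haveI : (C.subgroupOf N).Normal := ⟨fun c hc g => by
    rw [mem_subgroupOf] at hc ⊢
    refine mem_centralizer_iff.2 fun l hl => ?_
    have h1 := mem_centralizer_iff.1 hc _ ((mem_normalizer_iff''.1 g.2 l).1 hl)
    show l * ((g : X) * c * (g : X)⁻¹) = (g : X) * c * (g : X)⁻¹ * l
    calc l * ((g : X) * c * (g : X)⁻¹) = g * ((g : X)⁻¹ * l * g * c) * (g : X)⁻¹ := by group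
      _ = _ := by rw [h1]; group⟩
  set π := QuotientGroup.mk' (C.subgroupOf N)
  set K := (L.subgroupOf N).map π with hK
  haveI : K.Normal := (inferInstance : (L.subgroupOf N).Normal).map π
    (QuotientGroup.mk'_surjective _)
  have hLN : L ≤ N := le_normalizer
  have hπ : ∀ {x : N}, π x = 1 ↔ (x : X) ∈ C := fun {x} => by
    rw [QuotientGroup.mk'_apply, QuotientGroup.eq_one_iff, mem_subgroupOf]
  let e : L →* K := (π.comp (inclusion hLN)).codRestrict K fun l => ⟨inclusion hLN l, l.2, rfl⟩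
  have he : Function.Bijective e := by
    refine ⟨(injective_iff_map_eq_one e).2 fun l hl => Subtype.ext ?_, ?_⟩
    · exact hX.eq_one_of_centralizes hL l.2 (hπ.1 (congrArg Subtype.val hl))
    · rintro ⟨_, x, hx, rfl⟩
      exact ⟨⟨x, hx⟩, rfl⟩
  have hK2 : IsPSLTwo K := by
    obtain ⟨F, i1, i2, hn, ⟨φ⟩⟩ := hT
    exact ⟨F, i1, i2, hn, ⟨(MulEquiv.ofBijective e he).symm.trans φ⟩⟩
  have hc : centralizer (K : Set (N ⧸ C.subgroupOf N)) = ⊥ := by
    refine (eq_bot_iff_forall _).2 fun z hz => ?_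
    obtain ⟨g, rfl⟩ := QuotientGroup.mk'_surjective (C.subgroupOf N) z
    refine hπ.2 (mem_centralizer_iff.2 fun l hl => ?_)
    have h1 : π (inclusion hLN ⟨l, hl⟩ * g * (inclusion hLN ⟨l, hl⟩)⁻¹ * g⁻¹) = 1 := by
      simp only [map_mul, map_inv]
      rw [show π (inclusion hLN ⟨l, hl⟩) * π g = π g * π (inclusion hLN ⟨l, hl⟩) from
        mem_centralizer_iff.1 hz _ ⟨inclusion hLN ⟨l, hl⟩, hl, rfl⟩]
      group
    have h2 : l * g * l⁻¹ * (g : X)⁻¹ = 1 := hX.eq_one_of_centralizes hL (by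
      rw [show l * g * l⁻¹ * (g : X)⁻¹ = l * (g * l⁻¹ * (g : X)⁻¹) by group]
      exact L.mul_mem hl ((mem_normalizer_iff.1 g.2 _).1 (L.inv_mem hl))) (hπ.1 h1)
    rwa [mul_inv_eq_one, mul_inv_eq_iff_eq_mul] at h2
  obtain ⟨TK⟩ : Nonempty (Sylow 2 K) := inferInstance
  have hTK : 16 ≤ Nat.card (TK : Subgroup K) := by
    rw [TK.card_eq_multiplicity, ← Nat.card_congr (MulEquiv.ofBijective e he).toEquiv,
      ← T.card_eq_multiplicity]
    exact h16.trans_eq (Nat.card_congr (subgroupOfEquivOfLe inf_le_right).toEquiv).symm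
  -- an involution of `E`
  obtain ⟨a, ha, ha1⟩ := Components.exists_mem_ne_one_of_card (p := 2) hk hEk
  have haC : a ∉ C := fun h => ha1 (hinj a ha h)
  set a' : N := ⟨a, hEN ha⟩
  obtain ⟨u, hu, c, -, hc', hauc⟩ := hX.exists_mul hL P (hEP ha)
  have hdK : π a' ∈ K := by
    refine ⟨⟨u, hLN hu.2⟩, hu.2, QuotientGroup.eq.2 ?_⟩
    show u⁻¹ * a ∈ C
    rw [hauc, inv_mul_cancel_left]
    exact hc'
  have hd : orderOf (π a') = 2 := orderOf_eq_prime
    (by rw [← map_pow, show a' ^ 2 = 1 from Subtype.ext (hE.2 a ha), map_one])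
    fun h => haC (hπ.1 h)
  set R := Balance.coreIn 2 (centralizer ({a} : Set X)) with hR
  have hY : (R.subgroupOf N).map π = ⊥ := by
    refine CompType.eq_bot_of_balanced (Or.inr (Or.inl hK2)) hc TK hTK hdK hd
      (Nat.coprime_two_right.1 ((Balance.coprime_coreIn (p := 2) _).coprime_dvd_left
        ((card_map_dvd _ _).trans (card_comap_dvd_of_injective R N.subtype N.subtype_injective))))
      ?_ ?_
    · rintro _ ⟨r, hr, rfl⟩
      rw [mem_centralizer_singleton_iff, ← map_mul, ← map_mul]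
      exact congrArg π (Subtype.ext (mem_centralizer_singleton_iff.1
        (Balance.coreIn_le _ (mem_subgroupOf.1 hr))))
    · rintro _ ⟨⟨l, hl, rfl⟩, hlc⟩
      have h1 : π (l * a' * l⁻¹ * a'⁻¹) = 1 := by
        simp only [map_mul, map_inv]
        rw [mem_centralizer_singleton_iff.1 hlc]
        group
      have h2 : (l : X) * a * (l : X)⁻¹ * a⁻¹ = 1 := hX.eq_one_of_centralizes hL (by
        rw [show (l : X) * a * (l : X)⁻¹ * a⁻¹ = (l : X) * (a * (l : X)⁻¹ * a⁻¹) by group]
        exact L.mul_mem hl ((mem_normalizer_iff.1 (hEN ha) _).1 (L.inv_mem hl))) (hπ.1 h1)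
      rw [mul_inv_eq_one, mul_inv_eq_iff_eq_mul] at h2
      exact le_normalizer_map π ⟨l, le_normalizer_comap N.subtype
        (Balance.le_normalizer_coreIn _ (mem_centralizer_singleton_iff.2 h2)), rfl⟩
  intro r hr
  exact hπ.1 (mem_bot.1 (hY.le ⟨⟨r, hΔN hr⟩,
    Components.signalizerDelta_le_coreIn ha ha1 hr, rfl⟩))

/-- `Δ(E) = 1` in `X`. -/
theorem TopHyp.delta_eq_bot (hX : TopHyp X) (P : Sylow 2 X) {k : ℕ} (hk : 1 ≤ k)
    {E : Subgroup X} (hE : Cfsg.IsElementaryAbelian 2 E) (hEk : Nat.card E = 2 ^ k)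
    (hEP : E ≤ (P : Subgroup X))
    (hbig : ∀ L, Cfsg.IsComponent L → 2 ^ k ≤ Nat.card ↥((P : Subgroup X) ⊓ L) →
      16 ≤ Nat.card ↥((P : Subgroup X) ⊓ L)) :
    Cfsg.signalizerDelta 2 E = ⊥ := by
  haveI : Fact (Nat.Prime 2) := ⟨Nat.prime_two⟩
  exact (eq_bot_iff_forall _).2 fun r hr => LocBal.eq_one_of_mem_delta hX.core hk hE hEk hr
    fun L hL => hX.delta_le_centralizer P hk hE hEk hEP hL (hbig L hL) hr

end Top

variable {G : Type u} [Group G] [Finite G]

theorem Frame.isKBalanced {S : Sylow 2 G} {q : ℕ} (F : Frame S q) :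
    Cfsg.IsKBalanced 2 (balK q) G := by
  haveI : Fact (Nat.Prime 2) := ⟨Nat.prime_two⟩
  intro A hA hAk b hb hcomm
  have hp : IsPGroup 2 (A ⊔ zpowers b : Subgroup G) :=
    (Transitivity.isPGroup_of_elab hA).to_sup_of_normal_right'
      (IsPGroup.of_card (n := 1) (by rw [Nat.card_zpowers, hb, pow_one])) fun a ha => by
        refine centralizer_le_normalizer _ ?_
        rw [← Transitivity.centralizer_singleton_eq]
        exact mem_centralizer_singleton_iff.2 (hcomm a ha)
  obtain ⟨T, hT⟩ := hp.exists_le_sylow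
  have h := F.hyp.of_sylow T
  have hbT : b ∈ (T : Subgroup G) := hT (mem_sup_right (mem_zpowers b))
  have hAT : A ≤ (T : Subgroup G) := le_sup_left.trans hT
  have hb1 : b ≠ 1 := fun e => by rw [e, orderOf_one] at hb; omega
  have hAY := hAT.trans (h.le_centralizer hbT)
  have hE : Cfsg.IsElementaryAbelian 2 (img b A) := Transitivity.isElementaryAbelian_map
    (Components.isElementaryAbelian_subgroupOf hA _) _
  have hc : Nat.card (img b A) = 2 ^ balK q := by
    rw [card_img_of_twoGroup (T.isPGroup'.to_le hAT) hAY, hAk]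
  have hbot := (h.topHyp hb1).delta_eq_bot (imgSylow T (h.le_centralizer hbT))
    (one_le_balK q) hE hc (img_mono hAT) fun L hL hle => by
      obtain ⟨M, hM, hMi⟩ := h.exists_comp hbT hb1 hL
      have hb := F.bound T b M hbT hb1 hM
      rw [h.comp_inf_eq hbT hb1 hM, hMi, h.card_img_inf hbT L] at hb
      unfold balK at hle
      split at hle <;> omega
  rintro r ⟨hr, hrb⟩
  refine (proj_eq_one_iff (a := b) hrb).1 (mem_bot.1 (hbot.le ?_))
  exact LocBal.map_mem_delta hA r hr hrb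

end CfsgLib.Walter.Rank
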