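import Cfsg.Agent.Walter.Rank.Closure

/-!
# Walter, rank at least four: the blocks when the closure is trivial

`res B`: the largest perfect subgroup of `C(B)`.  For a piece `(U, B)` it maps onto the component
with trace `U` in every `C(b)/O(C(b))`; if all `Δ(D)` are trivial it is simple, blocks of distinct
pieces commute, and it is normalized by `C(T)` for all large `T ≤ S`.
-/

set_option autoImplicit false
set_option linter.style.haveILetI false
set_option linter.unusedSectionVars false

open Subgroup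
open scoped commutatorElement

namespace CfsgLib.Walter.Rank

universe u

variable {G : Type u} [Group G]

/-- The largest perfect subgroup of `C(B)`. -/
def res (B : Subgroup G) : Subgroup G :=
  sSup {K : Subgroup G | K ≤ centralizer (B : Set G) ∧ ⁅K, K⁆ = K}

theorem res_le (B : Subgroup G) : res B ≤ centralizer (B : Set G) := sSup_le fun _ hK => hK.1

theorem le_res {B K : Subgroup G} (hK : K ≤ centralizer (B : Set G)) (hp : ⁅K, K⁆ = K) :
    K ≤ res B :=
  le_sSup ⟨hK, hp⟩

theorem res_perfect (B : Subgroup G) : ⁅res B, res B⁆ = res B :=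
  le_antisymm (commutator_le_self _) (sSup_le fun K hK =>
    hK.2.ge.trans (commutator_mono (le_res hK.1 hK.2) (le_res hK.1 hK.2)))

theorem map_res_le (B : Subgroup G) (n : G) :
    (res B).map (MulAut.conj n).toMonoidHom ≤ res (B.map (MulAut.conj n).toMonoidHom) := by
  refine le_res ?_ (by rw [← map_commutator, res_perfect])
  rintro _ ⟨x, hx, rfl⟩
  refine mem_centralizer_iff.2 ?_
  rintro _ ⟨b, hb, rfl⟩
  rw [← map_mul, ← map_mul, mem_centralizer_iff.1 (res_le B hx) b hb]

variable [Finite G]

theorem centralizer_le_normalizer_res (B : Subgroup G) :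
    centralizer (B : Set G) ≤ normalizer (res B : Set G) := by
  intro c hc
  refine mem_normalizer_iff_map_conj_eq.2 (eq_of_le_of_card_ge ((map_res_le B c).trans (le_of_eq ?_))
    (card_map_of_injective (MulEquiv.injective _)).ge)
  congr 1
  ext x
  rw [mem_map_conj]
  constructor
  · intro hx
    have h1 := mem_centralizer_iff.1 hc _ hx
    have h2 : x = c⁻¹ * x * c := mul_right_cancel (b := c)
      (h1.trans (by group) : c⁻¹ * x * c * c = x * c).symm
    exact h2 ▸ hx
  · intro hx
    rwa [mul_assoc, mem_centralizer_iff.1 hc x hx, inv_mul_cancel_left]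

section Top

variable {X : Type u} [Group X] [Finite X]

/-- The centralizer of an abelian Sylow 2-subgroup is solvable. -/
theorem isSolvable_centralizer_sylow (T : Sylow 2 X) (hT : IsMulCommutative (T : Subgroup X)) :
    Group.IsSolvable (centralizer ((T : Subgroup X) : Set X)) := by
  haveI : Fact (Nat.Prime 2) := ⟨Nat.prime_two⟩
  set C := centralizer ((T : Subgroup X) : Set X)
  have hTC : (T : Subgroup X) ≤ C := fun x hx => mem_centralizer_iff.2 fun y hy =>
    congrArg Subtype.val (hT.is_comm.comm (⟨y, hy⟩ : (T : Subgroup X)) ⟨x, hx⟩)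
  set Z := (T : Subgroup X).subgroupOf C
  haveI : Z.Normal := ⟨fun z hz g => by
    rw [mem_subgroupOf] at hz ⊢
    show (g : X) * z * (g : X)⁻¹ ∈ (T : Subgroup X)
    rwa [← mem_centralizer_iff.1 g.2 z hz, mul_inv_cancel_right]⟩
  haveI : Group.IsSolvable Z := by
    refine @Group.isSolvable_of_isSolvable_injective _ _ _ _
      (Subgroup.inclusion (le_refl Z)) (inclusion_injective _) ?_
    exact ⟨1, (commutator_eq_bot_iff_le_centralizer.2 fun a _ => mem_centralizer_iff.2
      fun b _ => Subtype.ext (Subtype.ext (congrArg Subtype.val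
        (hT.is_comm.comm (⟨_, b.2⟩ : (T : Subgroup X)) ⟨_, a.2⟩) :)))⟩
  haveI : Group.IsSolvable (C ⧸ Z) := by
    refine Cfsg.Agent.S0205.result ?_
    rw [← index_eq_card, ← Nat.not_even_iff_odd, even_iff_two_dvd]
    exact fun h => T.not_dvd_index (h.trans (Dvd.intro _ (relIndex_mul_index hTC)))
  exact Group.isSolvable_of_ker_le_range Z.subtype (QuotientGroup.mk' Z)
    (by rw [QuotientGroup.ker_mk', range_subtype])

namespace TopHyp

variable (hX : TopHyp X) {K : Subgroup X} (hK : Cfsg.IsComponent K)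
include hX hK

theorem layer_le_sup : Cfsg.layer X ≤ K ⊔ centralizer (K : Set X) := sSup_le fun L hL => by
  by_cases e : L = K
  · exact e ▸ le_sup_left
  · exact le_sup_of_le_right (commutator_eq_bot_iff_le_centralizer.1
      (Components.IsComponent.commutator_eq_bot_of_ne hL hK e))

/-- An odd subgroup normalized by a component is centralized by it. -/
theorem le_centralizer_of_odd {Y : Subgroup X} (hY : Odd (Nat.card Y))
    (hn : K ≤ normalizer (Y : Set X)) : Y ≤ centralizer (K : Set X) := by
  rcases Components.IsComponent.le_or_commutator_eq_bot_of_le_normalizer hK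
    (le_sup_left : K ≤ K ⊔ Y) le_sup_right (sup_le hn Subgroup.le_normalizer) with e | e
  · haveI : Group.IsSolvable K := Cfsg.Agent.S0205.result (hY.of_dvd_nat (card_dvd_of_le e))
    exact absurd (inferInstance : Group.IsSolvable K) (Components.IsComponent.not_isSolvable hK)
  · exact commutator_eq_bot_iff_le_centralizer.1 ((commutator_comm Y K).trans e)

/-- A perfect group centralizing a Sylow trace of a component centralizes the component. -/
theorem le_centralizer_of_trace (P : Sylow 2 X) {N : Subgroup X} (hN : ⁅N, N⁆ = N)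
    (hc : N ≤ centralizer (((P : Subgroup X) ⊓ K : Subgroup X) : Set X)) :
    N ≤ centralizer (K : Set X) := by
  haveI : Fact (Nat.Prime 2) := ⟨Nat.prime_two⟩
  have hE := hX.perfect_le_layer hN
  have hNK : N ≤ normalizer (K : Set X) :=
    hE.trans (Components.IsComponent.normalized_by_layer hK)
  let T : Sylow 2 K := ((P.isPGroup'.to_le inf_le_left).comap_subtype (K := K)).toSylow
    (not_dvd_relIndex_of_isSubnormal P hK.1)
  haveI := isSolvable_centralizer_sylow T (sylow_subgroup_comm hX.comm K T)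
  haveI : Group.IsSolvable ((centralizer ((T : Subgroup K) : Set K)).map
      (MulAut.conj : K →* MulAut K)) :=
    Group.isSolvable_of_surjective (f := (MulAut.conj : K →* MulAut K).subgroupMap
      (centralizer ((T : Subgroup K) : Set K))) (MonoidHom.subgroupMap_surjective _ _)
  set f := LocBal.actAut K N hNK
  have hr : f.range ≤ (centralizer ((T : Subgroup K) : Set K)).map
      (MulAut.conj : K →* MulAut K) := by
    rintro _ ⟨n, rfl⟩
    obtain ⟨k, hk, c, hcK, hkc⟩ := Coprime.exists_mul_of_mem_sup (centralizer_le_normalizer _)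
      (hX.layer_le_sup hK (hE n.2))
    refine ⟨⟨k, hk⟩, mem_centralizer_iff.2 fun t ht => Subtype.ext ?_, MulEquiv.ext fun l =>
      Subtype.ext ?_⟩
    · have h1 := mem_centralizer_iff.1 (hc n.2) (t : X) (show (t : X) ∈ (P : Subgroup X) ⊓ K from ht)
      have h2 := mem_centralizer_iff.1 hcK (t : X) t.2
      rw [← hkc] at h1
      show (t : X) * k = k * t
      refine mul_right_cancel (b := c) ?_
      rw [mul_assoc, h1, mul_assoc, ← h2, mul_assoc]
    · have h2 := mem_centralizer_iff.1 hcK (l : X) l.2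
      show k * l * k⁻¹ = (f n l : X)
      rw [LocBal.actAut_apply, ← hkc, show k * c * (l : X) * (k * c)⁻¹ = k * (c * l) * c⁻¹ * k⁻¹ by
        group, ← h2]
      group
  haveI : Group.IsSolvable f.range := Components.isSolvable_mono inferInstance hr
  have hp : ⁅(⊤ : Subgroup N), (⊤ : Subgroup N)⁆ = ⊤ :=
    map_injective N.subtype_injective
      (by rw [map_commutator, ← MonoidHom.range_eq_map, range_subtype, hN])
  intro n hn
  refine LocBal.ker_actAut_le (g := ⟨n, hn⟩) hNK (mem_bot.1 ((le_of_eq
    (Balance.eq_bot_of_perfect (by rw [MonoidHom.range_eq_map, ← map_commutator, hp])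
      (inferInstance : Group.IsSolvable f.range))) ⟨⟨n, hn⟩, rfl⟩))

/-- A perfect group centralizing all other components lies in the component. -/
theorem perfect_le_component {N : Subgroup X} (hN : ⁅N, N⁆ = N)
    (h : ∀ L, Cfsg.IsComponent L → L ≠ K → N ≤ centralizer (L : Set X)) : N ≤ K := by
  have hE := hX.perfect_le_layer hN
  have hdec : ∀ x ∈ N, ∃ k ∈ K, ∃ c ∈ Cfsg.layer X, c ∈ centralizer (Cfsg.layer X : Set X) ∧
      x = k * c := by
    intro x hx
    obtain ⟨k, hk, c, hc, rfl⟩ := Coprime.exists_mul_of_mem_sup (centralizer_le_normalizer _)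
      (hX.layer_le_sup hK (hE hx))
    refine ⟨k, hk, c, ?_, ?_, rfl⟩
    · have h1 := mul_mem (inv_mem (Components.IsComponent.le_layer hK hk)) (hE hx)
      rwa [inv_mul_cancel_left] at h1
    · refine le_centralizer_iff.1 (sSup_le fun L hL => le_centralizer_iff.1 ?_) (mem_zpowers c)
      rw [zpowers_le]
      by_cases e : L = K
      · exact e ▸ hc
      · have hkL : k ∈ centralizer (L : Set X) := commutator_eq_bot_iff_le_centralizer.1
          (Components.IsComponent.commutator_eq_bot_of_ne hK hL (Ne.symm e)) hk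
        have h1 := mul_mem (inv_mem hkL) (h L hL e hx)
        rwa [inv_mul_cancel_left] at h1
  rw [← hN, commutator_le]
  intro x hx y hy
  obtain ⟨k, hk, c, hcE, hc, rfl⟩ := hdec x hx
  obtain ⟨k', hk', c', hcE', hc', rfl⟩ := hdec y hy
  have hkE := Components.IsComponent.le_layer hK hk
  have hkE' := Components.IsComponent.le_layer hK hk'
  rw [commutatorElement_def, show k * c * (k' * c') * (k * c)⁻¹ * (k' * c')⁻¹ =
    k * (c * (k' * c')) * c⁻¹ * k⁻¹ * c'⁻¹ * k'⁻¹ by group,
    ← mem_centralizer_iff.1 hc _ (mul_mem hkE' hcE'),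
    show k * (k' * c' * c) * c⁻¹ * k⁻¹ * c'⁻¹ * k'⁻¹ = k * k' * (c' * k⁻¹) * c'⁻¹ * k'⁻¹ by group,
    ← mem_centralizer_iff.1 hc' _ (inv_mem hkE)]
  rw [show k * k' * (k⁻¹ * c') * c'⁻¹ * k'⁻¹ = k * k' * k⁻¹ * k'⁻¹ by group]
  exact mul_mem (mul_mem (mul_mem hk hk') (inv_mem hk)) (inv_mem hk')

end TopHyp

end Top

namespace Hyp

variable {S : Sylow 2 G} (h : Hyp S)
include h

theorem img_eq_of_meet {a : G} (ha : a ∈ (S : Subgroup G)) (ha1 : a ≠ 1)
    {L L' : Subgroup (Top2 a)} (hL : Cfsg.IsComponent L) (hL' : Cfsg.IsComponent L') {u : G}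
    (hu : u ∈ (S : Subgroup G)) (hu1 : u ≠ 1)
    (huL : proj a ⟨u, h.le_centralizer ha hu⟩ ∈ L)
    (huL' : proj a ⟨u, h.le_centralizer ha hu⟩ ∈ L') : L = L' := by
  by_contra hne
  have h1 := (h.topHyp ha1).eq_one_of_centralizes hL huL
    (commutator_eq_bot_iff_le_centralizer.1
      (Components.IsComponent.commutator_eq_bot_of_ne hL' hL (Ne.symm hne)) huL')
  exact hu1 (proj_injOn S.isPGroup' hu (one_mem _) (h.le_centralizer ha hu) (one_mem _)
    (h1.trans (map_one (proj a)).symm))

end Hyp

namespace Frame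

variable {S : Sylow 2 G} {q : ℕ} (F : Frame S q) {U B : Subgroup G}
  (hP : Piece (S : Subgroup G) q U B)
include F hP

theorem S_le_centralizer : (S : Subgroup G) ≤ centralizer (B : Set G) :=
  Transitivity.le_centralizer_of_elab F.elab_S hP.leB

theorem res_le_centralizer_singleton {b : G} (hb : b ∈ B) :
    res B ≤ centralizer ({b} : Set G) :=
  (res_le B).trans (centralizer_le (Set.singleton_subset_iff.2 hb))

/-- `res B` maps onto the component with trace `U`. -/
theorem exists_comp_res {b : G} (hb : b ∈ B) (hb1 : b ≠ 1) :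
    ∃ M, Comp b M ∧ (S : Subgroup G) ⊓ M = U ∧ cenS (S : Subgroup G) b M = B ∧
      img b (res B) = img b M := by
  have h := F.hyp
  have hbS : b ∈ (S : Subgroup G) := hP.leB hb
  obtain ⟨M, hM, hMU, hMB⟩ := hP.comp b hb hb1
  refine ⟨M, hM, hMU, hMB, ?_⟩
  have hCb : centralizer (B : Set G) ≤ centralizer ({b} : Set G) :=
    centralizer_le (Set.singleton_subset_iff.2 hb)
  have hX := h.topHyp hb1
  have hK := hM.isComponent
  haveI := hX.isSimpleGroup hK
  refine le_antisymm ?_ ?_
  · have hperf : ⁅img b (res B), img b (res B)⁆ = img b (res B) := by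
      rw [← img_commutator ((res_le B).trans hCb) ((res_le B).trans hCb), res_perfect]
    refine hX.perfect_le_component hK hperf fun L hL hne => ?_
    refine hX.le_centralizer_of_trace hL (imgSylow S (h.le_centralizer hbS)) hperf ?_
    rw [le_centralizer_iff]
    rintro z ⟨hzS, hzL⟩
    obtain ⟨x, hx, hxS, rfl⟩ := exists_of_mem_img hzS
    have hxB : x ∈ B := hMB ▸ (⟨hxS, mem_lift.2 ⟨hx, commutator_eq_bot_iff_le_centralizer.1
      (Components.IsComponent.commutator_eq_bot_of_ne hL hK hne) hzL⟩⟩ :
        x ∈ cenS (S : Subgroup G) b M)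
    refine mem_centralizer_iff.2 fun w hw => ?_
    obtain ⟨y, hy, hyR, rfl⟩ := exists_of_mem_img hw
    rw [← map_mul, ← map_mul]
    exact congrArg (proj b) (Subtype.ext (mem_centralizer_iff.1 (res_le B hyR) x hxB).symm)
  · obtain ⟨N, hNH, -, hNa, hNi⟩ := exists_atom hCb hK.1
      (Components.IsComponent.commutator_eq_self hK) (Components.IsComponent.ne_bot hK)
      (fun N hN hn => by
        haveI : (N.subgroupOf (img b M)).Normal := normal_subgroupOf_of_le_normalizer hn
        rcases IsSimpleGroup.eq_bot_or_eq_top_of_normal _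
          (inferInstance : (N.subgroupOf (img b M)).Normal) with e | e
        · exact Or.inl (by rw [← map_subgroupOf_eq_of_le hN, e, Subgroup.map_bot])
        · exact Or.inr (le_antisymm hN (subgroupOf_eq_top.1 e)))
      (h.le_img_centralizer hbS hP.leB
        (((img_mono (hMB.ge.trans inf_le_right))).trans (img_lift b _).le))
    exact hNi.ge.trans (img_mono (le_res hNH hNa.perfect))

theorem isComponent_img_res {b : G} (hb : b ∈ B) (hb1 : b ≠ 1) :
    Cfsg.IsComponent (img b (res B)) := by
  obtain ⟨M, hM, -, -, he⟩ := F.exists_comp_res hP hb hb1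
  exact he ▸ hM.isComponent

theorem res_inf : (S : Subgroup G) ⊓ res B = U := by
  haveI : Fact (Nat.Prime 2) := ⟨Nat.prime_two⟩
  obtain ⟨⟨b, hb⟩, hb1⟩ := Subgroup.ne_bot_iff_exists_ne_one.1
    (show B ≠ ⊥ from fun e => by
      have h := F.lt_card hP
      rw [e, Subgroup.card_bot] at h
      have := F.four
      omega)
  have hb1' : b ≠ 1 := fun e => hb1 (Subtype.ext e)
  obtain ⟨M, hM, hMU, -, he⟩ := F.exists_comp_res hP hb hb1'
  haveI : ((res B).subgroupOf (centralizer (B : Set G))).Normal :=
    normal_subgroupOf_of_le_normalizer (centralizer_le_normalizer_res B)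
  rw [F.hyp.inf_eq_of_img (hP.leB hb) hb1' (centralizer_le (Set.singleton_subset_iff.2 hb))
    (F.S_le_centralizer hP) (res_le B) (Subgroup.Normal.isSubnormal inferInstance) hM.isComponent he,
    ← F.hyp.comp_inf_eq (hP.leB hb) hb1' hM, hMU]

theorem le_res_piece : U ≤ res B := (F.res_inf hP).ge.trans inf_le_right

omit hP
variable (hW : clo q (S : Subgroup G) = ⊥)
include hW

theorem delta_eq_bot {D : Subgroup G} (hD : D ≤ (S : Subgroup G))
    (hc : 2 ^ balK q ≤ Nat.card D) : Cfsg.signalizerDelta 2 D = ⊥ := by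
  haveI : Fact (Nat.Prime 2) := ⟨Nat.prime_two⟩
  obtain ⟨D', hD', hD'c⟩ := Transitivity.exists_le_card_eq F.elab_S hD hc
  refine le_bot_iff.1 ((Transitivity.signalizerDelta_anti hD').trans ?_)
  exact hW ▸ le_iSup (fun D : {D : Subgroup G // D ≤ (S : Subgroup G) ∧ Nat.card D = 2 ^ balK q} =>
    Cfsg.signalizerDelta 2 (D : Subgroup G)) ⟨D', hD'.trans hD, hD'c⟩

/-- A subgroup mapping onto components for many involutions has trivial cores. -/
theorem inf_core_eq_bot {X D : Subgroup G} (hD : D ≤ (S : Subgroup G))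
    (hc : 2 ^ balK q ≤ Nat.card D) (hXD : X ≤ centralizer (D : Set G))
    (hX : ∀ d ∈ D, d ≠ 1 → Cfsg.IsComponent (img d X)) {d : G} (hd : d ∈ D) (hd1 : d ≠ 1) :
    X ⊓ Cfsg.centralizerPPrimeCore 2 d = ⊥ := by
  refine le_bot_iff.1 ?_
  rw [← F.delta_eq_bot hW hD hc]
  intro x hx
  refine Transitivity.mem_signalizerDelta.2 fun e he he1 => ?_
  have hXe : X ≤ centralizer ({e} : Set G) :=
    hXD.trans (centralizer_le (Set.singleton_subset_iff.2 he))
  set Y := X ⊓ Cfsg.centralizerPPrimeCore 2 d
  have hn : img e X ≤ normalizer (img e Y : Set (Top2 e)) := by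
    have hXd : X ≤ centralizer ({d} : Set G) :=
      hXD.trans (centralizer_le (Set.singleton_subset_iff.2 hd))
    have h1 : X ≤ normalizer (Y : Set G) :=
      (le_inf Subgroup.le_normalizer (hXd.trans fun c hc =>
        Balance.le_normalizer_coreIn (centralizer ({d} : Set G)) hc)).trans
        inf_normalizer_le_normalizer_inf
    exact (map_mono ((comap_mono h1).trans (le_normalizer_comap _))).trans (le_normalizer_map _)
  have hodd : Odd (Nat.card (img e Y)) := by
    refine ((odd_card_core d).of_dvd_nat ?_)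
    refine (card_map_dvd _ _).trans ?_
    rw [Nat.card_congr (subgroupOfEquivOfLe (inf_le_left.trans hXe)).toEquiv]
    exact card_dvd_of_le inf_le_right
  have hxe := hXe hx.1
  refine (proj_eq_one_iff (a := e) hxe).1 ?_
  exact (F.hyp.topHyp he1).eq_one_of_centralizes (hX e he he1) (mem_img_of_mem hxe hx.1)
    ((F.hyp.topHyp he1).le_centralizer_of_odd (hX e he he1) hodd hn (mem_img_of_mem hxe hx))

include hP

/-- `C(T)` normalizes the block when `T` meets `U` and `B` largely. -/
theorem centralizer_le_normalizer_block {T : Subgroup G} (hT : T ≤ (S : Subgroup G))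
    (hTU : T ⊓ U ≠ ⊥) (hTB : 2 ^ balK q ≤ Nat.card ↥(T ⊓ B)) :
    centralizer (T : Set G) ≤ normalizer (res B : Set G) := by
  intro c hc
  set L := res B
  set D := T ⊓ B
  set L' := L.map (MulAut.conj c).toMonoidHom
  obtain ⟨⟨u, huT, huU⟩, hu1⟩ := Subgroup.ne_bot_iff_exists_ne_one.1 hTU
  have hu1' : u ≠ 1 := fun e => hu1 (Subtype.ext e)
  have hDS : D ≤ (S : Subgroup G) := inf_le_left.trans hT
  have hLD : L ≤ centralizer (D : Set G) :=
    (res_le B).trans (centralizer_le (SetLike.coe_subset_coe.2 inf_le_right))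
  have hcD : ∀ d ∈ D, c * d * c⁻¹ = d := fun d hd => by
    rw [← mem_centralizer_iff.1 hc d hd.1, mul_inv_cancel_right]
  have hL'D : L' ≤ centralizer (D : Set G) := by
    rintro _ ⟨l, hl, rfl⟩
    refine mem_centralizer_iff.2 fun d hd => ?_
    show d * (c * l * c⁻¹) = c * l * c⁻¹ * d
    calc d * (c * l * c⁻¹) = c * d * c⁻¹ * (c * l * c⁻¹) := by rw [hcD d hd]
      _ = c * (d * l) * c⁻¹ := by group
      _ = c * (l * d) * c⁻¹ := by rw [mem_centralizer_iff.1 (hLD hl) d hd]
      _ = c * l * c⁻¹ * (c * d * c⁻¹) := by group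
      _ = _ := by rw [hcD d hd]
  have hu' : u ∈ L' := ⟨u, F.le_res_piece hP huU, by
    show c * u * c⁻¹ = u
    rw [← mem_centralizer_iff.1 hc u huT, mul_inv_cancel_right]⟩
  have himg : ∀ d ∈ D, d ≠ 1 → img d (L ⊔ L') = img d L := by
    intro d hd hd1
    have hCd : centralizer (D : Set G) ≤ centralizer ({d} : Set G) :=
      centralizer_le (Set.singleton_subset_iff.2 hd)
    have hdS : d ∈ (S : Subgroup G) := hDS hd
    have hcC : c ∈ centralizer ({d} : Set G) :=
      mem_centralizer_singleton_iff.2 (mem_centralizer_iff.1 hc d hd.1).symm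
    have hK := F.isComponent_img_res hP hd.2 hd1
    have e : img d L' = (img d L).map (MulAut.conj (proj d ⟨c, hcC⟩)).toMonoidHom := by
      ext z
      constructor
      · intro hz
        obtain ⟨y, hy, ⟨l, hl, rfl⟩, rfl⟩ := exists_of_mem_img hz
        refine ⟨proj d ⟨l, hCd (hLD hl)⟩, mem_img_of_mem _ hl, ?_⟩
        show proj d ⟨c, hcC⟩ * proj d ⟨l, _⟩ * (proj d ⟨c, hcC⟩)⁻¹ = _
        rw [← map_inv, ← map_mul, ← map_mul]
        rfl
      · rintro ⟨w, hw, rfl⟩
        obtain ⟨l, hl, hlL, rfl⟩ := exists_of_mem_img hw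
        show proj d ⟨c, hcC⟩ * proj d ⟨l, hl⟩ * (proj d ⟨c, hcC⟩)⁻¹ ∈ _
        rw [← map_inv, ← map_mul, ← map_mul]
        exact mem_img_of_mem _ ⟨l, hlL, rfl⟩
    have heq : img d L' = img d L := by
      have huC := F.hyp.le_centralizer hdS (hT huT)
      rw [e]
      refine F.hyp.img_eq_of_meet hdS hd1 (Components.IsComponent.conj hK _) hK (hT huT) hu1'
        ?_ (mem_img_of_mem huC (F.le_res_piece hP huU))
      rw [← e]
      exact mem_img_of_mem huC hu'
    refine le_antisymm ((img_mono (sup_le ?_ ?_)).trans (img_lift d _).le) (img_mono le_sup_left)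
    · exact le_lift_img (hLD.trans hCd)
    · exact heq ▸ le_lift_img (hL'D.trans hCd)
  have hne : ∃ d ∈ D, d ≠ 1 := by
    by_contra! hd
    rw [(eq_bot_iff_forall D).2 hd, Subgroup.card_bot] at hTB
    exact absurd hTB (not_le.2 (Nat.one_lt_two_pow (by have := one_le_balK q; omega)))
  obtain ⟨d, hd, hd1⟩ := hne
  have hbot := F.inf_core_eq_bot hW hDS hTB (sup_le hLD hL'D)
    (fun e he he1 => (himg e he he1).symm ▸ F.isComponent_img_res hP he.2 he1) hd hd1
  have hle : L' ≤ L := fun x hx => by
    have hCd : centralizer (D : Set G) ≤ centralizer ({d} : Set G) :=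
      centralizer_le (Set.singleton_subset_iff.2 hd)
    have hxC := hCd (hL'D hx)
    obtain ⟨l, hl, hlL, he⟩ := exists_of_mem_img
      ((himg d hd hd1).le (mem_img_of_mem hxC (mem_sup_right hx)))
    have h1 : l⁻¹ * x ∈ (L ⊔ L') ⊓ Cfsg.centralizerPPrimeCore 2 d := by
      refine ⟨(L ⊔ L').mul_mem ((L ⊔ L').inv_mem (mem_sup_left hlL)) (mem_sup_right hx),
        (proj_eq_one_iff (a := d) (mul_mem (inv_mem hl) hxC)).1 ?_⟩
      show proj d (⟨l, hl⟩⁻¹ * ⟨x, hxC⟩) = 1
      rw [map_mul, map_inv, he, inv_mul_cancel]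
    rw [hbot, mem_bot, inv_mul_eq_one] at h1
    exact h1 ▸ hlL
  exact mem_normalizer_iff_map_conj_eq.2
    (eq_of_le_of_card_ge hle (card_map_of_injective (MulEquiv.injective _)).ge)

/-- Blocks of distinct pieces commute. -/
theorem commutator_eq_bot {U' B' : Subgroup G} (hP' : Piece (S : Subgroup G) q U' B')
    (hne : U ≠ U') : ⁅res B, res B'⁆ = ⊥ := by
  haveI : Fact (Nat.Prime 2) := ⟨Nat.prime_two⟩
  obtain ⟨hU', hUB'⟩ := (F.pair hP hP').resolve_left fun e => hne e.1
  set L := res B
  set L' := res B'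
  set R := ⁅L, L'⁆
  have hcore : ∀ b ∈ B ⊓ B', b ≠ 1 → R ≤ Cfsg.centralizerPPrimeCore 2 b := by
    intro b hb hb1
    have hbS : b ∈ (S : Subgroup G) := hP.leB hb.1
    have h1 := F.res_le_centralizer_singleton hP hb.1
    have h2 := F.res_le_centralizer_singleton hP' hb.2
    obtain ⟨M, hM, hMU, -, he⟩ := F.exists_comp_res hP hb.1 hb1
    obtain ⟨M', hM', hMU', -, he'⟩ := F.exists_comp_res hP' hb.2 hb1
    have hd : img b M ≠ img b M' := fun e => hne (by
      rw [← hMU, ← hMU', F.hyp.comp_inf_eq hbS hb1 hM, F.hyp.comp_inf_eq hbS hb1 hM', e])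
    intro x hx
    have hxC : x ∈ centralizer ({b} : Set G) :=
      ((commutator_mono h1 h2).trans (commutator_le_self _)) hx
    refine (proj_eq_one_iff (a := b) hxC).1 (mem_bot.1 ?_)
    rw [← Components.IsComponent.commutator_eq_bot_of_ne hM.isComponent hM'.isComponent hd,
      ← he, ← he', ← img_commutator h1 h2]
    exact mem_img_of_mem hxC hx
  obtain ⟨V, C, hV, hVB, hVB'⟩ := F.exists_third hP hP' hU'
  have hVi : V ≤ B ⊓ B' := le_inf hVB hVB'
  obtain ⟨⟨v, hv⟩, hv1⟩ := Subgroup.ne_bot_iff_exists_ne_one.1 (F.ne_bot hV)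
  have hRodd : Odd (Nat.card R) := (odd_card_core v).of_dvd_nat
    (card_dvd_of_le (hcore v (hVi hv) fun e => hv1 (Subtype.ext e)))
  have hRn : L' ≤ normalizer (R : Set G) := normalizer_commutator_ge_right L L'
  have hRn' : L ≤ normalizer (R : Set G) := normalizer_commutator_ge_left L L'
  have key : R ≤ centralizer (L' : Set G) := by
    have hUe : Cfsg.IsElementaryAbelian 2 U := Transitivity.elab_of_le_of_elab F.elab_S hP.leU
    haveI := hUe.1
    refine Coprime.le_of_forall_inf_centralizer_le
      (Transitivity.not_isCyclic_of_elab hUe (by rw [hP.card]; exact F.four))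
      ((F.le_res_piece hP).trans hRn')
      (Transitivity.coprime_card_of_elab hUe hRodd.not_two_dvd_nat) fun u hu hu1 => ?_
    set Y := R ⊓ centralizer ({u} : Set G)
    set D := V ⊔ zpowers u
    have huS := hP.leU hu
    have hDS : D ≤ (S : Subgroup G) := sup_le hV.leU (zpowers_le.2 huS)
    have hDB' : D ≤ B' := sup_le hVB' (zpowers_le.2 (hUB' hu))
    have hYD : Y ≤ centralizer (D : Set G) := by
      rw [le_centralizer_iff]
      refine sup_le (fun w hw => mem_centralizer_iff.2 fun y hy => ?_)
        (zpowers_le.2 (mem_centralizer_iff.2 fun y hy => mem_centralizer_singleton_iff.1 hy.2))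
      by_cases hw1 : w = 1
      · rw [hw1, one_mul, mul_one]
      exact mem_centralizer_singleton_iff.1 (core_le w (hcore w (hVi hw) hw1 hy.1))
    have hL'D : L' ≤ centralizer (D : Set G) :=
      (res_le B').trans (centralizer_le (SetLike.coe_subset_coe.2 hDB'))
    have hYn : L' ≤ normalizer (Y : Set G) :=
      (le_inf hRn ((res_le B').trans ((centralizer_le (Set.singleton_subset_iff.2 (hUB' hu))).trans
        Subgroup.le_normalizer))).trans inf_normalizer_le_normalizer_inf
    have hcard : 2 ^ balK q ≤ Nat.card D := by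
      have hd : V ⊓ zpowers u = ⊥ := le_bot_iff.1
        ((inf_le_inf hVB (zpowers_le.2 hu)).trans (inf_comm B U ▸ hP.disj.le))
      rw [F.card_sup hV.leU (zpowers_le.2 huS) hd, hV.card, Nat.card_zpowers,
        orderOf_eq_prime (show u ^ 2 = 1 by rw [pow_two]; exact F.sq u huS) hu1]
      obtain ⟨n, hn2, rfl⟩ := F.exists_pow
      unfold balK
      split
      · rename_i h; rw [h]; norm_num
      · rename_i h
        rw [← pow_succ]
        refine Nat.pow_le_pow_right two_pos ?_
        by_contra hlt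
        exact h (by rw [show n = 2 by omega]; norm_num)
    intro r hr
    refine mem_centralizer_iff.2 fun l hl => ?_
    have hmem : l * r * l⁻¹ * r⁻¹ ∈ Cfsg.signalizerDelta 2 D := by
      refine Transitivity.mem_signalizerDelta.2 fun d hd hd1 => ?_
      have hdS : d ∈ (S : Subgroup G) := hDS hd
      have hCd : centralizer (D : Set G) ≤ centralizer ({d} : Set G) :=
        centralizer_le (Set.singleton_subset_iff.2 hd)
      have hlC := hCd (hL'D hl)
      have hrC := hCd (hYD hr)
      have hodd : Odd (Nat.card (img d Y)) := hRodd.of_dvd_nat ((card_map_dvd _ _).trans (by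
        rw [Nat.card_congr (subgroupOfEquivOfLe (hYD.trans hCd)).toEquiv]
        exact card_dvd_of_le inf_le_left))
      have hn : img d L' ≤ normalizer (img d Y : Set (Top2 d)) :=
        (map_mono ((comap_mono hYn).trans (le_normalizer_comap _))).trans (le_normalizer_map _)
      have hc := (F.hyp.topHyp hd1).le_centralizer_of_odd (F.isComponent_img_res hP' (hDB' hd) hd1)
        hodd hn (mem_img_of_mem hrC hr)
      refine (proj_eq_one_iff (a := d) (mul_mem (mul_mem (mul_mem hlC hrC) (inv_mem hlC))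
        (inv_mem hrC))).1 ?_
      show proj d (⟨l, hlC⟩ * ⟨r, hrC⟩ * ⟨l, hlC⟩⁻¹ * ⟨r, hrC⟩⁻¹) = 1
      rw [map_mul, map_mul, map_mul, map_inv, map_inv,
        mem_centralizer_iff.1 hc _ (mem_img_of_mem hlC hl)]
      group
    rw [F.delta_eq_bot hW hDS hcard, mem_bot, mul_inv_eq_one, mul_inv_eq_iff_eq_mul] at hmem
    exact hmem
  have h1 : ⁅R, L'⁆ = ⊥ := commutator_eq_bot_iff_le_centralizer.2 key
  have h2 := commutator_commutator_eq_bot_of_rotate (H₁ := L') (H₂ := L') (H₃ := L)
    (by rw [commutator_comm L' L]; exact h1) h1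
  rw [res_perfect, commutator_comm] at h2
  exact h2

end Frame

end CfsgLib.Walter.Rank
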