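import Cfsg.Agent.Walter.Rank.Structure
import Cfsg.Agent.SolvSig.Theorem

/-!
# Walter, rank at least four: the signalizer closure and covering of centralizers

`clo q T`: generated by the `Δ(D)`, `D ≤ T` of order `2 ^ balK q`; it is the same for all `T ≤ S` of
order at least `2 ^ (balK q + 1)`, odd and solvable.
-/

set_option autoImplicit false
set_option linter.style.haveILetI false
set_option linter.unusedSectionVars false

open Subgroup

namespace CfsgLib.Walter.Rank

universe u

variable {G : Type u} [Group G] [Finite G]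

/-- The closure of the `Δ(D)`, `D ≤ T` of order `2 ^ balK q`. -/
def clo (q : ℕ) (T : Subgroup G) : Subgroup G :=
  ⨆ D : {D : Subgroup G // D ≤ T ∧ Nat.card D = 2 ^ balK q},
    Cfsg.signalizerDelta 2 (D : Subgroup G)

theorem conj_mem_delta {D : Subgroup G} {n r : G} (hr : r ∈ Cfsg.signalizerDelta 2 D) :
    n * r * n⁻¹ ∈ Cfsg.signalizerDelta 2 (D.map (MulAut.conj n).toMonoidHom) := by
  refine Transitivity.mem_signalizerDelta.2 ?_
  rintro _ ⟨d, hd, rfl⟩ hne
  exact core_conj_mem (Transitivity.mem_signalizerDelta.1 hr d hd fun e => hne (by rw [e, map_one]))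

theorem normalizer_le_normalizer_clo (q : ℕ) (T : Subgroup G) :
    normalizer (T : Set G) ≤ normalizer (clo q T : Set G) := by
  intro n hn
  have hT : T.map (MulAut.conj n).toMonoidHom = T := mem_normalizer_iff_map_conj_eq.1 hn
  refine mem_normalizer_iff_map_conj_eq.2 (eq_of_le_of_card_ge ?_
    (card_map_of_injective (MulEquiv.injective _)).ge)
  rw [clo, Subgroup.map_iSup]
  refine iSup_le fun D => ?_
  rintro _ ⟨r, hr, rfl⟩
  exact le_iSup (fun D : {D : Subgroup G // D ≤ T ∧ Nat.card D = 2 ^ balK q} =>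
    Cfsg.signalizerDelta 2 (D : Subgroup G))
    ⟨_, (map_mono D.2.1).trans hT.le,
      (card_map_of_injective (MulEquiv.injective _)).trans D.2.2⟩
    (conj_mem_delta hr)

theorem centralizer_le_normalizer_clo (q : ℕ) (T : Subgroup G) :
    centralizer (T : Set G) ≤ normalizer (clo q T : Set G) :=
  (centralizer_le_normalizer _).trans (normalizer_le_normalizer_clo q T)

namespace Hyp

variable {S : Sylow 2 G} (h : Hyp S) {a : G} (ha : a ∈ (S : Subgroup G))
include h ha

/-- A centralizer whose odd core and components are covered by `M` lies in `M`. -/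
theorem centralizer_le_of_cover (ha1 : a ≠ 1) {M : Subgroup G}
    (hN : normalizer ((S : Subgroup G) : Set G) ≤ M)
    (hO : Cfsg.centralizerPPrimeCore 2 a ≤ M)
    (hL : ∀ L, Cfsg.IsComponent L → L ≤ img a M) : centralizer ({a} : Set G) ≤ M := by
  haveI : Fact (Nat.Prime 2) := ⟨Nat.prime_two⟩
  have hSM : (S : Subgroup G) ≤ M := Subgroup.le_normalizer.trans hN
  have hX := h.topHyp ha1
  have hSC := h.le_centralizer ha
  set P := imgSylow S hSC
  set N := Cfsg.layer (Top2 a) ⊔ Cfsg.pCore 2 (Top2 a)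
  have hNM : N ≤ img a M :=
    sup_le (sSup_le fun L hLc => hL L hLc) ((PLocal.pCore_le_sylow P).trans (img_mono hSM))
  have hnP : normalizer ((P : Subgroup (Top2 a)) : Set (Top2 a)) ≤ img a M := by
    intro z hz
    have hp : IsPGroup 2 ((S : Subgroup G).subgroupOf (centralizer ({a} : Set G))) :=
      S.isPGroup'.comap_subtype
    rw [coe_imgSylow, img, PLocal.normalizer_map_mk'_eq (p := 2) _
      (PLocal.coprime_card_pPrimeCore 2 _) hp] at hz
    obtain ⟨g, hg, rfl⟩ := hz
    refine mem_img_of_mem g.2 (hN ?_)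
    rw [mem_normalizer_iff_map_conj_eq]
    refine eq_of_le_of_card_ge ?_ (card_map_of_injective (MulEquiv.injective _)).ge
    rintro _ ⟨x, hx, rfl⟩
    exact (mem_normalizer_iff.1 hg ⟨x, hSC hx⟩).1 hx
  haveI : N.Normal := inferInstance
  have htop : img a M = ⊤ := by
    rw [eq_top_iff, ← Sylow.normalizer_sup_eq_top' (N := N) P (hX.sylow_le P)]
    exact sup_le hnP hNM
  intro c hc
  obtain ⟨x, hx, hxM, he⟩ := exists_of_mem_img (htop.ge (mem_top (proj a ⟨c, hc⟩)))
  have h1 : x⁻¹ * c ∈ Cfsg.centralizerPPrimeCore 2 a := by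
    refine (proj_eq_one_iff (a := a) (mul_mem (inv_mem hx) hc)).1 ?_
    show proj a (⟨x, hx⟩⁻¹ * ⟨c, hc⟩) = 1
    rw [map_mul, map_inv, he, inv_mul_cancel]
  rw [← mul_inv_cancel_left x c]
  exact M.mul_mem hxM (hO h1)

/-- The odd core is generated by centralizers of hyperplanes. -/
theorem core_le_of_hyperplanes (hsq : ∀ s ∈ (S : Subgroup G), s * s = 1) {M : Subgroup G}
    (hM : ∀ E ≤ (S : Subgroup G), Nat.card (S : Subgroup G) ≤ 2 * Nat.card E →
      centralizer (E : Set G) ≤ M) : Cfsg.centralizerPPrimeCore 2 a ≤ M := by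
  haveI : Fact (Nat.Prime 2) := ⟨Nat.prime_two⟩
  exact Transitivity.le_of_forall_hyperplane (p := 2)
    ⟨h.comm, fun s hs => by rw [pow_two]; exact hsq s hs⟩
    ((h.le_centralizer ha).trans fun c hc =>
      Balance.le_normalizer_coreIn (centralizer ({a} : Set G)) hc)
    (Transitivity.not_dvd_centralizerPPrimeCore a) fun E hE hc => inf_le_right.trans (hM E hE hc)

/-- A component centralized by `T ≤ S` is covered by `C(T)`. -/
theorem le_img_centralizer {T : Subgroup G} (hT : T ≤ (S : Subgroup G)) {L : Subgroup (Top2 a)}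
    (hc : img a T ≤ centralizer (L : Set (Top2 a))) :
    L ≤ img a (centralizer (T : Set G)) := by
  haveI : Fact (Nat.Prime 2) := ⟨Nat.prime_two⟩
  have hTC := hT.trans (h.le_centralizer ha)
  refine (le_centralizer_iff.1 hc).trans (le_of_eq ?_)
  have hp : IsPGroup 2 (T.subgroupOf (centralizer ({a} : Set G))) :=
    (S.isPGroup'.to_le hT).comap_subtype
  rw [img, PLocal.centralizer_map_mk'_eq (p := 2) _ (PLocal.coprime_card_pPrimeCore 2 _) hp, img]
  congr 1
  ext x
  rw [mem_subgroupOf, mem_centralizer_iff, mem_centralizer_iff]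
  exact ⟨fun hx t ht => congrArg Subtype.val (hx ⟨t, hTC ht⟩ ht),
    fun hx t ht => Subtype.ext (hx t ht)⟩

end Hyp

namespace Frame

variable {S : Sylow 2 G} {q : ℕ} (F : Frame S q)
include F

theorem delta_le_kFix_bot {D : Subgroup G} (hD : D ≤ (S : Subgroup G))
    (hc : Nat.card D = 2 ^ balK q) :
    Cfsg.signalizerDelta 2 D ≤ Transitivity.kFix 2 (S : Subgroup G) ⊥ := by
  haveI : Fact (Nat.Prime 2) := ⟨Nat.prime_two⟩
  refine le_trans (le_inf le_rfl ?_) (Transitivity.delta_inf_centralizer_le_kFix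
    (one_le_balK q) F.isKBalanced F.elab_S hD hc bot_le)
  exact fun x _ => mem_centralizer_iff.2 fun y hy => by
    rw [mem_bot.1 hy, one_mul, mul_one]

/-- `clo` does not depend on `T`. -/
theorem clo_eq {T : Subgroup G} (hT : T ≤ (S : Subgroup G))
    (hc : 2 ^ (balK q + 1) ≤ Nat.card T) : clo q T = clo q (S : Subgroup G) := by
  haveI : Fact (Nat.Prime 2) := ⟨Nat.prime_two⟩
  refine le_antisymm (iSup_le fun D => le_iSup
    (fun D : {D : Subgroup G // D ≤ (S : Subgroup G) ∧ Nat.card D = 2 ^ balK q} =>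
      Cfsg.signalizerDelta 2 (D : Subgroup G)) ⟨D, D.2.1.trans hT, D.2.2⟩)
    (iSup_le fun D => (F.delta_le_kFix_bot D.2.1 D.2.2).trans (iSup_le fun E => ?_))
  have h1 := F.card_mul_le E.2.1 hT
  have h2 : 2 ^ balK q ≤ Nat.card ↥((E : Subgroup G) ⊓ T) := by
    have h3 := Nat.mul_le_mul E.2.2.1 hc
    rw [mul_assoc] at h3
    have h4 : Nat.card (S : Subgroup G) * 2 ^ (balK q + 1) ≤
        2 * (Nat.card (S : Subgroup G) * Nat.card ↥((E : Subgroup G) ⊓ T)) :=
      h3.trans (Nat.mul_le_mul_left 2 h1)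
    rw [pow_succ', mul_left_comm] at h4
    exact Nat.le_of_mul_le_mul_left (Nat.le_of_mul_le_mul_left h4 two_pos) Nat.card_pos
  obtain ⟨D', hD', hD'c⟩ := Transitivity.exists_le_card_eq F.elab_S (inf_le_of_right_le hT) h2
  exact (inf_le_left.trans (Transitivity.signalizerDelta_anti (hD'.trans inf_le_left))).trans
    (le_iSup (fun D : {D : Subgroup G // D ≤ T ∧ Nat.card D = 2 ^ balK q} =>
      Cfsg.signalizerDelta 2 (D : Subgroup G)) ⟨D', hD'.trans inf_le_right, hD'c⟩)

theorem centralizer_le_clo {T : Subgroup G} (hT : T ≤ (S : Subgroup G))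
    (hc : 2 ^ (balK q + 1) ≤ Nat.card T) :
    centralizer (T : Set G) ≤ normalizer (clo q (S : Subgroup G) : Set G) :=
  F.clo_eq hT hc ▸ centralizer_le_normalizer_clo q T

theorem isSolvable_clo : Group.IsSolvable (clo q (S : Subgroup G)) := by
  haveI : Fact (Nat.Prime 2) := ⟨Nat.prime_two⟩
  have hA := F.elab_S
  have hsol : ∀ a ∈ (S : Subgroup G), a ≠ 1 →
      Group.IsSolvable ↥(Cfsg.centralizerPPrimeCore 2 a) := fun a _ _ =>
    Cfsg.Agent.S0205.result (odd_card_core a)
  have hθ : Cfsg.IsSolvableSignalizerFunctor 2 (S : Subgroup G)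
      (fun a => Transitivity.kFix 2 (S : Subgroup G) (zpowers a)) :=
    ⟨Transitivity.isSignalizerFunctor_kFix (one_le_balK q) F.isKBalanced hA F.pow_le_S hsol,
      fun a ha ha1 => Components.isSolvable_mono (hsol a ha ha1)
        (Transitivity.kFix_le_core (mem_zpowers a) ha1)⟩
  have hA3 : 2 ^ 3 ≤ Nat.card (S : Subgroup G) :=
    (Nat.pow_le_pow_right two_pos (by unfold balK; split <;> omega)).trans F.pow_le_S
  refine Components.isSolvable_mono (SolvSig.isSolvable_signalizerClosure hA hA3 hθ).1 ?_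
  refine iSup_le fun D => (F.delta_le_kFix_bot D.2.1 D.2.2).trans (iSup_le fun E => ?_)
  obtain ⟨a, ha, ha1⟩ : ∃ a ∈ (E : Subgroup G), a ≠ 1 := by
    by_contra! he
    have h1 := E.2.2.1
    rw [(eq_bot_iff_forall _).2 he, Subgroup.card_bot] at h1
    omega
  exact (le_iSup
    (fun B : {B : Subgroup G // B ≤ (S : Subgroup G) ∧
        Nat.card (S : Subgroup G) ≤ 2 * Nat.card B ∧ zpowers a ≤ B} =>
      Cfsg.signalizerDelta 2 (B : Subgroup G) ⊓ centralizer ((B : Subgroup G) : Set G))
    ⟨E, E.2.1, E.2.2.1, zpowers_le.2 ha⟩).trans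
    (Transitivity.le_signalizerClosure
      (θ := fun a => Transitivity.kFix 2 (S : Subgroup G) (zpowers a)) (E.2.1 ha) ha1)

/-- With a non-trivial closure all centralizers of involutions of `S` lie in a proper subgroup. -/
theorem exists_proper_of_clo (hW : clo q (S : Subgroup G) ≠ ⊥) :
    ∃ M : Subgroup G, M ≠ ⊤ ∧ normalizer ((S : Subgroup G) : Set G) ≤ M ∧
      ∀ a ∈ (S : Subgroup G), a ≠ 1 → centralizer ({a} : Set G) ≤ M := by
  haveI : Fact (Nat.Prime 2) := ⟨Nat.prime_two⟩
  haveI := F.hyp.simple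
  set W := clo q (S : Subgroup G)
  have hNS : normalizer ((S : Subgroup G) : Set G) ≤ normalizer (W : Set G) :=
    normalizer_le_normalizer_clo q _
  refine ⟨normalizer (W : Set G), fun e => ?_, hNS, fun a ha ha1 => ?_⟩
  · haveI : W.Normal := normalizer_eq_top_iff.1 e
    rcases IsSimpleGroup.eq_bot_or_eq_top_of_normal W inferInstance with e' | e'
    · exact hW e'
    · haveI : Group.IsSolvable W := F.isSolvable_clo
      haveI : Group.IsSolvable (⊤ : Subgroup G) := e' ▸ F.isSolvable_clo
      haveI : Group.IsSolvable G := Group.isSolvable_of_surjective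
        (f := (⊤ : Subgroup G).subtype) fun g => ⟨⟨g, mem_top g⟩, rfl⟩
      exact F.hyp.notComm ⟨⟨fun x y =>
        IsSimpleGroup.comm_iff_isSolvable.2 inferInstance x y⟩⟩
  · refine F.hyp.centralizer_le_of_cover ha ha1 hNS (F.hyp.core_le_of_hyperplanes ha F.sq
      fun E hE hc => F.centralizer_le_clo hE ?_) fun L hL => ?_
    · have h1 := F.pow_le_S.trans hc
      rw [pow_succ' 2 (balK q + 1)] at h1
      omega
    · obtain ⟨M, hM, rfl⟩ := F.hyp.exists_comp ha ha1 hL
      set T := cenS (S : Subgroup G) a M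
      obtain ⟨U, B, hP⟩ := F.exists_piece
      have hTc : 2 ^ (balK q + 1) ≤ Nat.card T := by
        refine (F.pow_le_card hP).trans (Nat.le_of_mul_le_mul_left ?_
          (show 0 < q from (show 0 < 4 by norm_num).trans_le F.four))
        rw [F.mul_card hP, F.hyp.card_eq_mul ha ha1 hM]
        exact Nat.mul_le_mul_right _ (F.bound S a M ha ha1 hM)
      refine (F.hyp.le_img_centralizer (T := T) ha inf_le_left ?_).trans
        (img_mono (F.centralizer_le_clo inf_le_left hTc))
      exact (img_mono inf_le_right).trans (img_lift a _).le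

end Frame

end CfsgLib.Walter.Rank
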