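import Cfsg.Agent.Walter.Rank.CompTypeTwo
import Cfsg.Agent.Walter.SE.Rigid
import Cfsg.Agent.Linear.SL2Sylow
import Cfsg.Agent.Walter.PSLOdd

/-!
# Walter, rank at least four: facts about the components

For `CompType K`: simplicity, the Sylow 2-subgroups, a cycle of odd order on their involutions,
involution centralizers have smaller perfect subgroups, and balance when the Sylow 2-subgroups have
order at least 16.
-/

set_option autoImplicit false
set_option linter.style.haveILetI false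
set_option linter.unusedSectionVars false

open Subgroup
open scoped Pointwise

namespace CfsgLib.Walter.Rank

universe u

theorem zmodTwo_sq : ∀ a : Multiplicative (ZMod 2), a * a = 1 := by decide

variable {K : Type u} [Group K] [Finite K]

theorem exists_involution_of_not_comm (hs : IsSimpleGroup K) (hnc : ¬ IsMulCommutative K) :
    ∃ t : K, orderOf t = 2 := by
  haveI : Fact (Nat.Prime 2) := ⟨Nat.prime_two⟩
  haveI := hs
  by_contra h
  haveI : Group.IsSolvable K := Cfsg.Agent.S0205.result (Nat.not_even_iff_odd.1 fun he =>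
    h (exists_prime_orderOf_dvd_card' 2 (even_iff_two_dvd.1 he)))
  exact hnc ⟨⟨IsSimpleGroup.comm_iff_isSolvable.2 inferInstance⟩⟩

theorem isPSLOdd_sylow (hK : IsPSLOdd K) (T : Sylow 2 K) :
    (∀ a ∈ (T : Subgroup K), a * a = 1) ∧ Nat.card (T : Subgroup K) = 4 := by
  haveI : Fact (Nat.Prime 2) := ⟨Nat.prime_two⟩
  obtain ⟨F, iF, fF, hq, -, ⟨e⟩⟩ := hK
  let P : Sylow 2 (Matrix.ProjectiveSpecialLinearGroup (Fin 2) F) :=
    T.mapSurjective (f := e.toMonoidHom) e.surjective
  haveI hP := Linear.isKleinFour_sylow_PSL_two hq P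
  refine ⟨fun a ha => e.injective ?_, ?_⟩
  · rw [map_mul, map_one]
    exact congrArg Subtype.val (IsKleinFour.mul_self
      (⟨e a, ⟨a, ha, rfl⟩⟩ : (P : Subgroup (Matrix.ProjectiveSpecialLinearGroup (Fin 2) F))))
  · rw [← card_map_of_injective (f := e.toMonoidHom) e.injective]
    exact hP.card_four

theorem isPSLOdd_twoType (hK : IsPSLOdd K) : TwoType K := by
  intro T hT
  obtain ⟨P, hP⟩ := hT.exists_le_sylow
  obtain ⟨h1, h2⟩ := isPSLOdd_sylow hK P
  exact ⟨fun a ha => h1 a (hP ha), (card_le_of_le hP).trans (by omega)⟩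

theorem isJR_twoType (hK : IsJR K) : TwoType K := by
  classical
  haveI : Fact (Nat.Prime 2) := ⟨Nat.prime_two⟩
  intro T hT
  rcases eq_or_ne T ⊥ with rfl | hne
  · exact ⟨fun a ha => by rw [mem_bot.1 ha, one_mul], by rw [card_bot]; norm_num⟩
  haveI := (nontrivial_iff_ne_bot T).2 hne
  haveI := hT.center_nontrivial
  obtain ⟨z, hz⟩ := exists_prime_orderOf_dvd_card' (G := Subgroup.center T) 2 (by
    obtain ⟨k, hk⟩ := IsPGroup.iff_card.1 (hT.to_subgroup (Subgroup.center T))
    rcases k with _ | k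
    · have := Finite.one_lt_card (α := Subgroup.center T); omega
    · rw [hk, pow_succ]; exact dvd_mul_left 2 _)
  have hz2 : orderOf ((z : T) : K) = 2 := by rw [orderOf_coe, orderOf_coe, hz]
  obtain ⟨F, iF, fF, h8, h5, ⟨e⟩⟩ := hK.2 _ hz2
  have hTC : T ≤ centralizer ({((z : T) : K)} : Set K) := fun a ha =>
    mem_centralizer_singleton_iff.2 (congrArg Subtype.val (mem_center_iff.1 z.2 ⟨a, ha⟩))
  let g : centralizer ({((z : T) : K)} : Set K) →* Matrix.ProjectiveSpecialLinearGroup (Fin 2) F :=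
    (MonoidHom.snd _ _).comp e.toMonoidHom
  have hp : IsPGroup 2 ((T.subgroupOf (centralizer ({((z : T) : K)} : Set K))).map g) :=
    (hT.of_equiv (subgroupOfEquivOfLe hTC).symm).map g
  obtain ⟨W, hW⟩ := hp.exists_le_sylow
  haveI hW4 := Linear.isKleinFour_sylow_PSL_two h8 W
  refine ⟨fun a ha => ?_, ?_⟩
  · have h2 : e ⟨a, hTC ha⟩ * e ⟨a, hTC ha⟩ = 1 := by
      refine Prod.ext ?_ ?_
      · rw [Prod.fst_mul, Prod.fst_one]
        exact zmodTwo_sq _
      · exact congrArg Subtype.val (IsKleinFour.mul_self (⟨g ⟨a, hTC ha⟩,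
          hW ⟨_, mem_subgroupOf.2 ha, rfl⟩⟩ : (W : Subgroup (Matrix.ProjectiveSpecialLinearGroup (Fin 2) F))))
    rw [← map_mul, ← map_one e] at h2
    exact congrArg Subtype.val (e.injective h2)
  · let ι : T → Multiplicative (ZMod 2) ×
        (W : Subgroup (Matrix.ProjectiveSpecialLinearGroup (Fin 2) F)) := fun a =>
      ((e ⟨a, hTC a.2⟩).1, ⟨g ⟨a, hTC a.2⟩, hW ⟨_, mem_subgroupOf.2 a.2, rfl⟩⟩)
    have hι : Function.Injective ι := fun a b h => by
      have h' : e ⟨a, hTC a.2⟩ = e ⟨b, hTC b.2⟩ := Prod.ext (congrArg (fun z => z.1) h)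
        (congrArg (fun z => (z.2 : Matrix.ProjectiveSpecialLinearGroup (Fin 2) F)) h)
      exact Subtype.ext (congrArg Subtype.val (e.injective h') :)
    have := Nat.card_le_card_of_injective ι hι
    rwa [Nat.card_prod, Nat.card_congr Multiplicative.toAdd, Nat.card_zmod, hW4.card_four] at this

theorem CompType.isSimpleGroup (hK : CompType K) : IsSimpleGroup K := by
  rcases hK with h | h | ⟨h, -⟩
  exacts [h.isSimpleGroup, h.isSimpleGroup, h.1]

theorem CompType.four_le (hK : CompType K) (T : Sylow 2 K) : 4 ≤ Nat.card (T : Subgroup K) := by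
  rcases hK with h | h | ⟨h, hnc⟩
  · exact (isPSLOdd_sylow h T).2.ge
  · obtain ⟨n, hn, -, hd⟩ := h.data
    rw [(hd T).1]
    exact le_trans (by norm_num) (Nat.pow_le_pow_right (n := 2) (by norm_num) hn)
  · obtain ⟨t, ht⟩ := exists_involution_of_not_comm h.1 hnc
    rw [(h.facts (isJR_twoType h) ht).2 T]
    norm_num

theorem CompType.not_isMulCommutative (hK : CompType K) : ¬ IsMulCommutative K := by
  intro hc
  haveI := hK.isSimpleGroup
  have hp := Small.card_prime_of_simple_comm hc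
  obtain ⟨T⟩ : Nonempty (Sylow 2 K) := inferInstance
  have h4 := hK.four_le T
  rcases (Nat.dvd_prime hp).1 (T : Subgroup K).card_subgroup_dvd_card with h | h
  · omega
  · obtain ⟨k, hk⟩ := IsPGroup.iff_card.1 T.isPGroup'
    have hpk : (2 ^ k).Prime := by rw [← hk, h]; exact hp
    have h1 := hpk.pow_eq_iff.1 (rfl : 2 ^ k = 2 ^ k)
    omega

theorem CompType.sylow_sq (hK : CompType K) (T : Sylow 2 K) :
    ∀ a ∈ (T : Subgroup K), a * a = 1 := by
  rcases hK with h | h | ⟨h, -⟩
  · exact (isPSLOdd_sylow h T).1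
  · obtain ⟨n, -, -, hd⟩ := h.data
    exact (hd T).2.1
  · exact (isJR_twoType h T T.isPGroup').1

/-- A perfect subgroup of an involution centralizer has smaller Sylow 2-subgroups. -/
theorem CompType.card_lt_of_centralizer (hK : CompType K) {u : K} (hu : orderOf u = 2)
    {M : Subgroup K} (hM : M ≤ centralizer ({u} : Set K)) (hperf : ⁅M, M⁆ = M) (hM1 : M ≠ ⊥)
    (P : Sylow 2 M) (T : Sylow 2 K) :
    Nat.card (P : Subgroup M) < Nat.card (T : Subgroup K) := by
  classical
  haveI : Fact (Nat.Prime 2) := ⟨Nat.prime_two⟩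
  have htt : IsPSLOdd K ∨ IsJR K → TwoType K := fun h => h.elim isPSLOdd_twoType isJR_twoType
  rcases (show (IsPSLOdd K ∨ IsJR K) ∨ IsPSLTwo K by rcases hK with h | h | ⟨h, -⟩ <;> tauto) with h | h
  · have hT := htt h
    set P' := (P : Subgroup M).map M.subtype
    have hPc : Nat.card P' = Nat.card (P : Subgroup M) := card_map_of_injective M.subtype_injective
    have hP' : IsPGroup 2 P' := P.isPGroup'.map _
    have hle : Nat.card (P : Subgroup M) ≤ Nat.card (T : Subgroup K) := by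
      obtain ⟨Q, hQ⟩ := hP'.exists_le_sylow
      rw [← hPc, Nat.card_congr (T.equiv Q).toEquiv]
      exact card_le_of_le hQ
    refine lt_of_le_of_ne hle fun heq => ?_
    have hz : IsPGroup 2 (zpowers u) := IsPGroup.of_card (n := 1) (by rw [Nat.card_zpowers, hu, pow_one])
    have hn : P' ≤ normalizer (zpowers u : Set K) := by
      intro x hx
      obtain ⟨w, hw, rfl⟩ := hx
      refine (centralizer_le_normalizer _) ?_
      rw [← centralizer_eq_iff_zpowers]
      exact hM w.2
    obtain ⟨Q, hQ⟩ := (hz.to_sup_of_normal_left' hP' hn).exists_le_sylow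
    have hPQ : P' = (Q : Subgroup K) := eq_of_le_of_card_ge (le_sup_right.trans hQ)
      (le_of_eq (by rw [hPc, heq, Nat.card_congr (T.equiv Q).toEquiv]))
    obtain ⟨w, -, hw⟩ : u ∈ P' := hPQ ▸ hQ (mem_sup_left (mem_zpowers u))
    have hperf' : commutator M = ⊤ := Subgroup.map_injective M.subtype_injective (by
      rw [map_subtype_commutator, ← MonoidHom.range_eq_map, range_subtype]; exact hperf)
    have h1 := eq_one_of_central hperf' (hT.subgroup M) (z := w)
      (Subtype.ext (by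
        show (w : K) * (w : K) = 1
        rw [show (w : K) = u from hw]
        exact Small.mul_self_of_orderOf_two hu))
      fun g => Subtype.ext (by
        rw [coe_mul, coe_mul, show ((w : M) : K) = u from hw]
        exact mem_centralizer_singleton_iff.1 (hM g.2))
    rw [h1, map_one] at hw
    exact Small.ne_one_of_orderOf_two hu hw.symm
  · exfalso
    obtain ⟨n, -, -, hd⟩ := h.data
    obtain ⟨Q, hQ⟩ := (IsPGroup.of_card (n := 1) (by rw [Nat.card_zpowers, hu, pow_one]) :
      IsPGroup 2 (zpowers u)).exists_le_sylow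
    obtain ⟨-, hsq, hc, -⟩ := hd Q
    rw [hc u (hQ (mem_zpowers u)) (Small.ne_one_of_orderOf_two hu)] at hM
    refine hM1 (le_bot_iff.1 ?_)
    rw [← hperf]
    refine commutator_le.2 fun a ha b hb => mem_bot.2 ?_
    rw [commutatorElement_eq_one_iff_mul_comm]
    have ha' := hsq a (hM ha)
    have hb' := hsq b (hM hb)
    calc a * b = a * (a * b * (a * b)) * b := by rw [hsq _ (mul_mem (hM ha) (hM hb)), mul_one]
      _ = a * a * (b * a) * (b * b) := by group
      _ = b * a := by rw [ha', hb', one_mul, mul_one]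
where
  centralizer_eq_iff_zpowers {X : Type u} [Group X] {a : X} :
      centralizer ({a} : Set X) = centralizer ((zpowers a : Subgroup X) : Set X) := by
    rw [zpowers_eq_closure, centralizer_closure]

/-- An element of prime order `p = |T| - 1` permuting the involutions of `T` cyclically. -/
theorem exists_cycle_of_prime (T : Sylow 2 K) {p : ℕ} (hp : p.Prime) (hp2 : p ≠ 2)
    (hT : Nat.card (T : Subgroup K) = p + 1)
    (htrans : ∀ a ∈ (T : Subgroup K), a ≠ 1 → ∀ b ∈ (T : Subgroup K), b ≠ 1 →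
      ∃ n ∈ normalizer ((T : Subgroup K) : Set K), n * a * n⁻¹ = b)
    (hcent : ∀ c : K, orderOf c = p → (∀ s ∈ (T : Subgroup K), Commute c s) → False) :
    ∃ s ∈ normalizer ((T : Subgroup K) : Set K), Odd (orderOf s) ∧
      ∀ u ∈ (T : Subgroup K), u ≠ 1 → ∀ v ∈ (T : Subgroup K), v ≠ 1 →
        ∃ k : ℕ, s ^ k * u * (s ^ k)⁻¹ = v := by
  classical
  haveI : Fact p.Prime := ⟨hp⟩
  let N : Subgroup K := normalizer ((T : Subgroup K) : Set K)
  let I : Set K := {s | s ∈ (T : Subgroup K) ∧ s ≠ 1}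
  have hI : I.ncard = p := by
    rw [show I = ((T : Subgroup K) : Set K) \ {1} from rfl,
      Set.ncard_sdiff_singleton_of_mem (one_mem (T : Subgroup K)), ← Nat.card_coe_set_eq]
    show Nat.card (T : Subgroup K) - 1 = p
    omega
  obtain ⟨a, haT, ha1⟩ : ∃ a ∈ (T : Subgroup K), a ≠ 1 :=
    Set.nonempty_of_ncard_ne_zero (s := I) (by rw [hI]; exact hp.ne_zero)
  letI act : MulAction N I :=
    { smul := fun n s => ⟨(n : K) * s * (n : K)⁻¹, (mem_normalizer_iff.1 n.2 s).1 s.2.1,
        fun h => s.2.2 (conj_eq_one_iff.1 h)⟩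
      one_smul := fun s => Subtype.ext (show (1 : K) * s * (1 : K)⁻¹ = s by group)
      mul_smul := fun m n s => Subtype.ext (show ((m : K) * n) * s * ((m : K) * n)⁻¹ =
        (m : K) * ((n : K) * s * (n : K)⁻¹) * (m : K)⁻¹ by group) }
  have horb : MulAction.orbit N (⟨a, haT, ha1⟩ : I) = Set.univ := Set.eq_univ_of_forall fun b => by
    obtain ⟨n, hn, hnb⟩ := htrans a haT ha1 b b.2.1 b.2.2
    exact ⟨⟨n, hn⟩, Subtype.ext hnb⟩
  have hpN : p ∣ Nat.card N := by
    have h := MulAction.index_stabilizer N (⟨a, haT, ha1⟩ : I)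
    rw [horb, Set.ncard_univ, Nat.card_coe_set_eq, hI] at h
    exact h ▸ index_dvd_card _
  obtain ⟨⟨s, hsN⟩, hs⟩ := exists_prime_orderOf_dvd_card' (G := N) p hpN
  rw [Subgroup.orderOf_mk] at hs
  obtain ⟨b, hb, hb1, hsb⟩ : ∃ b ∈ (T : Subgroup K), b ≠ 1 ∧ ¬ Commute s b := by
    by_contra h
    refine hcent s hs fun b hb => ?_
    rcases eq_or_ne b 1 with rfl | hb1
    · exact Commute.one_right s
    · by_contra hc; exact h ⟨b, hb, hb1, hc⟩
  have hmem : ∀ (k : ℕ) {w : K}, w ∈ (T : Subgroup K) → s ^ k * w * (s ^ k)⁻¹ ∈ (T : Subgroup K) :=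
    fun k w hw => (mem_normalizer_iff.1 (pow_mem hsN k) w).1 hw
  let φ : Fin p → I := fun k => ⟨s ^ (k : ℕ) * b * (s ^ (k : ℕ))⁻¹, hmem k hb,
    fun h => hb1 (conj_eq_one_iff.1 h)⟩
  have hφ : Function.Injective φ := by
    intro i j h
    have h' : s ^ (i : ℕ) * b * (s ^ (i : ℕ))⁻¹ = s ^ (j : ℕ) * b * (s ^ (j : ℕ))⁻¹ :=
      congrArg Subtype.val h
    by_contra hne
    refine hsb ?_
    set d : ℤ := (j : ℤ) - i with hd
    have hc : Commute (s ^ d) b := by
      have h1 : s ^ d * b * (s ^ d)⁻¹ = b := by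
        rw [hd, zpow_sub, zpow_natCast, zpow_natCast]
        calc s ^ (j : ℕ) * (s ^ (i : ℕ))⁻¹ * b * (s ^ (j : ℕ) * (s ^ (i : ℕ))⁻¹)⁻¹
            = (s ^ (i : ℕ))⁻¹ * (s ^ (j : ℕ) * b * (s ^ (j : ℕ))⁻¹) * s ^ (i : ℕ) := by
              rw [show s ^ (j : ℕ) * (s ^ (i : ℕ))⁻¹ = (s ^ (i : ℕ))⁻¹ * s ^ (j : ℕ) from
                ((Commute.pow_pow_self s _ _).inv_left).eq.symm]
              group
          _ = b := by rw [← h']; group
      exact mul_inv_eq_iff_eq_mul.1 h1
    have hcop : Int.gcd d (p : ℤ) = 1 := by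
      rw [Int.gcd, Int.natAbs_natCast]
      refine (Nat.Coprime.symm ((Nat.Prime.coprime_iff_not_dvd hp).2 fun hdv => hne ?_))
      have h0 : d.natAbs = 0 := Nat.eq_zero_of_dvd_of_lt hdv (by
        have := i.2; have := j.2; omega)
      exact Fin.ext (by omega)
    obtain ⟨x, y, hxy⟩ := (Int.isCoprime_iff_gcd_eq_one.2 hcop)
    have : s = (s ^ d) ^ x := by
      conv_lhs => rw [← zpow_one s, ← hxy, zpow_add, zpow_mul' s x d, mul_comm y (p : ℤ), zpow_mul,
        zpow_natCast, ← hs, pow_orderOf_eq_one, one_zpow, mul_one]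
    rw [this]
    exact hc.zpow_left x
  have hφb : Function.Bijective φ := by
    refine (Nat.bijective_iff_injective_and_card φ).2 ⟨hφ, ?_⟩
    rw [Nat.card_fin, Nat.card_coe_set_eq, hI]
  refine ⟨s, hsN, hs ▸ hp.odd_of_ne_two hp2, fun u hu hu1 v hv hv1 => ?_⟩
  obtain ⟨i, hi⟩ := hφb.2 ⟨u, hu, hu1⟩
  obtain ⟨j, hj⟩ := hφb.2 ⟨v, hv, hv1⟩
  have hi' : s ^ (i : ℕ) * b * (s ^ (i : ℕ))⁻¹ = u := congrArg Subtype.val hi
  have hj' : s ^ (j : ℕ) * b * (s ^ (j : ℕ))⁻¹ = v := congrArg Subtype.val hj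
  refine ⟨(p - i) + j, ?_⟩
  have hps : s ^ p = 1 := orderOf_dvd_iff_pow_eq_one.1 hs.dvd
  have e1 : s ^ ((p - i) + j) * s ^ (i : ℕ) = s ^ (j : ℕ) := by
    rw [← pow_add, show p - (i : ℕ) + j + i = p + j by have := i.2; omega, pow_add, hps, one_mul]
  rw [← hi', ← hj', ← e1]
  group

theorem CompType.exists_cycle (hK : CompType K) (T : Sylow 2 K) :
    ∃ s ∈ normalizer ((T : Subgroup K) : Set K), Odd (orderOf s) ∧
      ∀ u ∈ (T : Subgroup K), u ≠ 1 → ∀ v ∈ (T : Subgroup K), v ≠ 1 →
        ∃ k : ℕ, s ^ k * u * (s ^ k)⁻¹ = v := by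
  classical
  have hsimp := hK.isSimpleGroup
  have hnc := hK.not_isMulCommutative
  rcases hK with h | h | ⟨h, -⟩
  · obtain ⟨hsq, h4⟩ := isPSLOdd_sylow h T
    refine exists_cycle_of_prime T Nat.prime_three (by norm_num) (by omega)
      (fun a ha ha1 b hb hb1 => exists_conj_of_simple' hnc (isPSLOdd_twoType h) T (Or.inl h4) ha ha1 hb hb1)
      fun c hc hcT => ?_
    haveI := Fintype.ofFinite (T : Subgroup K)
    rw [Nat.card_eq_fintype_card] at h4
    obtain ⟨a, ha⟩ := Fintype.exists_ne_of_one_lt_card (by omega) (1 : (T : Subgroup K))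
    obtain ⟨b, hb⟩ : ∃ b : (T : Subgroup K), b ∉ ({1, a} : Finset (T : Subgroup K)) :=
      (Finset.exists_mem_notMem_of_card_lt_card (t := Finset.univ)
        (by rw [Finset.card_univ]; exact lt_of_le_of_lt Finset.card_le_two (by omega))).imp
        fun b hb => hb.2
    simp only [Finset.mem_insert, Finset.mem_singleton, not_or] at hb
    have ho : ∀ w : (T : Subgroup K), w ≠ 1 → orderOf (w : K) = 2 := fun w hw =>
      Small.orderOf_eq_two_iff_sq.2 ⟨fun e => hw (Subtype.ext e), hsq w w.2⟩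
    have hc1 := eq_one_of_commute_four h (ho a ha) (ho b hb.1) (fun e => hb.2 (Subtype.ext e).symm)
      ((isPSLOdd_twoType h).comm _ T.isPGroup' a.2 b.2).eq (by rw [hc]; decide)
      (hcT a a.2).eq (hcT b b.2).eq
    rw [hc1, orderOf_one] at hc
    omega
  · obtain ⟨n, -, -, hd⟩ := h.data
    exact (hd T).2.2.2
  · obtain ⟨t, ht⟩ := exists_involution_of_not_comm hsimp hnc
    have hT := isJR_twoType h
    have h8 := (h.facts hT ht).2 T
    refine exists_cycle_of_prime T (p := 7) (by norm_num) (by norm_num) (by omega)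
      (fun a ha ha1 b hb hb1 => exists_conj_of_simple hnc hT T h8 ha ha1 hb hb1) fun c hc hcT => ?_
    obtain ⟨⟨w, hwT⟩, hw⟩ : ∃ w : (T : Subgroup K), w ≠ 1 := by
      haveI := Fintype.ofFinite (T : Subgroup K)
      rw [Nat.card_eq_fintype_card] at h8
      exact Fintype.exists_ne_of_one_lt_card (by omega) 1
    have := h.eq_one_of_commute_sylow hT
      (Small.orderOf_eq_two_iff_sq.2 ⟨fun e => hw (Subtype.ext e), (hT _ T.isPGroup').1 w hwT⟩) T hwT
      (by rw [hc]; decide) hcT
    rw [this, orderOf_one] at hc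
    omega

/-- With Sylow 2-subgroups of order at least 16, `C_K(d)` normalizes no nontrivial odd subgroup of
`C(d)`. -/
theorem CompType.eq_bot_of_balanced {Q : Type u} [Group Q] [Finite Q] {K : Subgroup Q} [K.Normal]
    (hK : CompType K) (hc : centralizer (K : Set Q) = ⊥) (P : Sylow 2 K)
    (h16 : 16 ≤ Nat.card (P : Subgroup K)) {d : Q} (hdK : d ∈ K) (hd : orderOf d = 2)
    {Y : Subgroup Q} (hYo : Odd (Nat.card Y)) (hYd : Y ≤ centralizer ({d} : Set Q))
    (hn : K ⊓ centralizer ({d} : Set Q) ≤ normalizer (Y : Set Q)) : Y = ⊥ := by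
  classical
  haveI : Fact (Nat.Prime 2) := ⟨Nat.prime_two⟩
  haveI := hK.isSimpleGroup
  have hT : IsPSLTwo K := by
    rcases hK with h | h | ⟨h, hnc⟩
    · have := (isPSLOdd_sylow h P).2; omega
    · exact h
    · have := ((isJR_twoType h) P P.isPGroup').2; omega
  obtain ⟨n, hn2, hcard, hdata⟩ := hT.data
  set q := 2 ^ n with hq
  set dK : K := ⟨d, hdK⟩
  have hdK2 : orderOf dK = 2 := by rw [← orderOf_coe]; exact hd
  obtain ⟨T, hT'⟩ := (IsPGroup.of_card (n := 1) (by rw [Nat.card_zpowers, hdK2, pow_one]) :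
    IsPGroup 2 (zpowers dK)).exists_le_sylow
  have hdT : dK ∈ (T : Subgroup K) := hT' (mem_zpowers _)
  obtain ⟨hTc, hTsq, hTcent, -⟩ := hdata T
  have hCT := hTcent dK hdT (Small.ne_one_of_orderOf_two hdK2)
  -- two Sylow subgroups normalized by a common involution coincide
  have hTI : ∀ S : Sylow 2 K, ∀ t ∈ (T : Subgroup K), t ≠ 1 →
      t ∈ normalizer ((S : Subgroup K) : Set K) → S = T := by
    intro S t ht ht1 htS
    have hp : IsPGroup 2 (zpowers t) := IsPGroup.of_card (n := 1) (by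
      rw [Nat.card_zpowers, pow_one]
      exact Small.orderOf_eq_two_iff_sq.2 ⟨ht1, hTsq t ht⟩)
    have hsup : IsPGroup 2 (zpowers t ⊔ (S : Subgroup K) : Subgroup K) :=
      hp.to_sup_of_normal_right' S.isPGroup' (zpowers_le.2 htS)
    have htS' : t ∈ (S : Subgroup K) :=
      (S.is_maximal' hsup le_sup_right).le (mem_sup_left (mem_zpowers t))
    obtain ⟨-, -, hScent, -⟩ := hdata S
    exact Sylow.ext ((hScent t htS' ht1).symm.trans (hTcent t ht ht1))
  -- there are `q + 1` Sylow subgroups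
  have hothers : ∀ S S' : Sylow 2 K, S ≠ T → S' ≠ T → ∃ t : K, t ∈ (T : Subgroup K) ∧ t • S = S' := by
    have hq1 : 1 < q := by
      rw [hq]; exact Nat.one_lt_two_pow (by omega)
    -- the involutions are the nontrivial elements of the Sylow subgroups
    let I : Set K := {x | orderOf x = 2}
    let σ : (Σ S : Sylow 2 K, {x : K // x ∈ (S : Subgroup K) ∧ x ≠ 1}) → I := fun w =>
      ⟨w.2.1, Small.orderOf_eq_two_iff_sq.2 ⟨w.2.2.2, (hdata w.1).2.1 _ w.2.2.1⟩⟩
    have hσ : Function.Bijective σ := by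
      refine ⟨?_, fun x => ?_⟩
      · rintro ⟨S, x, hxS, hx1⟩ ⟨S', x', hxS', hx1'⟩ h
        obtain rfl : x = x' := congrArg Subtype.val h
        obtain rfl : S = S' := Sylow.ext
          (((hdata S).2.2.1 x hxS hx1).symm.trans ((hdata S').2.2.1 x hxS' hx1'))
        rfl
      · obtain ⟨S, hS⟩ := (IsPGroup.of_card (n := 1) (by rw [Nat.card_zpowers, x.2, pow_one]) :
          IsPGroup 2 (zpowers (x : K))).exists_le_sylow
        exact ⟨⟨S, x, hS (mem_zpowers _), Small.ne_one_of_orderOf_two x.2⟩, rfl⟩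
    have hfib : ∀ S : Sylow 2 K, Nat.card {x : K // x ∈ (S : Subgroup K) ∧ x ≠ 1} = q - 1 := fun S => by
      show Nat.card ↥(((S : Subgroup K) : Set K) \ {1}) = q - 1
      rw [Nat.card_coe_set_eq, Set.ncard_sdiff_singleton_of_mem (one_mem (S : Subgroup K)),
        ← Nat.card_coe_set_eq]
      exact congrArg (· - 1) (hdata S).1
    have hconj : ∀ x ∈ I, ∃ g : K, g * dK * g⁻¹ = x := by
      intro x hx
      obtain ⟨S, hS⟩ := (IsPGroup.of_card (n := 1) (by rw [Nat.card_zpowers, hx, pow_one]) :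
        IsPGroup 2 (zpowers x)).exists_le_sylow
      obtain ⟨g, hg⟩ := MulAction.exists_smul_eq K T S
      obtain ⟨w, hw, hwx⟩ : x ∈ (g • T : Sylow 2 K) := hg.symm ▸ hS (mem_zpowers x)
      have hw1 : w ≠ 1 := by
        rintro rfl
        exact Small.ne_one_of_orderOf_two hx (hwx.symm.trans (map_one _))
      obtain ⟨s, -, -, hs⟩ := (hdata T).2.2.2
      obtain ⟨k, hk⟩ := hs dK hdT (Small.ne_one_of_orderOf_two hdK2) w hw hw1
      refine ⟨g * s ^ k, ?_⟩
      rw [show g * s ^ k * dK * (g * s ^ k)⁻¹ = g * (s ^ k * dK * (s ^ k)⁻¹) * g⁻¹ by group, hk]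
      exact hwx
    have hIcard : Nat.card I = q ^ 2 - 1 := by
      choose c hcg using hconj
      let π : I → K ⧸ centralizer ({dK} : Set K) := fun x => QuotientGroup.mk (c x x.2)
      have hπ : Function.Bijective π := by
        refine ⟨fun x y h => ?_, fun z => ?_⟩
        · have h1 := mem_centralizer_singleton_iff.1 (QuotientGroup.eq.1 h)
          refine Subtype.ext ?_
          rw [← hcg x x.2, ← hcg y y.2]
          calc c x x.2 * dK * (c x x.2)⁻¹
              = c x x.2 * (dK * ((c x x.2)⁻¹ * c y y.2)) * (c y y.2)⁻¹ := by group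
            _ = c x x.2 * ((c x x.2)⁻¹ * c y y.2 * dK) * (c y y.2)⁻¹ := by rw [h1]
            _ = c y y.2 * dK * (c y y.2)⁻¹ := by group
        · obtain ⟨g, rfl⟩ := QuotientGroup.mk_surjective z
          refine ⟨⟨g * dK * g⁻¹, by show orderOf _ = 2; rw [Small.orderOf_conj_eq, hdK2]⟩,
            QuotientGroup.eq.2 (mem_centralizer_singleton_iff.2 ?_)⟩
          have h1 := hcg (g * dK * g⁻¹) (by show orderOf _ = 2; rw [Small.orderOf_conj_eq, hdK2])
          generalize c (g * dK * g⁻¹) _ = cx at h1 ⊢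
          calc cx⁻¹ * g * dK = cx⁻¹ * (g * dK * g⁻¹) * g := by group
            _ = cx⁻¹ * (cx * dK * cx⁻¹) * g := by rw [h1]
            _ = dK * (cx⁻¹ * g) := by group
      rw [Nat.card_eq_of_bijective π hπ, ← index_eq_card, hCT]
      have h1 := (T : Subgroup K).card_mul_index
      rw [hTc, hcard] at h1
      exact Nat.eq_of_mul_eq_mul_left (by omega) h1
    haveI := Fintype.ofFinite (Sylow 2 K)
    have hN : Nat.card (Sylow 2 K) = q + 1 := by
      have h1 := Nat.card_eq_of_bijective σ hσ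
      rw [Nat.card_sigma, Finset.sum_congr rfl (fun S _ => hfib S), Finset.sum_const, Finset.card_univ,
        smul_eq_mul, hIcard, show q ^ 2 - 1 = (q + 1) * (q - 1) by rw [← Nat.sq_sub_sq, one_pow]] at h1
      rw [Nat.card_eq_fintype_card]
      exact Nat.eq_of_mul_eq_mul_right (by omega) h1
    intro S S' hS hS'
    have hne : ∀ t : (T : Subgroup K), (t : K) • S ≠ T := by
      intro t h
      refine hS (smul_left_cancel (t : K) (h.trans ?_))
      rw [eq_comm, Sylow.smul_eq_iff_mem_normalizer]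
      exact le_normalizer t.2
    let μ : ↥(T : Subgroup K) → {R : Sylow 2 K // R ≠ T} := fun t => ⟨(t : K) • S, hne t⟩
    have hμ : Function.Injective μ := by
      intro a b h
      have h' : (a : K) • S = (b : K) • S := congrArg Subtype.val h
      by_contra hab
      refine hS (hTI S ((b : K)⁻¹ * a) (mul_mem (inv_mem b.2) a.2)
        (fun e => hab (Subtype.ext (inv_mul_eq_one.1 e).symm)) ?_)
      refine (Sylow.smul_eq_iff_mem_normalizer (P := S)).1 ?_
      rw [mul_smul, h', inv_smul_smul]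
    have hbij : Function.Bijective μ := by
      refine (Nat.bijective_iff_injective_and_card μ).2 ⟨hμ, ?_⟩
      rw [hTc, Nat.card_eq_fintype_card, Fintype.card_subtype_compl, Fintype.card_subtype_eq,
        ← Nat.card_eq_fintype_card, hN, Nat.add_sub_cancel]
    obtain ⟨t, ht⟩ := hbij.2 ⟨S', hS'⟩
    exact ⟨t, t.2, congrArg Subtype.val ht⟩
  refine eq_bot_iff.2 fun y hy => ?_
  rw [← hc]
  let a : MulAut K := MulAut.conjNormal y
  have ha : ∀ k : K, ((a k : K) : Q) = y * k * y⁻¹ := fun k => MulAut.conjNormal_apply y k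
  have hyd : a dK = dK := Subtype.ext (by
    rw [ha]
    exact mul_inv_eq_iff_eq_mul.2 (mem_centralizer_singleton_iff.1 (hYd hy)))
  have hafix : ∀ t ∈ (T : Subgroup K), a t = t := by
    intro t ht
    have htC : (t : Q) ∈ K ⊓ centralizer ({d} : Set Q) := mem_inf.2 ⟨t.2,
      mem_centralizer_singleton_iff.2 (congrArg Subtype.val
        (mem_centralizer_singleton_iff.1 (hCT.ge ht) : t * dK = dK * t))⟩
    set c : K := a t * t⁻¹ with hcdef
    have hcT : c ∈ (T : Subgroup K) := by
      refine mul_mem ?_ (inv_mem ht)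
      rw [← hCT, mem_centralizer_singleton_iff]
      calc a t * dK = a t * a dK := by rw [hyd]
        _ = a (dK * t) := by rw [← map_mul, mem_centralizer_singleton_iff.1 (hCT.ge ht)]
        _ = dK * a t := by rw [map_mul, hyd]
    have hcY : (c : Q) ∈ Y := by
      rw [hcdef, coe_mul, coe_inv, ha, mul_assoc (y * t), mul_assoc y]
      refine mul_mem hy ?_
      rw [← mul_assoc]
      exact (mem_normalizer_iff.1 (hn htC) y⁻¹).1 (inv_mem hy)
    have hc1 : c = 1 := by
      obtain ⟨k, hk⟩ : Odd (orderOf c) := by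
        rw [← orderOf_coe]
        exact hYo.of_dvd_nat (Y.orderOf_dvd_natCard hcY)
      have h1 := pow_orderOf_eq_one c
      rwa [hk, pow_succ, pow_mul, pow_two, hTsq c hcT, one_pow, one_mul] at h1
    exact mul_inv_eq_one.1 hc1
  have hao : Odd (orderOf a) :=
    hYo.of_dvd_nat ((orderOf_map_dvd (MulAut.conjNormal : Q →* MulAut K) y).trans
      (Y.orderOf_dvd_natCard hy))
  -- `a` fixes every Sylow subgroup
  have hfixS : ∀ S : Sylow 2 K, a • S = S := by
    intro S
    have haT : a • T = T := Sylow.ext (by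
      rw [Sylow.pointwise_smul_def]
      ext x
      exact ⟨fun ⟨w, hw, e⟩ => e ▸ (show a w ∈ (T : Subgroup K) by rw [hafix w hw]; exact hw),
        fun hx => ⟨x, hx, hafix x hx⟩⟩)
    rcases eq_or_ne S T with rfl | hS
    · exact haT
    have haS : a • S ≠ T := fun h => hS (smul_left_cancel a (h.trans haT.symm))
    obtain ⟨t, ht, hts⟩ := hothers S (a • S) hS haS
    have hsm : ∀ (k : K) (R : Sylow 2 K), a • (k • R) = a k • a • R := by
      intro k R
      refine Sylow.ext ?_
      simp only [Sylow.coe_subgroup_smul, Sylow.pointwise_smul_def]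
      ext x
      constructor
      · rintro ⟨_, ⟨w, hw, rfl⟩, rfl⟩
        exact ⟨a w, ⟨w, hw, rfl⟩, by simp⟩
      · rintro ⟨_, ⟨w, hw, rfl⟩, rfl⟩
        exact ⟨k * w * k⁻¹, ⟨w, hw, rfl⟩, by simp⟩
    have hiter : ∀ j : ℕ, a ^ j • S = t ^ j • S := by
      intro j
      induction j with
      | zero => simp
      | succ j ih =>
        rw [pow_succ', mul_smul, ih, hsm, hafix _ (pow_mem ht j), ← hts, smul_smul, ← pow_succ]
    have h1 := hiter (orderOf a)
    rw [pow_orderOf_eq_one, one_smul] at h1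
    obtain ⟨k, hk⟩ := hao
    rw [hk, pow_succ, pow_mul, pow_two, hTsq t ht, one_pow, one_mul] at h1
    rw [← hts, ← h1]
  -- hence centralizes `K`
  refine mem_centralizer_iff.2 fun k hk => ?_
  set kK : K := ⟨k, hk⟩
  have hker : kK⁻¹ * a kK ∈ ⨅ S : Sylow 2 K, normalizer ((S : Subgroup K) : Set K) := by
    refine mem_iInf.2 fun S => ?_
    refine (Sylow.smul_eq_iff_mem_normalizer (P := S)).1 ?_
    rw [mul_smul, inv_smul_eq_iff]
    refine Sylow.ext ?_
    have h2 := congrArg (fun R : Sylow 2 K => (R : Subgroup K)) (hfixS (kK • S))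
    simp only [Sylow.coe_subgroup_smul, Sylow.pointwise_smul_def] at h2 ⊢
    refine Eq.trans ?_ h2
    ext x
    have h3 := congrArg (fun R : Sylow 2 K => (R : Subgroup K)) (hfixS S)
    simp only [Sylow.coe_subgroup_smul, Sylow.pointwise_smul_def] at h3
    constructor
    · rintro ⟨w, hw, rfl⟩
      obtain ⟨w', hw', e⟩ : w ∈ a • (S : Subgroup K) := h3.symm ▸ hw
      exact ⟨kK * w' * kK⁻¹, ⟨w', hw', rfl⟩, by rw [← e]; simp⟩
    · rintro ⟨_, ⟨w, hw, rfl⟩, rfl⟩
      refine ⟨a w, ?_, by simp⟩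
      rw [← h3]
      exact ⟨w, hw, rfl⟩
  haveI hKN : (⨅ S : Sylow 2 K, normalizer ((S : Subgroup K) : Set K)).Normal := by
    refine ⟨fun x hx g => mem_iInf.2 fun S => ?_⟩
    have h1 := mem_iInf.1 hx (g⁻¹ • S)
    have h2 : x • (g⁻¹ • S) = g⁻¹ • S := (Sylow.smul_eq_iff_mem_normalizer (P := g⁻¹ • S)).2 h1
    refine (Sylow.smul_eq_iff_mem_normalizer (P := S)).1 ?_
    rw [mul_smul, mul_smul, h2, smul_inv_smul]
  rcases IsSimpleGroup.eq_bot_or_eq_top_of_normal _ hKN with h | h
  · rw [h, mem_bot, inv_mul_eq_one] at hker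
    have := congrArg Subtype.val hker
    rw [ha] at this
    calc k * y = y * k * y⁻¹ * y := by rw [← this]
      _ = y * k := by group
  · exfalso
    have hN : normalizer ((T : Subgroup K) : Set K) = ⊤ :=
      eq_top_iff.2 (h.ge.trans (iInf_le _ T))
    rcases IsSimpleGroup.eq_bot_or_eq_top_of_normal _ (normalizer_eq_top_iff.1 hN) with h' | h'
    · rw [h', mem_bot] at hdT
      exact Small.ne_one_of_orderOf_two hdK2 hdT
    · have h1 : Nat.card (T : Subgroup K) = Nat.card K := by rw [h', card_top]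
      rw [hTc, hcard] at h1
      have h2 : 3 ≤ q ^ 2 - 1 := by
        have : 4 ≤ q := le_trans (by norm_num) (hq ▸ Nat.pow_le_pow_right (n := 2) (by norm_num) hn2)
        have : 16 ≤ q ^ 2 := by nlinarith
        omega
      have h4 : q * 1 < q * (q ^ 2 - 1) := Nat.mul_lt_mul_of_pos_left (by omega) (by positivity)
      omega

end CfsgLib.Walter.Rank
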