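import Cfsg.Agent.Walter.Rank.Defs
import Cfsg.Agent.Linear.SylowChar
import Cfsg.Agent.Linear.Basic
import Cfsg.Agent.SuzukiTheorem.LineCase

/-!
# Walter, rank at least four: `PSL₂(2ⁿ)`

The Sylow 2-subgroups are elementary abelian of order `q`, are the centralizers of their involutions,
and a torus element permutes the involutions of one transitively; `|K| = q (q² - 1)`.
-/

set_option autoImplicit false
set_option linter.style.haveILetI false
set_option linter.unusedSectionVars false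

open Subgroup
open scoped MatrixGroups

namespace CfsgLib.Walter.Rank

universe u

section SL

variable {F : Type} [Field F] [Fintype F]

/-- The diagonal torus of `SL₂`. -/
def diagHom : Fˣ →* SL(2, F) where
  toFun a := ⟨!![(a : F), 0; 0, ((a⁻¹ : Fˣ) : F)], by simp [Matrix.det_fin_two]⟩
  map_one' := Subtype.ext (by ext i j; fin_cases i <;> fin_cases j <;> simp)
  map_mul' a b := Subtype.ext (by
    show !![((a * b : Fˣ) : F), 0; 0, (((a * b)⁻¹ : Fˣ) : F)] =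
      !![(a : F), 0; 0, ((a⁻¹ : Fˣ) : F)] * !![(b : F), 0; 0, ((b⁻¹ : Fˣ) : F)]
    ext i j
    fin_cases i <;> fin_cases j <;> simp [Matrix.mul_apply, Fin.sum_univ_two, mul_comm])

theorem diag_conj (a : Fˣ) (x : F) :
    diagHom a * Linear.upperUni x * (diagHom a)⁻¹ = Linear.upperUni ((a : F) * a * x) := by
  rw [mul_inv_eq_iff_eq_mul]
  refine Subtype.ext ?_
  rw [Matrix.SpecialLinearGroup.coe_mul, Matrix.SpecialLinearGroup.coe_mul, Linear.upperUni_val,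
    Linear.upperUni_val]
  show !![(a : F), 0; 0, ((a⁻¹ : Fˣ) : F)] * !![1, x; 0, 1] = _ * !![(a : F), 0; 0, ((a⁻¹ : Fˣ) : F)]
  ext i j
  fin_cases i <;> fin_cases j <;> simp [Matrix.mul_apply, Fin.sum_univ_two]
  field_simp

variable [CharP F 2]

theorem upper_sq {w : SL(2, F)} (hw : w ∈ Linear.upperSL (F := F)) : w * w = 1 := by
  obtain ⟨x, rfl⟩ := Linear.mem_upperSL.1 hw
  rw [← show Linear.upperUni (0 : F) = 1 from Matrix.SpecialLinearGroup.transvection_coeff_zero _]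
  rw [show Linear.upperUni x * Linear.upperUni x = Linear.upperUni (x + x) from
    (Matrix.SpecialLinearGroup.transvection_add _ _ _).symm, CharTwo.add_self_eq_zero]

theorem mem_upper_of_commute {c : SL(2, F)}
    (h : c * Linear.upperUni 1 = Linear.upperUni 1 * c) : c ∈ Linear.upperSL (F := F) := by
  have h' := congrArg (fun g : SL(2, F) => g.1) h
  simp only [Matrix.SpecialLinearGroup.coe_mul, Linear.upperUni_val] at h'
  have h00 := congrFun (congrFun h' 0) 0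
  have h01 := congrFun (congrFun h' 0) 1
  simp [Matrix.mul_apply, Fin.sum_univ_two] at h00 h01
  have h10 : c.1 1 0 = 0 := by linear_combination h00
  have h11 : c.1 1 1 = c.1 0 0 := by linear_combination -h01
  have hdet : c.1 0 0 * c.1 1 1 - c.1 0 1 * c.1 1 0 = 1 := by
    rw [← Matrix.det_fin_two]; exact c.2
  rw [h10, mul_zero, sub_zero, h11] at hdet
  have h1 : c.1 0 0 = 1 := by
    have : (c.1 0 0 + 1) * (c.1 0 0 + 1) = 0 := by
      linear_combination hdet + (c.1 0 0 + 1) * (CharTwo.two_eq_zero (R := F))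
    exact CharTwo.add_eq_zero.1 (mul_self_eq_zero.1 this)
  refine Linear.mem_upperSL.2 ⟨c.1 0 1, Subtype.ext ?_⟩
  rw [Linear.upperUni_val]
  ext i j
  fin_cases i <;> fin_cases j <;> simp [h1, h10, h11]

theorem exists_torus_pow {g : Fˣ} (hg : ∀ a, a ∈ zpowers g) {x y : F} (hx : x ≠ 0) (hy : y ≠ 0) :
    ∃ k : ℕ, (diagHom g) ^ k * Linear.upperUni x * ((diagHom g) ^ k)⁻¹ = Linear.upperUni y := by
  obtain ⟨r, hr⟩ := FiniteField.isSquare_of_char_two (by
    rw [ringChar.eq_iff]; infer_instance) (y / x)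
  have hr0 : r ≠ 0 := fun h => by
    rw [h, mul_zero, div_eq_zero_iff] at hr
    tauto
  obtain ⟨k, hk⟩ := mem_powers_iff_mem_zpowers.2 (hg (Units.mk0 r hr0))
  refine ⟨k, ?_⟩
  simp only at hk
  rw [← map_pow, diag_conj, hk, Units.val_mk0, ← hr, div_mul_cancel₀ _ hx]

end SL

variable {K : Type u} [Group K] [Finite K]

theorem IsPSLTwo.exists_sl (hK : IsPSLTwo K) : ∃ (F : Type) (_ : Field F) (_ : Fintype F)
    (_ : CharP F 2) (n : ℕ), 2 ≤ n ∧ Fintype.card F = 2 ^ n ∧ Nonempty (SL(2, F) ≃* K) := by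
  obtain ⟨F, iF, fF, ⟨n, hn, hF⟩, ⟨e⟩⟩ := hK
  haveI : CharP F 2 := by
    haveI : Fact (Nat.Prime 2) := ⟨Nat.prime_two⟩
    exact charP_of_card_eq_prime_pow (f := n) hF
  have hbot : Subgroup.center SL(2, F) = ⊥ := CfsgLib.SuzukiThm.center_SL2_eq_bot F
  let e2 : SL(2, F) ≃* Matrix.ProjectiveSpecialLinearGroup (Fin 2) F :=
    MulEquiv.ofBijective (QuotientGroup.mk' (Subgroup.center SL(2, F)))
      ⟨(MonoidHom.ker_eq_bot_iff _).1 (by rw [QuotientGroup.ker_mk', hbot]),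
        QuotientGroup.mk'_surjective _⟩
  exact ⟨F, iF, fF, inferInstance, n, hn, hF, ⟨e2.trans e.symm⟩⟩

theorem IsPSLTwo.isSimpleGroup {L : Type*} [Group L] (h : IsPSLTwo L) : IsSimpleGroup L := by
  obtain ⟨F, iF, fF, ⟨n, hn, hF⟩, ⟨e⟩⟩ := h
  have : 2 ^ 2 ≤ 2 ^ n := Nat.pow_le_pow_right (by norm_num) hn
  haveI := Linear.isSimpleGroup_PSL_of (F := F) 2 le_rfl (fun _ => by omega)
  haveI := e.toEquiv.nontrivial
  exact IsSimpleGroup.isSimpleGroup_of_surjective e.symm.toMonoidHom e.symm.surjective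

/-- The facts used about `PSL₂(2ⁿ)`. -/
theorem IsPSLTwo.data (hK : IsPSLTwo K) :
    ∃ n : ℕ, 2 ≤ n ∧ Nat.card K = 2 ^ n * ((2 ^ n) ^ 2 - 1) ∧
      ∀ T : Sylow 2 K, Nat.card (T : Subgroup K) = 2 ^ n ∧
        (∀ a ∈ (T : Subgroup K), a * a = 1) ∧
        (∀ d ∈ (T : Subgroup K), d ≠ 1 → centralizer ({d} : Set K) = (T : Subgroup K)) ∧
        ∃ s ∈ normalizer ((T : Subgroup K) : Set K), Odd (orderOf s) ∧
          ∀ u ∈ (T : Subgroup K), u ≠ 1 → ∀ v ∈ (T : Subgroup K), v ≠ 1 →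
            ∃ k : ℕ, s ^ k * u * (s ^ k)⁻¹ = v := by
  classical
  haveI : Fact (Nat.Prime 2) := ⟨Nat.prime_two⟩
  obtain ⟨F, iF, fF, iC, n, hn, hF, ⟨f⟩⟩ := hK.exists_sl
  have hcard : Nat.card K = 2 ^ n * ((2 ^ n) ^ 2 - 1) := by
    rw [← Nat.card_congr f.toEquiv, Linear.card_SL_two, hF]
  have hodd : ¬ 2 ∣ (2 ^ n) ^ 2 - 1 := by
    have h2 : 2 ∣ (2 ^ n) ^ 2 := (dvd_pow_self 2 (by omega : n ≠ 0)).trans (dvd_pow_self _ two_ne_zero)
    have h1 : 1 ≤ (2 ^ n) ^ 2 := Nat.one_le_pow _ _ (Nat.two_pow_pos n)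
    omega
  have hsyl : ∀ T : Sylow 2 K, Nat.card (T : Subgroup K) = 2 ^ n := fun T => by
    rw [T.card_eq_multiplicity, hcard, Nat.factorization_mul (by positivity)
      (fun h => hodd (by rw [h]; exact dvd_zero 2)), Finsupp.add_apply, Nat.Prime.factorization_pow Nat.prime_two,
      Finsupp.single_eq_same, Nat.factorization_eq_zero_of_not_dvd hodd, add_zero]
  refine ⟨n, hn, hcard, ?_⟩
  set T₁ : Subgroup K := (Linear.upperSL (F := F)).map f.toMonoidHom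
  have hT₁ : Nat.card T₁ = 2 ^ n := by
    rw [card_map_of_injective f.injective, Linear.card_upperSL, Nat.card_eq_fintype_card, hF]
  obtain ⟨T₀, hT₀⟩ := (IsPGroup.of_card hT₁).exists_le_sylow
  have hT₀' : (T₀ : Subgroup K) = T₁ :=
    (eq_of_le_of_card_ge hT₀ (by rw [hsyl, hT₁])).symm
  obtain ⟨g₀, hg₀⟩ := (inferInstance : IsCyclic Fˣ).exists_generator
  set s₀ := f (diagHom g₀) with hs₀
  have hs₀T : s₀ ∈ normalizer (T₁ : Set K) := by
    have key : ∀ (a : Fˣ), ∀ w ∈ T₁, f (diagHom a) * w * (f (diagHom a))⁻¹ ∈ T₁ := by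
      rintro a _ ⟨w, hw, rfl⟩
      obtain ⟨x, rfl⟩ := Linear.mem_upperSL.1 hw
      refine ⟨_, Linear.upperUni_mem ((a : F) * a * x), ?_⟩
      show f _ = f _ * f _ * (f _)⁻¹
      rw [← diag_conj, map_mul, map_mul, map_inv]
    refine mem_normalizer_iff.2 fun w => ⟨key g₀ w, fun h => ?_⟩
    have := key g₀⁻¹ _ h
    rwa [map_inv, map_inv, ← hs₀,
      show s₀⁻¹ * (s₀ * w * s₀⁻¹) * s₀⁻¹⁻¹ = w by group] at this
  have hs₀o : Odd (orderOf s₀) := by
    refine Odd.of_dvd_nat ?_ ((orderOf_map_dvd f.toMonoidHom _).trans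
      ((orderOf_map_dvd diagHom g₀).trans (orderOf_dvd_natCard g₀)))
    rw [Nat.card_eq_fintype_card, Fintype.card_units, hF]
    have h2 : 2 ∣ 2 ^ n := dvd_pow_self 2 (by omega)
    have := Nat.two_pow_pos n
    rw [Nat.odd_iff]; omega
  have hcyc : ∀ u ∈ T₁, u ≠ 1 → ∀ v ∈ T₁, v ≠ 1 → ∃ k : ℕ, s₀ ^ k * u * (s₀ ^ k)⁻¹ = v := by
    rintro _ ⟨a, ha, rfl⟩ ha1 _ ⟨b, hb, rfl⟩ hb1
    obtain ⟨x, rfl⟩ := Linear.mem_upperSL.1 ha
    obtain ⟨y, rfl⟩ := Linear.mem_upperSL.1 hb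
    have hzero : Linear.upperUni (0 : F) = 1 := Matrix.SpecialLinearGroup.transvection_coeff_zero _
    have hx : x ≠ 0 := fun h => ha1 (by rw [h, hzero, map_one])
    have hy : y ≠ 0 := fun h => hb1 (by rw [h, hzero, map_one])
    obtain ⟨k, hk⟩ := exists_torus_pow hg₀ hx hy
    exact ⟨k, by rw [← hk]; simp [hs₀]⟩
  have hsq₁ : ∀ a ∈ T₁, a * a = 1 := by
    rintro _ ⟨a, ha, rfl⟩
    rw [← map_mul, upper_sq ha, map_one]
  have hcent₁ : ∀ d ∈ T₁, d ≠ 1 → centralizer ({d} : Set K) = T₁ := by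
    intro d hd hd1
    have hne : f.toMonoidHom (Linear.upperUni 1) ≠ 1 := fun h => by
      rw [← map_one f.toMonoidHom] at h
      have := congrArg (fun g : SL(2, F) => g.1 0 1) (f.injective h)
      simp [Linear.upperUni_val] at this
    obtain ⟨k, hk⟩ := hcyc _ ⟨_, Linear.upperUni_mem 1, rfl⟩ hne d hd hd1
    apply le_antisymm
    · intro c hc
      set c₀ := (s₀ ^ k)⁻¹ * c * s₀ ^ k with hc₀
      obtain ⟨c₁, hc₁⟩ := f.surjective c₀
      have hcomm : c₀ * f (Linear.upperUni 1) = f (Linear.upperUni 1) * c₀ := by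
        have e1 : c * d = d * c := mem_centralizer_singleton_iff.1 hc
        rw [← hk] at e1
        calc c₀ * f (Linear.upperUni 1)
            = (s₀ ^ k)⁻¹ * (c * (s₀ ^ k * f (Linear.upperUni 1) * (s₀ ^ k)⁻¹)) * s₀ ^ k := by
              rw [hc₀]; group
          _ = (s₀ ^ k)⁻¹ * (s₀ ^ k * f (Linear.upperUni 1) * (s₀ ^ k)⁻¹ * c) * s₀ ^ k :=
              congrArg (fun z => (s₀ ^ k)⁻¹ * z * s₀ ^ k) e1
          _ = f (Linear.upperUni 1) * c₀ := by rw [hc₀]; group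
      rw [← hc₁, ← map_mul, ← map_mul] at hcomm
      have hmem : c₀ ∈ T₁ := ⟨c₁, mem_upper_of_commute (f.injective hcomm), hc₁⟩
      have := (mem_normalizer_iff.1 (pow_mem hs₀T k) c₀).1 hmem
      rwa [hc₀, show s₀ ^ k * ((s₀ ^ k)⁻¹ * c * s₀ ^ k) * (s₀ ^ k)⁻¹ = c by group] at this
    · intro c hc
      refine mem_centralizer_singleton_iff.2 ?_
      calc c * d = c * (c * d * (c * d)) * d := by rw [hsq₁ _ (mul_mem hc hd), mul_one]
        _ = c * c * (d * c) * (d * d) := by group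
        _ = d * c := by rw [hsq₁ c hc, hsq₁ d hd, one_mul, mul_one]
  intro T
  obtain ⟨g, hg⟩ := MulAction.exists_smul_eq K T₀ T
  have hmem : ∀ x, x ∈ (T : Subgroup K) ↔ g⁻¹ * x * g ∈ T₁ := fun x => by
    rw [← hg, ← hT₀']
    constructor
    · rintro ⟨w, hw, rfl⟩
      show g⁻¹ * (g * w * g⁻¹) * g ∈ (T₀ : Subgroup K)
      rwa [show g⁻¹ * (g * w * g⁻¹) * g = w by group]
    · intro h
      exact ⟨_, h, show g * (g⁻¹ * x * g) * g⁻¹ = x by group⟩
  refine ⟨hsyl T, fun a ha => ?_, fun d hd hd1 => ?_, g * s₀ * g⁻¹, ?_, ?_, fun u hu hu1 v hv hv1 => ?_⟩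
  · have h := hsq₁ _ ((hmem a).1 ha)
    rw [show g⁻¹ * a * g * (g⁻¹ * a * g) = g⁻¹ * (a * a) * g by group] at h
    calc a * a = g * (g⁻¹ * (a * a) * g) * g⁻¹ := by group
      _ = 1 := by rw [h, mul_one, mul_inv_cancel]
  · ext c
    rw [hmem c, ← hcent₁ _ ((hmem d).1 hd) (fun h => hd1 (by
      calc d = g * (g⁻¹ * d * g) * g⁻¹ := by group
        _ = 1 := by rw [h, mul_one, mul_inv_cancel])), mem_centralizer_singleton_iff,
      mem_centralizer_singleton_iff]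
    constructor
    · intro h
      calc g⁻¹ * c * g * (g⁻¹ * d * g) = g⁻¹ * (c * d) * g := by group
        _ = g⁻¹ * (d * c) * g := by rw [h]
        _ = _ := by group
    · intro h
      calc c * d = g * (g⁻¹ * c * g * (g⁻¹ * d * g)) * g⁻¹ := by group
        _ = g * (g⁻¹ * d * g * (g⁻¹ * c * g)) * g⁻¹ := by rw [h]
        _ = _ := by group
  · refine mem_normalizer_iff.2 fun w => ?_
    rw [hmem, hmem, mem_normalizer_iff.1 hs₀T (g⁻¹ * w * g)]
    rw [show g⁻¹ * (g * s₀ * g⁻¹ * w * (g * s₀ * g⁻¹)⁻¹) * g = s₀ * (g⁻¹ * w * g) * s₀⁻¹ by group]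
  · rwa [← MulAut.conj_apply, MulEquiv.orderOf_eq]
  · obtain ⟨k, hk⟩ := hcyc _ ((hmem u).1 hu) (fun h => hu1 (by
      calc u = g * (g⁻¹ * u * g) * g⁻¹ := by group
        _ = 1 := by rw [h, mul_one, mul_inv_cancel])) _ ((hmem v).1 hv) (fun h => hv1 (by
      calc v = g * (g⁻¹ * v * g) * g⁻¹ := by group
        _ = 1 := by rw [h, mul_one, mul_inv_cancel]))
    refine ⟨k, ?_⟩
    rw [conj_pow]
    calc g * s₀ ^ k * g⁻¹ * u * (g * s₀ ^ k * g⁻¹)⁻¹
        = g * (s₀ ^ k * (g⁻¹ * u * g) * (s₀ ^ k)⁻¹) * g⁻¹ := by group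
      _ = g * (g⁻¹ * v * g) * g⁻¹ := by rw [hk]
      _ = v := by group

end CfsgLib.Walter.Rank
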