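import Cfsg.Agent.Walter.Setting

/-!
# Walter, rank at least four: the possible components

`IsPSLTwo L`: `L` is `PSL₂(2ⁿ)`, `n ≥ 2`.
`CompType L`: `PSL₂(q)` (`q ≡ 3, 5 mod 8`), `PSL₂(2ⁿ)`, or a non-abelian group of Janko–Ree type.
`SmallHyp N`: the simple groups with abelian Sylow 2-subgroups of order less than `N` have one of
these types.
-/

set_option autoImplicit false

namespace CfsgLib.Walter.Rank

universe u

/-- `PSL₂(2ⁿ)` with `n ≥ 2`. -/
def IsPSLTwo (L : Type*) [Group L] : Prop :=
  ∃ (F : Type) (_ : Field F) (_ : Fintype F), (∃ n : ℕ, 2 ≤ n ∧ Fintype.card F = 2 ^ n) ∧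
    Nonempty (L ≃* Matrix.ProjectiveSpecialLinearGroup (Fin 2) F)

/-- The simple groups with abelian Sylow 2-subgroups occurring as components. -/
def CompType (L : Type*) [Group L] : Prop :=
  IsPSLOdd L ∨ IsPSLTwo L ∨ (IsJR L ∧ ¬ IsMulCommutative L)

/-- The simple groups with abelian Sylow 2-subgroups of order less than `N` are known. -/
def SmallHyp (N : ℕ) : Prop :=
  ∀ (X : Type u) [Group X] [Finite X], IsSimpleGroup X → ¬ IsMulCommutative X → Nat.card X < N →
    ∀ T : Sylow 2 X, IsMulCommutative (T : Subgroup X) → CompType X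

end CfsgLib.Walter.Rank
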