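import Cfsg.Agent.Walter.Rank.Lift

/-!
# Walter, rank at least four: a nonsolvable centralizer makes `S` elementary

`S` is homocyclic; a component of some `C(a)/O(C(a))` gives an elementary direct factor.
-/

set_option autoImplicit false
set_option linter.style.haveILetI false
set_option linter.unusedSectionVars false

open Subgroup
open scoped commutatorElement

namespace CfsgLib.Walter.Rank

universe u

variable {G : Type u} [Group G] [Finite G] {S : Sylow 2 G}

namespace Hyp

variable (h : Hyp S) {a : G} (ha : a ∈ (S : Subgroup G))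
include h

omit ha in
/-- A nonsolvable centralizer has a component. -/
theorem exists_comp_of_nonsolvable (ha : a ∈ (S : Subgroup G)) (ha1 : a ≠ 1)
    (hns : ¬ Group.IsSolvable (centralizer ({a} : Set G))) : ∃ M, Comp a M := by
  by_contra hno
  push Not at hno
  haveI : Group.IsSolvable (Top2 a) := (h.topHyp ha1).isSolvable_of_no_component fun L hL => by
    obtain ⟨M, hM, -⟩ := h.exists_comp ha ha1 hL
    exact hno M hM
  haveI : Group.IsSolvable (Cfsg.oddCore (centralizer ({a} : Set G))) :=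
    Cfsg.Agent.S0205.result (Nat.coprime_two_right.1 (PLocal.coprime_card_pPrimeCore 2 _))
  exact hns (Group.isSolvable_of_ker_le_range
    (Cfsg.oddCore (centralizer ({a} : Set G))).subtype (proj a)
    (by rw [QuotientGroup.ker_mk', range_subtype]))

include ha in
theorem inf_comp_ne_bot (ha1 : a ≠ 1) {M : Subgroup G} (hM : Comp a M) :
    (S : Subgroup G) ⊓ M ≠ ⊥ := by
  intro e
  have h1 := h.card_img_inf ha (img a M)
  rw [← h.comp_inf_eq ha ha1 hM, e, Subgroup.card_bot] at h1
  exact (h.topHyp ha1).inf_ne_bot hM.isComponent _ (Subgroup.card_eq_one.1 h1.symm)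

include ha in
theorem inf_comp_sq (ha1 : a ≠ 1) {M : Subgroup G} (hM : Comp a M) {u : G}
    (hu : u ∈ (S : Subgroup G) ⊓ M) : u * u = 1 := by
  haveI : Fact (Nat.Prime 2) := ⟨Nat.prime_two⟩
  have huC := hM.le hu.2
  set P := imgSylow S (h.le_centralizer ha)
  let T : Sylow 2 (img a M) := ((P.isPGroup'.to_le inf_le_left).comap_subtype (K := img a M)).toSylow
    (not_dvd_relIndex_of_isSubnormal P hM.isComponent.1)
  have h2 := CompType.sylow_sq (h.compType ha ha1 hM) T
    ⟨proj a ⟨u, huC⟩, mem_img_of_mem huC hu.2⟩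
    ⟨mem_img_of_mem huC hu.1, mem_img_of_mem huC hu.2⟩
  refine proj_injOn S.isPGroup' (mul_mem hu.1 hu.1) (one_mem _) (mul_mem huC huC) (one_mem _) ?_
  have h3 : proj a ⟨u, huC⟩ * proj a ⟨u, huC⟩ = 1 := congrArg Subtype.val h2
  rw [← map_mul] at h3
  exact h3.trans (map_one (proj a)).symm

include ha in
/-- If some centralizer of an involution of `S` has a component then `S` is elementary. -/
theorem sq (ha1 : a ≠ 1) {M : Subgroup G} (hM : Comp a M) :
    ∀ s ∈ (S : Subgroup G), s * s = 1 := by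
  haveI : Fact (Nat.Prime 2) := ⟨Nat.prime_two⟩
  haveI := h.simple
  obtain ⟨m, hm, -, hdiv⟩ := homocyclic h.notComm S h.comm
  intro s hs
  by_cases hm2 : m ≤ 1
  · have := hm s hs
    interval_cases m
    · rw [pow_zero, pow_one] at this; rw [this, one_mul]
    · rwa [pow_one, pow_two] at this
  exfalso
  obtain ⟨⟨u, hu⟩, hu1⟩ := Subgroup.ne_bot_iff_exists_ne_one.1 (h.inf_comp_ne_bot ha ha1 hM)
  have hu2 := h.inf_comp_sq ha ha1 hM hu
  obtain ⟨b, hb, hbu⟩ := hdiv u hu.1 hu2
  obtain ⟨v, hv, c, hc, rfl⟩ := h.exists_mul ha ha1 hM hb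
  have hvc : Commute v c :=
    congrArg Subtype.val (h.comm.is_comm.comm (⟨v, hv.1⟩ : (S : Subgroup G)) ⟨c, hc.1⟩)
  have hv2 : v ^ 2 ^ (m - 1) = 1 := by
    rw [show m - 1 = (m - 2) + 1 by omega, pow_succ', pow_mul, pow_two,
      h.inf_comp_sq ha ha1 hM hv, one_pow]
  rw [hvc.mul_pow, hv2, one_mul] at hbu
  have hmem : u ∈ (S : Subgroup G) ⊓ M ⊓ cenS (S : Subgroup G) a M := ⟨hu, hbu ▸ pow_mem hc _⟩
  rw [h.inf_cenS ha ha1 hM, mem_bot] at hmem
  exact hu1 (Subtype.ext hmem)

omit ha in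
/-- `N(S)` acts irreducibly on an elementary `S`. -/
theorem irreducible (hsq : ∀ s ∈ (S : Subgroup G), s * s = 1) {B : Subgroup G}
    (hB : B ≤ (S : Subgroup G))
    (hinv : ∀ n ∈ normalizer ((S : Subgroup G) : Set G), ∀ b ∈ B, n * b * n⁻¹ ∈ B) :
    B = ⊥ ∨ B = (S : Subgroup G) := by
  haveI := h.simple
  refine (omega_irreducible h.notComm S h.comm hB hinv fun b hb => hsq b (hB hb)).imp id fun e => ?_
  exact le_antisymm hB fun s hs => (e s).2 ⟨hs, hsq s hs⟩

end Hyp

end CfsgLib.Walter.Rank
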