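import Cfsg.Agent.Walter.Rank61.Homocyclic
import Cfsg.Agent.ZStar.Theorem
import Cfsg.Agent.PLocal.Cores
import Cfsg.Agent.Coprime.Basic
import Cfsg.Agent.S0205
import Cfsg.Agent.Components.Balance
import Mathlib

/-!
# Walter, rank at least four: 2-elements centralizing a Sylow 2-subgroup of a component

* `eq_one_of_central`: a perfect group with abelian Sylow 2-subgroups has no central 2-element.
* `sylow_le_of_centralizer`: if `L` is normal, `Y/L` is abelian and `C(L) = 1`, then an abelian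
  Sylow 2-subgroup of `Y` lies in `L` (Burnside and Glauberman's Z*-theorem).
* `exists_inner`: a 2-element normalizing `L` and centralizing a Sylow 2-subgroup `U` of `L`, with
  `U ⟨s⟩` abelian, acts on `L` as an element of `U`.
-/

set_option autoImplicit false
set_option linter.style.haveILetI false
set_option linter.unusedSectionVars false

open Subgroup

namespace CfsgLib.Walter.Rank

universe u

variable {G : Type u} [Group G] [Finite G]

/-- A perfect group with abelian Sylow 2-subgroups has no central 2-element. -/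
theorem eq_one_of_central (hperf : commutator G = ⊤)
    (hab : ∀ S : Sylow 2 G, IsMulCommutative (S : Subgroup G)) {z : G} {k : ℕ}
    (hzk : z ^ 2 ^ k = 1) (hz : ∀ g : G, g * z = z * g) : z = 1 := by
  haveI : Fact (Nat.Prime 2) := ⟨Nat.prime_two⟩
  have hp : IsPGroup 2 (zpowers z) := by
    refine IsPGroup.of_card (n := (Nat.card (zpowers z)).primeFactorsList.length)
      (Nat.eq_prime_pow_of_unique_prime_dvd Nat.card_pos.ne' fun {q} hq hdvd => ?_)
    rw [Nat.card_zpowers] at hdvd
    exact (Nat.prime_dvd_prime_iff_eq hq Nat.prime_two).1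
      (hq.dvd_of_dvd_pow (hdvd.trans (orderOf_dvd_of_pow_eq_one hzk)))
  obtain ⟨S, -⟩ := hp.exists_le_sylow
  let _ : CommGroup (S : Subgroup G) :=
    { (inferInstance : Group (S : Subgroup G)) with mul_comm := (hab S).is_comm.comm }
  have key : ∀ (k : ℕ) (g : G), g⁻¹ * z ^ k * g ∈ (S : Subgroup G) → g⁻¹ * z ^ k * g = z ^ k :=
    fun k g _ => by
      rw [mul_assoc, ← (Commute.pow_right (show Commute g z from hz g) k).eq, inv_mul_cancel_left]
  have htr := MonoidHom.transfer_eq_pow (MonoidHom.id (S : Subgroup G)) z key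
  have hker : MonoidHom.transfer (MonoidHom.id (S : Subgroup G)) z = 1 :=
    Abelianization.commutator_subset_ker _ (hperf ▸ mem_top z)
  rw [hker] at htr
  have h1 : z ^ (S : Subgroup G).index = 1 := by
    have := congrArg Subtype.val htr
    simpa using this.symm
  rw [← orderOf_eq_one_iff]
  refine Nat.eq_one_of_dvd_coprimes (a := 2 ^ k) (b := (S : Subgroup G).index) ?_
    (orderOf_dvd_of_pow_eq_one hzk) (orderOf_dvd_of_pow_eq_one h1)
  exact Nat.Coprime.pow_left k ((Nat.prime_two.coprime_iff_not_dvd).2 S.not_dvd_index)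

/-- A Sylow 2-subgroup lies in a self-centralizing normal subgroup with abelian quotient. -/
theorem sylow_le_of_centralizer {L : Subgroup G} [L.Normal]
    (hC : centralizer (L : Set G) = ⊥)
    (hLodd : ∀ M : Subgroup G, M.Normal → M ≤ L → Odd (Nat.card M) → M = ⊥) (hquot : ∀ a b : G, a * b * a⁻¹ * b⁻¹ ∈ L) (T : Sylow 2 G)
    (hT : IsMulCommutative (T : Subgroup G)) : (T : Subgroup G) ≤ L := by
  classical
  haveI : Fact (Nat.Prime 2) := ⟨Nat.prime_two⟩
  intro t ht
  by_contra htL
  haveI := Fintype.ofFinite G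
  letI : CommGroup (T : Subgroup G) :=
    { (inferInstance : Group (T : Subgroup G)) with mul_comm := hT.is_comm.comm }
  set R := (T : Subgroup G).normalizerMonoidHom.range
  haveI : Fintype R := Fintype.ofFinite R
  -- the norm of `t`
  let c : (T : Subgroup G) := ∏ x : R, (x : MulAut (T : Subgroup G)) ⟨t, ht⟩
  have hfix : ∀ n ∈ normalizer ((T : Subgroup G) : Set G), n * (c : G) * n⁻¹ = c := by
    intro n hn
    let y : R := ⟨(T : Subgroup G).normalizerMonoidHom ⟨n, hn⟩, ⟨_, rfl⟩⟩
    have h1 : (y : MulAut (T : Subgroup G)) c = c := by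
      rw [map_prod]
      exact Fintype.prod_equiv (Equiv.mulLeft y) _ _ fun x => rfl
    exact congrArg Subtype.val h1
  let q : (T : Subgroup G) →* G ⧸ L := (QuotientGroup.mk' L).comp (T : Subgroup G).subtype
  have hqx : ∀ (x : R) (a : (T : Subgroup G)), q ((x : MulAut (T : Subgroup G)) a) = q a := by
    rintro ⟨_, ⟨n, rfl⟩⟩ a
    show ((((n : G) * a * (n : G)⁻¹ : G)) : G ⧸ L) = ((a : G) : G ⧸ L)
    rw [QuotientGroup.eq]
    have := hquot (n : G) (a : G)⁻¹
    rw [inv_inv] at this
    rw [mul_inv_rev, mul_inv_rev, inv_inv, ← mul_assoc]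
    exact this
  have hq : q c = q ⟨t, ht⟩ ^ Fintype.card R := by
    exact map_prod' q fun x => hqx x _
  have hodd : Odd (Fintype.card R) := by
    rw [← Nat.card_eq_fintype_card]
    exact odd_card_range T hT
  have hcL : (c : G) ∉ L := fun h => htL (by
    have h1 : q c = 1 := (QuotientGroup.eq_one_iff _).2 h
    rw [hq] at h1
    rw [← QuotientGroup.eq_one_iff, ← orderOf_eq_one_iff]
    obtain ⟨k, hk⟩ := T.isPGroup' ⟨t, ht⟩
    refine Nat.eq_one_of_dvd_coprimes (a := 2 ^ k) (b := Fintype.card R) ?_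
      (orderOf_dvd_of_pow_eq_one ?_) (orderOf_dvd_of_pow_eq_one h1)
    · exact Nat.Coprime.pow_left k (Nat.coprime_two_left.2 hodd)
    · have := congrArg q hk
      rwa [map_pow, map_one] at this)
  have hc1 : c ≠ 1 := fun h => hcL (by rw [h]; exact one_mem L)
  -- an involution fixed by the normalizer
  obtain ⟨k, hk⟩ := T.isPGroup' c
  have h2 : 2 ∣ orderOf c := by
    obtain ⟨j, -, hj⟩ := (Nat.dvd_prime_pow Nat.prime_two).1 (orderOf_dvd_of_pow_eq_one hk)
    rcases j with _ | j
    · exact absurd (orderOf_eq_one_iff.1 hj) hc1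
    · exact ⟨2 ^ j, by rw [hj, pow_succ']⟩
  set u := c ^ (orderOf c / 2) with hu
  have hu2 : orderOf (u : G) = 2 := by
    rw [orderOf_coe, hu, orderOf_pow_orderOf_div (orderOf_pos c).ne' h2]
  have hufix : ∀ n ∈ normalizer ((T : Subgroup G) : Set G), n * (u : G) * n⁻¹ = u := fun n hn => by
    rw [hu, SubmonoidClass.coe_pow, ← conj_pow, hfix n hn]
  haveI : IsMulCommutative (T : Subgroup G) := hT
  obtain ⟨N, hN, hNo, hNc⟩ := ZStar.exists_oddNormal_of_sylow T hu2 u.2 fun g hg => by
    obtain ⟨n, hn, he⟩ := T.conj_eq_normalizer_conj_of_mem (u : G) g⁻¹ u.2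
      (by rw [inv_inv]; exact hg)
    rw [inv_inv] at he
    rw [he]
    simpa using hufix n⁻¹ (inv_mem hn)
  have huL : (u : G) ∈ centralizer (L : Set G) := by
    -- an odd normal subgroup centralizes `L`
    haveI := hN
    have hNL : N ≤ centralizer (L : Set G) := by
      rw [← commutator_eq_bot_iff_le_centralizer, ← le_bot_iff,
        ← hLodd (N ⊓ L) inferInstance inf_le_right (hNo.of_dvd_nat (card_dvd_of_le inf_le_left))]
      exact le_inf (commutator_le_left N L) (commutator_le_right N L)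
    refine mem_centralizer_iff.2 fun l _ => ?_
    have h1 := hNL (hNc l)
    rw [hC, mem_bot, mul_inv_eq_one, mul_inv_eq_iff_eq_mul] at h1
    exact h1.symm
  rw [hC, mem_bot] at huL
  rw [huL, orderOf_one] at hu2
  omega
where
  map_prod' {R : Type u} [Fintype R] {T : Type u} [CommGroup T] {Q : Type u} [Group Q]
      {f : R → T} {t : T} (q : T →* Q) (h : ∀ x, q (f x) = q t) :
      q (∏ x, f x) = q t ^ Fintype.card R := by
    classical
    rw [← Finset.card_univ]
    induction (Finset.univ : Finset R) using Finset.induction_on with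
    | empty => simp
    | @insert a s ha ih => rw [Finset.prod_insert ha, Finset.card_insert_of_notMem ha, map_mul, ih, h,
        pow_succ']

theorem isPGroup_zpowers {z : G} {k : ℕ} (h : z ^ 2 ^ k = 1) : IsPGroup 2 (zpowers z) := by
  intro x
  obtain ⟨x, i, rfl⟩ := x
  refine ⟨k, Subtype.ext ?_⟩
  show (z ^ i) ^ 2 ^ k = 1
  rw [← zpow_natCast, ← zpow_mul, mul_comm, zpow_mul, zpow_natCast, h, one_zpow]

/-- A 2-element normalizing a simple `L` and centralizing a Sylow 2-subgroup `U` of `L` acts on `L`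
as an element of `U`. -/
theorem exists_inner {L U : Subgroup G} [IsSimpleGroup L] (hnc : ¬ IsMulCommutative L)
    (hUL : U ≤ L) (hUp : IsPGroup 2 U) (hUsyl : ¬ 2 ∣ U.relIndex L) (hUab : IsMulCommutative U)
    {s : G} {k : ℕ} (hs2 : s ^ 2 ^ k = 1) (hsN : s ∈ normalizer (L : Set G))
    (hsU : ∀ u ∈ U, Commute s u) : ∃ u ∈ U, u⁻¹ * s ∈ centralizer (L : Set G) := by
  classical
  haveI : Fact (Nat.Prime 2) := ⟨Nat.prime_two⟩
  set H := L ⊔ zpowers s with hH
  have hLH : L ≤ H := le_sup_left
  have hHN : H ≤ normalizer (L : Set G) := sup_le le_normalizer (zpowers_le.2 hsN)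
  set L' := L.subgroupOf H
  haveI : L'.Normal := normal_subgroupOf_of_le_normalizer hHN
  have hsH : s ∈ H := mem_sup_right (mem_zpowers s)
  have hcenter : ∀ l ∈ L, (∀ m ∈ L, m * l = l * m) → l = 1 := fun l hl hc => by
    have hcen : (⟨l, hl⟩ : L) ∈ Subgroup.center L := mem_center_iff.2 fun y => Subtype.ext (hc y y.2)
    rcases IsSimpleGroup.eq_bot_or_eq_top_of_normal _ (inferInstance :
      (Subgroup.center L).Normal) with h' | h'
    · rw [h', mem_bot] at hcen
      exact congrArg Subtype.val hcen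
    · exact absurd ⟨⟨fun p q => (mem_center_iff.1 (h' ▸ mem_top p) q).symm⟩⟩ hnc
  set C := centralizer (L' : Set H)
  set π := QuotientGroup.mk' C
  have hπ : ∀ l ∈ L', π l = 1 → l = 1 := fun l hl h => by
    have hlC : l ∈ C := (QuotientGroup.eq_one_iff l).1 h
    exact Subtype.ext (hcenter l hl fun m hm =>
      congrArg Subtype.val (mem_centralizer_iff.1 hlC ⟨m, hLH hm⟩ hm))
  haveI : (L'.map π).Normal := Subgroup.Normal.map inferInstance π (QuotientGroup.mk'_surjective C)
  -- `U ⟨s⟩` is a Sylow 2-subgroup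
  have hzn : zpowers s ≤ centralizer (U : Set G) := zpowers_le.2
    (mem_centralizer_iff.2 fun u hu => (hsU u hu).eq.symm)
  set T₀ := U ⊔ zpowers s
  have hT₀H : T₀ ≤ H := sup_le (hUL.trans hLH) le_sup_right
  haveI := hUab
  have hT₀c : T₀ ≤ centralizer (T₀ : Set G) := by
    have h1 : U ≤ centralizer (U : Set G) := le_centralizer_iff_isMulCommutative.2 inferInstance
    have h2 : zpowers s ≤ centralizer (zpowers s : Set G) :=
      le_centralizer_iff_isMulCommutative.2 inferInstance
    refine sup_le (le_centralizer_iff.2 (sup_le h1 hzn)) (le_centralizer_iff.2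
      (sup_le (le_centralizer_iff.2 hzn) h2))
  have hT₀p : IsPGroup 2 T₀ :=
    hUp.to_sup_of_normal_left' (isPGroup_zpowers hs2) (hzn.trans (centralizer_le_normalizer _))
  have hidx : ¬ 2 ∣ (T₀.subgroupOf H).index := by
    intro h2
    refine hUsyl (h2.trans ?_)
    have hsup : H = L ⊔ T₀ := le_antisymm (sup_le le_sup_left (le_sup_right.trans le_sup_right))
      (sup_le le_sup_left hT₀H)
    have hT₀N : T₀ ≤ normalizer (L : Set G) := hT₀H.trans hHN
    show T₀.relIndex H ∣ _
    refine dvd_trans (dvd_of_eq ?_) (Subgroup.relIndex_dvd_of_le_left L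
      (show U ≤ L ⊓ T₀ from le_inf hUL le_sup_left))
    rw [inf_relIndex_left]
    refine Nat.eq_of_mul_eq_mul_left (Nat.card_pos (α := T₀)) ?_
    rw [PLocal.card_mul_relIndex hT₀H]
    haveI : (L.subgroupOf H).Normal := inferInstance
    have e1 := (L.subgroupOf H).card_mul_index
    rw [Nat.card_congr (subgroupOfEquivOfLe hLH).toEquiv] at e1
    have e2 : (L.subgroupOf H).index = L.relIndex T₀ := by
      rw [← relIndex_subgroupOf (H := L) hT₀H, ← relIndex_sup_right (K := L.subgroupOf H),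
        ← subgroupOf_sup hT₀H hLH, sup_comm, ← hsup, subgroupOf_self, relIndex_top_right]
    have e3 := PLocal.card_mul_relIndex (inf_le_left : L ⊓ T₀ ≤ L)
    have e4 := PLocal.card_mul_relIndex (inf_le_right : L ⊓ T₀ ≤ T₀)
    rw [inf_relIndex_left] at e3
    rw [inf_relIndex_right] at e4
    rw [← e1, e2, ← e3, ← e4]
    ring
  let P₀ : Sylow 2 H := (hT₀p.comap_subtype (K := H)).toSylow hidx
  let P₁ : Sylow 2 (H ⧸ C) := P₀.mapSurjective (QuotientGroup.mk'_surjective C)
  have hP₁ : IsMulCommutative (P₁ : Subgroup (H ⧸ C)) := by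
    refine ⟨⟨?_⟩⟩
    rintro ⟨_, a, ha, rfl⟩ ⟨_, b, hb, rfl⟩
    refine Subtype.ext ?_
    show π a * π b = π b * π a
    rw [← map_mul, ← map_mul]
    exact congrArg π (Subtype.ext (mem_centralizer_iff.1 (hT₀c hb) _ ha))
  have key : ∀ a : H, ∃ i : ℤ, (QuotientGroup.mk a : H ⧸ L') = QuotientGroup.mk ⟨s, hsH⟩ ^ i := by
    intro a
    obtain ⟨l, hl, _, ⟨i, rfl⟩, hi⟩ := Coprime.exists_mul_of_mem_sup (zpowers_le.2 hsN) a.2
    refine ⟨i, ?_⟩
    rw [show a = ⟨l, hLH hl⟩ * (⟨s, hsH⟩ : H) ^ i from Subtype.ext (by simpa using hi.symm),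
      QuotientGroup.mk_mul, QuotientGroup.mk_zpow,
      (QuotientGroup.eq_one_iff (N := L') ⟨l, hLH hl⟩).2 hl, one_mul]
  have hle := sylow_le_of_centralizer (L := L'.map π) ?_ ?_ ?_ P₁ hP₁
  · have hs1 : π ⟨s, hsH⟩ ∈ L'.map π := hle ⟨⟨s, hsH⟩, mem_sup_right (mem_zpowers s), rfl⟩
    obtain ⟨l, hl, hls⟩ := hs1
    have hc : (l : G)⁻¹ * s ∈ centralizer (L : Set G) := mem_centralizer_iff.2 fun m hm => by
      have hlC : l⁻¹ * ⟨s, hsH⟩ ∈ C := QuotientGroup.eq.1 hls
      exact congrArg Subtype.val (mem_centralizer_iff.1 hlC ⟨m, hLH hm⟩ hm)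
    have hsame : ∀ m ∈ L, (l : G) * m * (l : G)⁻¹ = s * m * s⁻¹ := fun m hm => by
      have h := mem_centralizer_iff.1 hc m hm
      calc (l : G) * m * (l : G)⁻¹ = l * (m * ((l : G)⁻¹ * s)) * s⁻¹ := by group
        _ = l * ((l : G)⁻¹ * s * m) * s⁻¹ := by rw [h]
        _ = s * m * s⁻¹ := by group
    have hlk : (l : G) ^ 2 ^ k = 1 := by
      refine hcenter _ (pow_mem hl _) fun m hm => ?_
      have hit : ∀ i : ℕ, (l : G) ^ i * m * ((l : G) ^ i)⁻¹ = s ^ i * m * (s ^ i)⁻¹ := by
        intro i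
        induction i with
        | zero => simp
        | succ i ih =>
          have hm' : s ^ i * m * (s ^ i)⁻¹ ∈ L :=
            (mem_normalizer_iff.1 (pow_mem hsN i) m).1 hm
          calc (l : G) ^ (i + 1) * m * ((l : G) ^ (i + 1))⁻¹
              = l * ((l : G) ^ i * m * ((l : G) ^ i)⁻¹) * (l : G)⁻¹ := by rw [pow_succ']; group
            _ = s * (s ^ i * m * (s ^ i)⁻¹) * s⁻¹ := by rw [ih, hsame _ hm']
            _ = s ^ (i + 1) * m * (s ^ (i + 1))⁻¹ := by rw [pow_succ']; group
      have h := hit (2 ^ k)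
      rw [hs2, inv_one, mul_one, one_mul, mul_inv_eq_iff_eq_mul] at h
      exact h.symm
    have hlU : ∀ u ∈ U, (l : G) * u * (l : G)⁻¹ = u := fun u hu => by
      rw [hsame u (hUL hu), (hsU u hu).eq, mul_inv_cancel_right]
    have hlz : zpowers (l : G) ≤ centralizer (U : Set G) := zpowers_le.2
      (mem_centralizer_iff.2 fun u hu => (mul_inv_eq_iff_eq_mul.1 (hlU u hu)).symm)
    have hp : IsPGroup 2 (U ⊔ zpowers (l : G) : Subgroup G) := hUp.to_sup_of_normal_left'
      (isPGroup_zpowers hlk) (hlz.trans (centralizer_le_normalizer _))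
    refine ⟨l, ?_, hc⟩
    let PU : Sylow 2 L := (hUp.comap_subtype (K := L)).toSylow hUsyl
    have hmax : (U ⊔ zpowers (l : G)).subgroupOf L = (PU : Subgroup L) := PU.is_maximal'
      hp.comap_subtype (comap_mono le_sup_left)
    exact hmax.le (show (⟨l, hl⟩ : L) ∈ (U ⊔ zpowers (l : G)).subgroupOf L from
      mem_sup_right (mem_zpowers (l : G)))
  · refine (eq_bot_iff_forall _).2 fun z hz => ?_
    obtain ⟨g, rfl⟩ := QuotientGroup.mk'_surjective C z
    refine (QuotientGroup.eq_one_iff g).2 (mem_centralizer_iff.2 fun m hm => ?_)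
    have h1 : π (g * m * g⁻¹ * m⁻¹) = 1 := by
      rw [map_mul, map_mul, map_mul, ← mem_centralizer_iff.1 hz (π m) ⟨m, hm, rfl⟩]
      simp [π]
    have h2 := hπ _ (L'.mul_mem (Subgroup.Normal.conj_mem inferInstance m hm g) (L'.inv_mem hm)) h1
    rw [mul_inv_eq_one, mul_inv_eq_iff_eq_mul] at h2
    exact h2.symm
  · intro M hM hML hMo
    haveI := hM
    have hinj : Function.Injective (π.comp (inclusion hLH)) := by
      rw [injective_iff_map_eq_one]
      intro x hx
      exact Subtype.ext (congrArg Subtype.val (hπ (inclusion hLH x) x.2 hx) :)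
    have hrange : (π.comp (inclusion hLH)).range = L'.map π := by
      rw [MonoidHom.range_eq_map, ← map_map, ← MonoidHom.range_eq_map, inclusion_range]
    rcases IsSimpleGroup.eq_bot_or_eq_top_of_normal _ (inferInstance :
      (M.comap (π.comp (inclusion hLH))).Normal) with h | h
    · rw [eq_bot_iff_forall]
      intro x hx
      obtain ⟨y, rfl⟩ := hrange.ge (hML hx)
      rw [show y = 1 from mem_bot.1 (h ▸ hx), map_one]
    · exfalso
      haveI : Group.IsSolvable M := Cfsg.Agent.S0205.result hMo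
      refine hnc ⟨⟨IsSimpleGroup.comm_iff_isSolvable.2 ?_⟩⟩
      let f : L →* M := (π.comp (inclusion hLH)).codRestrict M fun x => h.ge (mem_top x)
      exact Group.isSolvable_of_isSolvable_injective (f := f) fun a b hab =>
        hinj (congrArg Subtype.val hab)
  · intro a b
    obtain ⟨a, rfl⟩ := QuotientGroup.mk'_surjective C a
    obtain ⟨b, rfl⟩ := QuotientGroup.mk'_surjective C b
    refine ⟨a * b * a⁻¹ * b⁻¹, ?_, by simp [π]⟩
    obtain ⟨i, hi⟩ := key a
    obtain ⟨j, hj⟩ := key b
    rw [SetLike.mem_coe, ← QuotientGroup.eq_one_iff, QuotientGroup.mk_mul, QuotientGroup.mk_mul,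
      QuotientGroup.mk_mul, QuotientGroup.mk_inv, QuotientGroup.mk_inv, hi, hj, ← zpow_add,
      ← zpow_neg, ← zpow_neg, ← zpow_add, ← zpow_add]
    rw [show i + j + -i + -j = 0 by ring, zpow_zero]

end CfsgLib.Walter.Rank
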