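import Cfsg.Agent.Walter.Rank.TopStruct
import Cfsg.Agent.Walter.Rank.CompType
import Cfsg.Agent.PLocal.Constraint
import Cfsg.Agent.Balance.Core

/-!
# Walter, rank at least four: subgroups of a centralizer and their images

`img a H`: the image of `H` in `C(a)/O(C(a))`; `lift a L`: the preimage of `L`.
`Atom M`: `M` is perfect, not trivial, and its proper normal subgroups have odd order.
`Comp a M`: `M` is an `Atom`, subnormal in `C(a)` (the perfect lift of a component).
`cenS S a M`: the elements of `S` centralizing `img a M`.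
-/

set_option autoImplicit false
set_option linter.style.haveILetI false
set_option linter.unusedSectionVars false

open Subgroup
open scoped commutatorElement

namespace CfsgLib.Walter.Rank

universe u

variable {G : Type u} [Group G]

/-- `C(a)/O(C(a))`. -/
abbrev Top2 (a : G) : Type u :=
  ↥(centralizer ({a} : Set G)) ⧸ Cfsg.oddCore ↥(centralizer ({a} : Set G))

/-- The projection. -/
abbrev proj (a : G) : ↥(centralizer ({a} : Set G)) →* Top2 a :=
  QuotientGroup.mk' (Cfsg.oddCore ↥(centralizer ({a} : Set G)))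

/-- The image of a subgroup. -/
def img (a : G) (H : Subgroup G) : Subgroup (Top2 a) :=
  (H.subgroupOf (centralizer ({a} : Set G))).map (proj a)

/-- The preimage of a subgroup. -/
def lift (a : G) (L : Subgroup (Top2 a)) : Subgroup G :=
  (L.comap (proj a)).map (centralizer ({a} : Set G)).subtype

/-- A perfect group whose proper normal subgroups have odd order. -/
structure Atom (M : Subgroup G) : Prop where
  perfect : ⁅M, M⁆ = M
  ne_bot : M ≠ ⊥
  normal : ∀ N : Subgroup G, N ≤ M → M ≤ normalizer (N : Set G) → N = M ∨ Odd (Nat.card N)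

/-- An atom subnormal in `C(a)`. -/
structure Comp (a : G) (M : Subgroup G) : Prop where
  le : M ≤ centralizer ({a} : Set G)
  subnormal : (M.subgroupOf (centralizer ({a} : Set G))).IsSubnormal
  atom : Atom M

/-- The elements of `S` centralizing the image of `M`. -/
def cenS (S : Subgroup G) (a : G) (M : Subgroup G) : Subgroup G :=
  S ⊓ lift a (centralizer (img a M : Set (Top2 a)))

theorem mem_lift {a x : G} {L : Subgroup (Top2 a)} :
    x ∈ lift a L ↔ ∃ h : x ∈ centralizer ({a} : Set G), proj a ⟨x, h⟩ ∈ L := by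
  constructor
  · rintro ⟨y, hy, rfl⟩
    exact ⟨y.2, hy⟩
  · rintro ⟨h, hx⟩
    exact ⟨⟨x, h⟩, hx, rfl⟩

theorem lift_le (a : G) (L : Subgroup (Top2 a)) : lift a L ≤ centralizer ({a} : Set G) :=
  map_subtype_le _

theorem lift_mono {a : G} {L L' : Subgroup (Top2 a)} (h : L ≤ L') : lift a L ≤ lift a L' :=
  map_mono (comap_mono h)

theorem mem_img_of_mem {a x : G} {H : Subgroup G} (h : x ∈ centralizer ({a} : Set G))
    (hx : x ∈ H) : proj a ⟨x, h⟩ ∈ img a H :=
  ⟨⟨x, h⟩, hx, rfl⟩

theorem exists_of_mem_img {a : G} {H : Subgroup G} {z : Top2 a} (hz : z ∈ img a H) :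
    ∃ (x : G) (h : x ∈ centralizer ({a} : Set G)), x ∈ H ∧ proj a ⟨x, h⟩ = z := by
  obtain ⟨y, hy, rfl⟩ := hz
  exact ⟨y, y.2, hy, rfl⟩

theorem img_mono {a : G} {H K : Subgroup G} (h : H ≤ K) : img a H ≤ img a K :=
  map_mono (comap_mono h)

theorem img_lift (a : G) (L : Subgroup (Top2 a)) : img a (lift a L) = L := by
  rw [img, lift, subgroupOf, comap_map_eq_self_of_injective (Subgroup.subtype_injective _),
    map_comap_eq_self_of_surjective (QuotientGroup.mk'_surjective _)]

theorem le_lift_img {a : G} {H : Subgroup G} (h : H ≤ centralizer ({a} : Set G)) :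
    H ≤ lift a (img a H) := fun x hx => mem_lift.2 ⟨h hx, mem_img_of_mem _ hx⟩

theorem img_commutator {a : G} {H K : Subgroup G} (hH : H ≤ centralizer ({a} : Set G))
    (hK : K ≤ centralizer ({a} : Set G)) : img a ⁅H, K⁆ = ⁅img a H, img a K⁆ := by
  have : (⁅H, K⁆ : Subgroup G).subgroupOf (centralizer ({a} : Set G)) =
      ⁅H.subgroupOf (centralizer ({a} : Set G)), K.subgroupOf (centralizer ({a} : Set G))⁆ := by
    apply map_injective (centralizer ({a} : Set G)).subtype_injective
    rw [map_commutator, map_subgroupOf_eq_of_le hH, map_subgroupOf_eq_of_le hK,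
      map_subgroupOf_eq_of_le ((commutator_mono hH hK).trans (commutator_le_self _))]
  rw [img, this, map_commutator]
  rfl

theorem le_centralizer_singleton_of_comm {S : Subgroup G} (hS : IsMulCommutative S) {a : G}
    (ha : a ∈ S) : S ≤ centralizer ({a} : Set G) := fun s hs =>
  mem_centralizer_singleton_iff.2 (congrArg Subtype.val (hS.is_comm.comm (⟨s, hs⟩ : S) ⟨a, ha⟩))

variable [Finite G]

theorem proj_eq_one_iff {a x : G} (h : x ∈ centralizer ({a} : Set G)) :
    proj a ⟨x, h⟩ = 1 ↔ x ∈ Cfsg.centralizerPPrimeCore 2 a := by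
  rw [QuotientGroup.mk'_apply, QuotientGroup.eq_one_iff]
  exact ⟨fun hx => ⟨⟨x, h⟩, hx, rfl⟩, fun ⟨y, hy, e⟩ =>
    (show y = ⟨x, h⟩ from Subtype.ext e) ▸ hy⟩

theorem odd_card_core (a : G) : Odd (Nat.card (Cfsg.centralizerPPrimeCore 2 a)) :=
  Nat.coprime_two_right.1 (Balance.coprime_coreIn _)

theorem core_le (a : G) : Cfsg.centralizerPPrimeCore 2 a ≤ centralizer ({a} : Set G) :=
  map_subtype_le _

theorem odd_card_of_img_eq_bot {a : G} {H : Subgroup G} (hH : H ≤ centralizer ({a} : Set G))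
    (h : img a H = ⊥) : Odd (Nat.card H) :=
  (odd_card_core a).of_dvd_nat (card_dvd_of_le fun _ hx => (proj_eq_one_iff (hH hx)).1
    (mem_bot.1 (h ▸ mem_img_of_mem (hH hx) hx)))

theorem eq_one_of_mem_core {a x : G} {P : Subgroup G} (hP : IsPGroup 2 P) (hx : x ∈ P)
    (hc : x ∈ Cfsg.centralizerPPrimeCore 2 a) : x = 1 := by
  have h := PLocal.disjoint_of_isPGroup_of_coprime hP
    (Nat.coprime_two_right.2 (odd_card_core a))
  exact mem_bot.1 (h ▸ (⟨hx, hc⟩ : x ∈ P ⊓ Cfsg.centralizerPPrimeCore 2 a))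

theorem proj_injOn {a x y : G} {P : Subgroup G} (hP : IsPGroup 2 P) (hx : x ∈ P) (hy : y ∈ P)
    (hxC : x ∈ centralizer ({a} : Set G)) (hyC : y ∈ centralizer ({a} : Set G))
    (h : proj a ⟨x, hxC⟩ = proj a ⟨y, hyC⟩) : x = y := by
  refine inv_mul_eq_one.1 (eq_one_of_mem_core hP (mul_mem (inv_mem hx) hy)
    ((proj_eq_one_iff (a := a) (mul_mem (inv_mem hxC) hyC)).1 ?_))
  show proj a (⟨x, hxC⟩⁻¹ * ⟨y, hyC⟩) = 1
  rw [map_mul, map_inv, h, inv_mul_cancel]

theorem card_img_of_twoGroup {a : G} {H : Subgroup G} (hH : IsPGroup 2 H)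
    (hle : H ≤ centralizer ({a} : Set G)) : Nat.card (img a H) = Nat.card H := by
  rw [← Nat.card_congr (subgroupOfEquivOfLe hle).toEquiv, img]
  refine Nat.card_image_of_injOn fun x hx y hy e => Subtype.ext ?_
  exact proj_injOn hH hx hy x.2 y.2 e

/-- A perfect group of odd order is trivial. -/
theorem eq_bot_of_perfect_odd {M : Subgroup G} (hM : ⁅M, M⁆ = M) (h : Odd (Nat.card M)) :
    M = ⊥ := by
  haveI : Group.IsSolvable M := Cfsg.Agent.S0205.result h
  obtain ⟨n, hn⟩ := (Group.isSolvable_def (G := M)).1 inferInstance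
  have hall : ∀ i, (derivedSeries M i).map M.subtype = M := by
    intro i
    induction i with
    | zero => rw [derivedSeries_zero, ← MonoidHom.range_eq_map, range_subtype]
    | succ i ih => rw [derivedSeries_succ, map_commutator, ih, hM]
  rw [← hall n, hn, Subgroup.map_bot]

variable {a : G} {S : Sylow 2 G}

/-- The image of a Sylow 2-subgroup is a Sylow 2-subgroup. -/
noncomputable def imgSylow (S : Sylow 2 G) {a : G}
    (hS : (S : Subgroup G) ≤ centralizer ({a} : Set G)) : Sylow 2 (Top2 a) :=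
  haveI : Fact (Nat.Prime 2) := ⟨Nat.prime_two⟩
  (S.subtype hS).mapSurjective (QuotientGroup.mk'_surjective _)

theorem coe_imgSylow (hS : (S : Subgroup G) ≤ centralizer ({a} : Set G)) :
    (imgSylow S hS : Subgroup (Top2 a)) = img a (S : Subgroup G) := rfl

theorem card_inf_eq_ordProj {H M : Subgroup G} (hSH : (S : Subgroup G) ≤ H) (hMH : M ≤ H)
    (hM : (M.subgroupOf H).IsSubnormal) :
    Nat.card ↥((S : Subgroup G) ⊓ M) = 2 ^ (Nat.card M).factorization 2 := by
  haveI : Fact (Nat.Prime 2) := ⟨Nat.prime_two⟩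
  have h := not_dvd_relIndex_of_isSubnormal (S.subtype hSH) hM
  rw [show ((S.subtype hSH : Sylow 2 H) : Subgroup H) = (S : Subgroup G).subgroupOf H from rfl,
    show (S : Subgroup G).subgroupOf H ⊓ M.subgroupOf H =
      ((S : Subgroup G) ⊓ M).subgroupOf H from rfl,
    relIndex_subgroupOf hMH] at h
  let P : Sylow 2 M := ((S.isPGroup'.to_le inf_le_left).comap_subtype (K := M)).toSylow h
  rw [← P.card_eq_multiplicity]
  exact (Nat.card_congr (subgroupOfEquivOfLe inf_le_right).toEquiv).symm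

/-- Existence of the perfect lift of a component covered by `H`. -/
theorem exists_atom {H : Subgroup G} (hH : H ≤ centralizer ({a} : Set G)) {L : Subgroup (Top2 a)}
    (hLs : L.IsSubnormal) (hperf : ⁅L, L⁆ = L) (hne : L ≠ ⊥)
    (hsimple : ∀ N : Subgroup (Top2 a), N ≤ L → L ≤ normalizer (N : Set (Top2 a)) → N = ⊥ ∨ N = L)
    (hLH : L ≤ img a H) :
    ∃ M : Subgroup G, M ≤ H ∧ (M.subgroupOf H).IsSubnormal ∧ Atom M ∧ img a M = L := by
  set M0 := lift a L ⊓ H with hM0
  have himg0 : img a M0 = L := by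
    refine le_antisymm ((img_mono inf_le_left).trans (img_lift a L).le) fun z hz => ?_
    obtain ⟨x, hx, hxH, rfl⟩ := exists_of_mem_img (hLH hz)
    exact mem_img_of_mem hx ⟨mem_lift.2 ⟨hx, hz⟩, hxH⟩
  have hM0s : (M0.subgroupOf H).IsSubnormal := by
    have e : M0.subgroupOf H = ((L.comap (proj a)).comap (inclusion hH)) := by
      ext x
      rw [mem_subgroupOf, mem_comap, mem_comap]
      refine ⟨fun hx => ?_, fun hx => ⟨mem_lift.2 ⟨hH x.2, hx⟩, x.2⟩⟩
      obtain ⟨h, hx'⟩ := mem_lift.1 hx.1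
      exact hx'
    rw [e]
    exact (hLs.comap (proj a)).comap _
  obtain ⟨n, hn⟩ := exists_perfect_normal M0
  have hd : ∀ i, img a ((derivedSeries M0 i).map M0.subtype) = L := by
    intro i
    induction i with
    | zero => rwa [derivedSeries_zero, ← MonoidHom.range_eq_map, range_subtype]
    | succ i ih =>
      rw [derivedSeries_succ, map_commutator,
        img_commutator ((map_subtype_le _).trans (inf_le_right.trans hH))
          ((map_subtype_le _).trans (inf_le_right.trans hH)), ih, hperf]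
  set M := (derivedSeries M0 n).map M0.subtype
  have hMH : M ≤ H := (map_subtype_le _).trans inf_le_right
  have hMp : ⁅M, M⁆ = M := by rw [← map_commutator, hn]
  have hMne : M ≠ ⊥ := fun e => hne (by
    rw [← hd n, show (derivedSeries M0 n).map M0.subtype = ⊥ from e, img, bot_subgroupOf,
      Subgroup.map_bot])
  refine ⟨M, hMH, ?_, ⟨hMp, hMne, fun N hNM hMN => ?_⟩, hd n⟩
  · have h1 : (derivedSeries M0 n).IsSubnormal :=
      Subgroup.Normal.isSubnormal (derivedSeries_normal M0 n)
    have e : M.subgroupOf H = ((derivedSeries M0 n).map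
        (subgroupOfEquivOfLe (inf_le_right : M0 ≤ H)).symm.toMonoidHom).map
          (M0.subgroupOf H).subtype := by
      apply map_injective H.subtype_injective
      rw [map_subgroupOf_eq_of_le hMH, map_map, map_map]
      rfl
    rw [e]
    exact (h1.map (MulEquiv.surjective _)).trans' hM0s
  · have hNn : L ≤ normalizer (img a N : Set (Top2 a)) := by
      rw [← hd n]
      refine (map_mono ?_).trans (le_normalizer_map (proj a))
      exact (comap_mono hMN).trans (le_normalizer_comap _)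
    rcases hsimple (img a N) ((img_mono hNM).trans (hd n).le) hNn with h | h
    · exact Or.inr (odd_card_of_img_eq_bot ((hNM.trans hMH).trans hH) h)
    · left
      haveI : (N.subgroupOf M).Normal := normal_subgroupOf_of_le_normalizer hMN
      set K := (Cfsg.centralizerPPrimeCore 2 a).subgroupOf M
      have hsurj : Function.Surjective ((QuotientGroup.mk' (N.subgroupOf M)).comp K.subtype) := by
        intro z
        obtain ⟨m, rfl⟩ := QuotientGroup.mk'_surjective (N.subgroupOf M) z
        obtain ⟨x, hx, hxN, he⟩ := exists_of_mem_img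
          (h.ge ((hd n).le (mem_img_of_mem (hH (hMH m.2)) m.2)))
        have hk : x⁻¹ * (m : G) ∈ Cfsg.centralizerPPrimeCore 2 a := by
          refine (proj_eq_one_iff (a := a) (mul_mem (inv_mem hx) (hH (hMH m.2)))).1 ?_
          show proj a (⟨x, hx⟩⁻¹ * ⟨m, hH (hMH m.2)⟩) = 1
          rw [map_mul, map_inv, he, inv_mul_cancel]
        refine ⟨⟨⟨x⁻¹ * m, M.mul_mem (M.inv_mem (hNM hxN)) m.2⟩, hk⟩, ?_⟩
        refine QuotientGroup.eq.2 ?_
        show (x⁻¹ * (m : G))⁻¹ * m ∈ N
        rw [mul_inv_rev, inv_inv]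
        have := (mem_normalizer_iff.1 (hMN (M.inv_mem m.2)) x).1 hxN
        rwa [inv_inv] at this
      haveI : Group.IsSolvable K := Cfsg.Agent.S0205.result
        ((odd_card_core a).of_dvd_nat (card_comap_dvd_of_injective _ _ M.subtype_injective))
      haveI := Group.isSolvable_of_surjective hsurj
      obtain ⟨k, hk⟩ := (Group.isSolvable_def (G := M ⧸ N.subgroupOf M)).1 inferInstance
      have hall : ∀ i, derivedSeries M i = ⊤ := by
        intro i
        induction i with
        | zero => rfl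
        | succ i ih =>
          rw [derivedSeries_succ, ih]
          exact map_injective M.subtype_injective
            (by rw [map_commutator, ← MonoidHom.range_eq_map, range_subtype, hMp])
      refine le_antisymm hNM fun m hm => ?_
      have h2 := map_derivedSeries_le_derivedSeries (QuotientGroup.mk' (N.subgroupOf M)) k
      rw [hall, hk, le_bot_iff, Subgroup.map_eq_bot_iff, QuotientGroup.ker_mk'] at h2
      exact h2 (mem_top ⟨m, hm⟩)

/-- The standing hypotheses. -/
structure Hyp (S : Sylow 2 G) : Prop where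
  simple : IsSimpleGroup G
  notComm : ¬ IsMulCommutative G
  comm : IsMulCommutative (S : Subgroup G)
  small : SmallHyp.{u} (Nat.card G)

theorem Hyp.of_sylow (h : Hyp S) (T : Sylow 2 G) : Hyp T := by
  haveI : Fact (Nat.Prime 2) := ⟨Nat.prime_two⟩
  refine ⟨h.simple, h.notComm, ⟨⟨fun x y => ?_⟩⟩, h.small⟩
  exact (Sylow.equiv T S).injective (by rw [map_mul, map_mul]; exact h.comm.is_comm.comm _ _)

theorem Hyp.le_centralizer (h : Hyp S) (ha : a ∈ (S : Subgroup G)) :
    (S : Subgroup G) ≤ centralizer ({a} : Set G) :=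
  le_centralizer_singleton_of_comm h.comm ha

theorem Hyp.topHyp (h : Hyp S) (ha1 : a ≠ 1) : TopHyp (Top2 a) := by
  haveI : Fact (Nat.Prime 2) := ⟨Nat.prime_two⟩
  haveI := h.simple
  have hlt : Nat.card (centralizer ({a} : Set G)) < Nat.card G := by
    refine lt_of_le_of_ne (card_le_card_group _) fun e => ha1 ?_
    have htop := eq_top_of_card_eq _ e
    have hz : a ∈ Subgroup.center G := mem_center_iff.2 fun g =>
      mem_centralizer_singleton_iff.1 (htop ▸ mem_top g)
    rcases IsSimpleGroup.eq_bot_or_eq_top_of_normal _ (inferInstance :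
      (Subgroup.center G).Normal) with e' | e'
    · rwa [e', mem_bot] at hz
    · exact absurd ⟨⟨fun p q => (mem_center_iff.1 (e' ▸ mem_top p) q).symm⟩⟩ h.notComm
  refine ⟨fun P => ?_, PLocal.pPrimeCore_quotient_pPrimeCore_eq_bot 2 _,
    _, h.small, (Nat.card_le_card_of_surjective _ (QuotientGroup.mk'_surjective _)).trans_lt hlt⟩
  obtain ⟨P', rfl⟩ := Sylow.mapSurjective_surjective
    (QuotientGroup.mk'_surjective (Cfsg.oddCore ↥(centralizer ({a} : Set G)))) 2 P
  refine ⟨⟨?_⟩⟩
  rintro ⟨_, x, hx, rfl⟩ ⟨_, y, hy, rfl⟩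
  exact Subtype.ext (by
    show proj a x * proj a y = proj a y * proj a x
    rw [← map_mul, ← map_mul]
    exact congrArg (proj a) (congrArg Subtype.val ((sylow_subgroup_comm (fun T => (h.of_sylow T).comm)
      _ P').is_comm.comm ⟨x, hx⟩ ⟨y, hy⟩)))

theorem Comp.isComponent {M : Subgroup G} (hM : Comp a M) : Cfsg.IsComponent (img a M) := by
  have hperf : ⁅img a M, img a M⁆ = img a M := by
    rw [← img_commutator hM.le hM.le, hM.atom.perfect]
  have hne : img a M ≠ ⊥ := fun e =>
    hM.atom.ne_bot (eq_bot_of_perfect_odd hM.atom.perfect (odd_card_of_img_eq_bot hM.le e))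
  have hsn : (img a M).IsSubnormal := hM.subnormal.map (QuotientGroup.mk'_surjective _)
  haveI : Nontrivial (img a M) := (nontrivial_iff_ne_bot _).2 hne
  refine ⟨hsn, Components.isQuasisimple_of_normal_le_center
    (map_injective (img a M).subtype_injective (by
      rw [map_commutator, ← MonoidHom.range_eq_map, range_subtype, hperf]))
    fun N hN hNtop => ?_⟩
  set N' := M ⊓ lift a (N.map (img a M).subtype)
  have hnN : M ≤ normalizer (N' : Set G) := by
    refine Transitivity.le_normalizer_of_forall_conj fun m hm x hx => ⟨?_, ?_⟩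
    · exact M.mul_mem (M.mul_mem hm hx.1) (M.inv_mem hm)
    · obtain ⟨hxC, z, hz, hze⟩ := mem_lift.1 hx.2
      have hmx : m * x * m⁻¹ ∈ centralizer ({a} : Set G) :=
        mul_mem (mul_mem (hM.le hm) hxC) (inv_mem (hM.le hm))
      refine mem_lift.2 ⟨hmx, _, Subgroup.Normal.conj_mem hN z hz
        ⟨proj a ⟨m, hM.le hm⟩, mem_img_of_mem _ hm⟩, ?_⟩
      show proj a ⟨m, hM.le hm⟩ * (z : Top2 a) * (proj a ⟨m, hM.le hm⟩)⁻¹ =
        proj a (⟨m, hM.le hm⟩ * ⟨x, hxC⟩ * ⟨m, hM.le hm⟩⁻¹)
      rw [map_mul, map_mul, map_inv, show (z : Top2 a) = proj a ⟨x, hxC⟩ from hze]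
  have hN'i : img a N' = N.map (img a M).subtype := by
    refine le_antisymm ((img_mono inf_le_right).trans (img_lift a _).le) ?_
    rintro _ ⟨z, hz, rfl⟩
    obtain ⟨x, hx, hxM, he⟩ := exists_of_mem_img z.2
    rw [Subgroup.subtype_apply, ← he]
    exact mem_img_of_mem hx ⟨hxM, mem_lift.2 ⟨hx, z, hz, he.symm⟩⟩
  rcases hM.atom.normal N' inf_le_left hnN with e | e
  · refine absurd ?_ hNtop
    rw [e] at hN'i
    refine eq_top_iff.2 fun z _ => ?_
    obtain ⟨w, hw, hwz⟩ := hN'i.le z.2
    rwa [← Subtype.ext hwz]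
  · have hodd : Odd (Nat.card (N.map (img a M).subtype)) := by
      rw [← hN'i]
      refine e.of_dvd_nat ((card_map_dvd _ _).trans (dvd_of_eq ?_))
      rw [Nat.card_congr (subgroupOfEquivOfLe (inf_le_left.trans hM.le)).toEquiv]
    have h0 := PLocal.le_pPrimeCore_of_isSubnormal (p := 2)
      ((Subgroup.Normal.isSubnormal hN).trans' hsn) (Nat.coprime_two_right.2 hodd)
    rw [show Cfsg.pPrimeCore 2 (Top2 a) = ⊥ from
        PLocal.pPrimeCore_quotient_pPrimeCore_eq_bot 2 _, le_bot_iff,
      map_eq_bot_iff_of_injective _ (img a M).subtype_injective] at h0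
    rw [h0]
    exact bot_le

namespace Hyp

variable (h : Hyp S) (ha : a ∈ (S : Subgroup G))
include h ha

/-- Every component has a lift. -/
theorem exists_comp (ha1 : a ≠ 1) {L : Subgroup (Top2 a)} (hL : Cfsg.IsComponent L) :
    ∃ M, Comp a M ∧ img a M = L := by
  have hX := h.topHyp ha1
  haveI := hX.isSimpleGroup hL
  obtain ⟨M, hMC, hMs, hMa, hMi⟩ := exists_atom (H := centralizer ({a} : Set G)) le_rfl hL.1
    (Components.IsComponent.commutator_eq_self hL) (Components.IsComponent.ne_bot hL)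
    (fun N hN hn => by
      haveI : (N.subgroupOf L).Normal := normal_subgroupOf_of_le_normalizer hn
      rcases IsSimpleGroup.eq_bot_or_eq_top_of_normal _ (inferInstance : (N.subgroupOf L).Normal)
        with e | e
      · exact Or.inl (by rw [← map_subgroupOf_eq_of_le hN, e, Subgroup.map_bot])
      · exact Or.inr (le_antisymm hN (subgroupOf_eq_top.1 e)))
    (by
      intro z _
      obtain ⟨x, rfl⟩ := QuotientGroup.mk'_surjective _ z
      exact ⟨x, x.2, rfl⟩)
  exact ⟨M, ⟨hMC, hMs, hMa⟩, hMi⟩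

theorem card_img_inf (L : Subgroup (Top2 a)) :
    Nat.card ↥((S : Subgroup G) ⊓ lift a L) =
      Nat.card ↥((imgSylow S (h.le_centralizer ha) : Subgroup (Top2 a)) ⊓ L) := by
  rw [← card_img_of_twoGroup (a := a) (S.isPGroup'.to_le inf_le_left)
    (inf_le_right.trans (lift_le a L)), coe_imgSylow]
  congr 2
  refine le_antisymm (le_inf (img_mono inf_le_left) ((img_mono inf_le_right).trans (img_lift a L).le))
    fun z hz => ?_
  obtain ⟨x, hx, hxS, rfl⟩ := exists_of_mem_img hz.1
  exact mem_img_of_mem hx ⟨hxS, mem_lift.2 ⟨hx, hz.2⟩⟩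

/-- The traces on `S` of an atom and of the preimage of its image coincide. -/
theorem inf_eq_of_img (ha1 : a ≠ 1) {H M : Subgroup G} (hH : H ≤ centralizer ({a} : Set G))
    (hSH : (S : Subgroup G) ≤ H) (hMH : M ≤ H) (hM : (M.subgroupOf H).IsSubnormal)
    {L : Subgroup (Top2 a)} (hL : Cfsg.IsComponent L) (hi : img a M = L) :
    (S : Subgroup G) ⊓ M = (S : Subgroup G) ⊓ lift a L := by
  haveI : Fact (Nat.Prime 2) := ⟨Nat.prime_two⟩
  refine eq_of_le_of_card_ge (inf_le_inf_left _ ((le_lift_img (hMH.trans hH)).trans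
    (lift_mono hi.le))) ?_
  rw [h.card_img_inf ha L, card_inf_eq_ordProj hSH hMH hM]
  have h2 := not_dvd_relIndex_of_isSubnormal (imgSylow S (h.le_centralizer ha)) hL.1
  let P : Sylow 2 L := (((imgSylow S (h.le_centralizer ha)).isPGroup'.to_le
    inf_le_left).comap_subtype (K := L)).toSylow h2
  rw [← Nat.card_congr (subgroupOfEquivOfLe (inf_le_right :
    (imgSylow S (h.le_centralizer ha) : Subgroup (Top2 a)) ⊓ L ≤ L)).toEquiv,
    show Nat.card (((imgSylow S (h.le_centralizer ha) : Subgroup (Top2 a)) ⊓ L).subgroupOf L) =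
      Nat.card (P : Subgroup L) from rfl, P.card_eq_multiplicity]
  refine Nat.pow_le_pow_right two_pos ((Nat.factorization_le_iff_dvd Nat.card_pos.ne'
    Nat.card_pos.ne').2 ?_ 2)
  rw [← hi]
  refine (card_map_dvd _ _).trans (dvd_of_eq ?_)
  rw [Nat.card_congr (subgroupOfEquivOfLe (hMH.trans hH)).toEquiv]

theorem comp_inf_eq (ha1 : a ≠ 1) {M : Subgroup G} (hM : Comp a M) :
    (S : Subgroup G) ⊓ M = (S : Subgroup G) ⊓ lift a (img a M) :=
  h.inf_eq_of_img ha ha1 le_rfl (h.le_centralizer ha) hM.le hM.subnormal hM.isComponent rfl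

/-- `S` is the product of its trace on `M` and the centralizer of the image of `M`. -/
theorem exists_mul (ha1 : a ≠ 1) {M : Subgroup G} (hM : Comp a M) {s : G}
    (hs : s ∈ (S : Subgroup G)) :
    ∃ u ∈ (S : Subgroup G) ⊓ M, ∃ c ∈ cenS (S : Subgroup G) a M, s = u * c := by
  have hsC := h.le_centralizer ha hs
  obtain ⟨z, hz, c, hcP, hcc, he⟩ := (h.topHyp ha1).exists_mul hM.isComponent
    (imgSylow S (h.le_centralizer ha)) (mem_img_of_mem hsC hs)
  obtain ⟨x, hx, hxS, rfl⟩ := exists_of_mem_img hz.1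
  have hxM : x ∈ (S : Subgroup G) ⊓ M := by
    rw [h.comp_inf_eq ha ha1 hM]
    exact ⟨hxS, mem_lift.2 ⟨hx, hz.2⟩⟩
  refine ⟨x, hxM, x⁻¹ * s, ⟨(S : Subgroup G).mul_mem ((S : Subgroup G).inv_mem hxS) hs, mem_lift.2
    ⟨mul_mem (inv_mem hx) hsC, ?_⟩⟩, (mul_inv_cancel_left x s).symm⟩
  show proj a (⟨x, hx⟩⁻¹ * ⟨s, hsC⟩) ∈ _
  rw [map_mul, map_inv, he, inv_mul_cancel_left]
  exact hcc

theorem inf_cenS (ha1 : a ≠ 1) {M : Subgroup G} (hM : Comp a M) :
    (S : Subgroup G) ⊓ M ⊓ cenS (S : Subgroup G) a M = ⊥ := by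
  refine (eq_bot_iff_forall _).2 fun x hx => ?_
  obtain ⟨hxC, hc⟩ := mem_lift.1 hx.2.2
  exact proj_injOn S.isPGroup' hx.1.1 (one_mem _) hxC (one_mem _) (by
    rw [(h.topHyp ha1).eq_one_of_centralizes hM.isComponent (mem_img_of_mem hxC hx.1.2) hc]
    exact (map_one (proj a)).symm)

theorem card_eq_mul (ha1 : a ≠ 1) {M : Subgroup G} (hM : Comp a M) :
    Nat.card (S : Subgroup G) =
      Nat.card ↥((S : Subgroup G) ⊓ M) * Nat.card (cenS (S : Subgroup G) a M) := by
  have hn : cenS (S : Subgroup G) a M ≤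
      normalizer (((S : Subgroup G) ⊓ M : Subgroup G) : Set G) := fun c hc =>
    centralizer_le_normalizer _ (mem_centralizer_iff.2 fun x hx => congrArg Subtype.val
      (h.comm.is_comm.comm (⟨x, hx.1⟩ : (S : Subgroup G)) ⟨c, hc.1⟩))
  rw [← Coprime.card_sup_eq hn (h.inf_cenS ha ha1 hM)]
  refine congrArg (fun H : Subgroup G => Nat.card H)
    (le_antisymm (fun s hs => ?_) (sup_le inf_le_left inf_le_left))
  obtain ⟨u, hu, c, hc, rfl⟩ := h.exists_mul ha ha1 hM hs
  exact mul_mem (mem_sup_left hu) (mem_sup_right hc)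

theorem mem_cenS_self {M : Subgroup G} : a ∈ cenS (S : Subgroup G) a M := by
  refine ⟨ha, mem_lift.2 ⟨mem_centralizer_singleton_iff.2 rfl, mem_centralizer_iff.2 fun z hz => ?_⟩⟩
  obtain ⟨x, hx, -, rfl⟩ := exists_of_mem_img hz
  rw [← map_mul, ← map_mul]
  exact congrArg (proj a) (Subtype.ext (mem_centralizer_singleton_iff.1 hx))

theorem compType (ha1 : a ≠ 1) {M : Subgroup G} (hM : Comp a M) : CompType (img a M) :=
  (h.topHyp ha1).compType hM.isComponent

end Hyp

end CfsgLib.Walter.Rank
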