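import Cfsg.Agent.Walter.Rank.LinearBasic
import Mathlib

/-!
# Walter, rank at least four: coset representatives are independent over the field

`index_le_sq`: let `R` be a field of endomorphisms of `V` containing `M` and centralized by `K`. If
the commutators of `K` lie in `M` and `M` is the centre of `K`, then `|K : M| ≤ (dim_R V) ^ 2`.
-/

set_option autoImplicit false
set_option linter.style.haveILetI false
set_option linter.unusedSectionVars false

namespace CfsgLib.Walter.Rank

open Module

variable {V : Type*} [AddCommGroup V] [Module (ZMod 2) V] [Finite V]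

local notation "End2" => Module.End (ZMod 2) V

theorem index_le_sq_of_module {F : Type*} [Field F] [Module F V]
    {M K : Subgroup (Module.End (ZMod 2) V)ˣ}
    (hMF : ∀ g ∈ M, ∃ a : F, ∀ v : V, (g : End2) v = a • v)
    (hKF : ∀ x ∈ K, ∀ (a : F) (v : V), (x : End2) (a • v) = a • (x : End2) v)
    (hMx : ∀ x ∈ K, ∀ g ∈ M, x * g = g * x)
    (hKK : ∀ x ∈ K, ∀ y ∈ K, x * y * x⁻¹ * y⁻¹ ∈ M)
    (hcentre : ∀ x ∈ K, (∀ y ∈ K, x * y = y * x) → x ∈ M) (hV : ∃ v : V, v ≠ 0) :
    (M.subgroupOf K).index ≤ finrank F V * finrank F V := by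
  classical
  haveI : Finite (End2) := Finite.of_injective _ DFunLike.coe_injective
  set M' := M.subgroupOf K
  haveI hM'n : M'.Normal := ⟨fun x hx g => by
    show (g : (End2)ˣ) * x * (g : (End2)ˣ)⁻¹ ∈ M
    rw [hMx g g.2 (x : (End2)ˣ) hx, mul_inv_cancel_right]
    exact hx⟩
  let L : K → (V →ₗ[F] V) := fun x =>
    { toFun := fun v => ((x : (End2)ˣ) : End2) v
      map_add' := map_add _
      map_smul' := fun a v => hKF _ x.2 a v }
  let Qr : K ⧸ M' → K := fun a => a.out
  have hli : LinearIndependent F fun a => L (Qr a) := by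
    rw [linearIndependent_iff']
    suffices hE : ∀ (s : Finset (K ⧸ M')) (g : K ⧸ M' → F),
        (∀ v : V, ∑ i ∈ s, g i • (((Qr i : K) : (End2)ˣ) : End2) v = 0) → ∀ i ∈ s, g i = 0 by
      intro s g hg
      refine hE s g fun v => ?_
      have := LinearMap.congr_fun hg v
      rw [LinearMap.sum_apply] at this
      exact this
    intro s
    induction s using Finset.induction_on with
    | empty => intro g _ i hi; exact absurd hi (Finset.notMem_empty i)
    | @insert a s has ih =>
      intro g hg
      have hrest : ∀ i ∈ s, g i = 0 := by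
        intro i hi
        have hia : i ≠ a := fun e => has (e ▸ hi)
        -- an element distinguishing the two representatives
        obtain ⟨y, hy, hne⟩ : ∃ y ∈ K, y * (Qr i : (End2)ˣ) * y⁻¹ * (Qr i : (End2)ˣ)⁻¹ ≠
            y * (Qr a : (End2)ˣ) * y⁻¹ * (Qr a : (End2)ˣ)⁻¹ := by
          by_contra hc
          push Not at hc
          have hmem : (Qr a : (End2)ˣ)⁻¹ * Qr i ∈ M := by
            refine hcentre _ (mul_mem (inv_mem (Qr a).2) (Qr i).2) fun y hy => ?_
            have hcM := hKK y hy _ (Qr a).2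
            have e1 : y * (Qr i : (End2)ˣ) * y⁻¹ = y * (Qr a) * y⁻¹ * (Qr a : (End2)ˣ)⁻¹ * Qr i :=
              eq_mul_of_mul_inv_eq (hc y hy)
            calc (Qr a : (End2)ˣ)⁻¹ * Qr i * y
                = (Qr a : (End2)ˣ)⁻¹ * (y * (Qr a) * y⁻¹ * (Qr a : (End2)ˣ)⁻¹)⁻¹ *
                  (y * (Qr a) * y⁻¹ * (Qr a : (End2)ˣ)⁻¹ * Qr i) * y := by group
              _ = (Qr a : (End2)ˣ)⁻¹ * (y * (Qr a) * y⁻¹ * (Qr a : (End2)ˣ)⁻¹)⁻¹ *
                  (y * (Qr i : (End2)ˣ) * y⁻¹) * y := by rw [← e1]
              _ = y * ((Qr a : (End2)ˣ)⁻¹ * Qr i) := by group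
          refine hia ((Quotient.out_eq i).symm.trans (Eq.trans ?_ (Quotient.out_eq a)))
          exact (QuotientGroup.eq.2 (show ((Qr a)⁻¹ * Qr i : K) ∈ M' from hmem)).symm
        choose c hc using fun j : K ⧸ M' => hMF _ (hKK y hy _ (Qr j).2)
        have hconj : ∀ v : V, ∑ j ∈ insert a s,
            (g j * c j) • (((Qr j : K) : (End2)ˣ) : End2) v = 0 := by
          intro v
          have h0 := congrArg ((y : (End2)ˣ) : End2) (hg (((y⁻¹ : (End2)ˣ) : End2) v))
          rw [map_sum, map_zero] at h0
          refine Eq.trans (Finset.sum_congr rfl fun j _ => ?_) h0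
          rw [hKF y hy, mul_smul]
          refine congrArg (g j • ·) ?_
          rw [← hc, ← units_mul_apply, ← units_mul_apply, ← units_mul_apply,
            inv_mul_cancel_right]
        have hsub : ∀ v : V, ∑ j ∈ s,
            (g j * (c j - c a)) • (((Qr j : K) : (End2)ˣ) : End2) v = 0 := by
          intro v
          have h1 : ∑ j ∈ insert a s,
              (g j * (c j - c a)) • (((Qr j : K) : (End2)ˣ) : End2) v = 0 := by
            calc _ = (∑ j ∈ insert a s, (g j * c j) • (((Qr j : K) : (End2)ˣ) : End2) v) -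
                  c a • ∑ j ∈ insert a s, g j • (((Qr j : K) : (End2)ˣ) : End2) v := by
                  rw [Finset.smul_sum, ← Finset.sum_sub_distrib]
                  refine Finset.sum_congr rfl fun j _ => ?_
                  rw [smul_smul, ← sub_smul, mul_sub, mul_comm (c a)]
              _ = 0 := by rw [hconj, hg, smul_zero, sub_zero]
          rwa [Finset.sum_insert has, sub_self, mul_zero, zero_smul, zero_add] at h1
        refine (mul_eq_zero.1 (ih _ hsub i hi)).resolve_right fun e => hne ?_
        exact Units.ext (LinearMap.ext fun v => by rw [hc, hc, sub_eq_zero.1 e])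
      intro i hi
      rcases Finset.mem_insert.1 hi with rfl | hi
      · obtain ⟨v, hv⟩ := hV
        have h1 := hg v
        rw [Finset.sum_insert has, Finset.sum_eq_zero (fun j hj => by
          rw [hrest j hj, zero_smul]), add_zero] at h1
        exact (smul_eq_zero.1 h1).resolve_right fun e => hv
          (units_apply_injective _ (e.trans (map_zero _).symm))
      · exact hrest i hi
  haveI := Fintype.ofFinite (K ⧸ M')
  haveI : Module.Finite F V := Module.Finite.of_finite
  rw [Subgroup.index_eq_card, Nat.card_eq_fintype_card]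
  exact (LinearIndependent.fintype_card_le_finrank hli).trans (by rw [Module.finrank_linearMap])

theorem index_le_sq {R : Subalgebra (ZMod 2) (Module.End (ZMod 2) V)} (hR : IsField R)
    {M K : Subgroup (Module.End (ZMod 2) V)ˣ} (hMR : ∀ g ∈ M, (g : End2) ∈ R)
    (hKR : ∀ x ∈ K, ∀ a ∈ R, Commute (x : End2) a)
    (hMx : ∀ x ∈ K, ∀ g ∈ M, x * g = g * x)
    (hKK : ∀ x ∈ K, ∀ y ∈ K, x * y * x⁻¹ * y⁻¹ ∈ M)
    (hcentre : ∀ x ∈ K, (∀ y ∈ K, x * y = y * x) → x ∈ M) (hV : ∃ v : V, v ≠ 0) :
    ∃ d, finrank (ZMod 2) R * d = finrank (ZMod 2) V ∧ (M.subgroupOf K).index ≤ d * d := by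
  letI : Field R := hR.toField
  letI : Module R V := Module.compHom V (R.val.toRingHom : R →+* End2)
  haveI : IsScalarTower (ZMod 2) R V := ⟨fun c y v => rfl⟩
  exact ⟨finrank R V, Module.finrank_mul_finrank (ZMod 2) R V,
    index_le_sq_of_module (F := R) (fun g hg => ⟨⟨_, hMR g hg⟩, fun v => rfl⟩)
      (fun x hx a v => LinearMap.congr_fun (hKR x hx _ a.2).eq v) hMx hKK hcentre hV⟩

end CfsgLib.Walter.Rank
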