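import Cfsg.Agent.Walter.Rank.LinearBasic
import Cfsg.Agent.S0205
import Mathlib

/-!
# Walter, rank at least four: group theory for the linear lemma

* `exists_maximal_abelian`: a maximal invariant abelian subgroup.
* `exists_extension`: the minimal invariant subgroup `K` of the centralizer properly containing it;
  `K / M` is elementary abelian and `M` is the centre of `K`.
* `exists_square_of_acting`: a coprime automorphism acting non-trivially on `K / M` preserves the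
  commutator form, hence `l ∣ s ^ 2 - 1` with `s ^ 2` dividing the order of `K / M`.
-/

set_option autoImplicit false
set_option linter.style.haveILetI false
set_option linter.unusedSectionVars false

namespace CfsgLib.Walter.Rank

open scoped commutatorElement

variable {G : Type*} [Group G] [Finite G]

/-- A non-trivial abelian subgroup normalized by `Γ`, maximal with these properties. -/
theorem exists_maximal_abelian {Γ : Subgroup G} (hodd : Odd (Nat.card Γ)) (hne : Γ ≠ ⊥) :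
    ∃ M : Subgroup G, M ≠ ⊥ ∧ M ≤ Γ ∧ (∀ a ∈ M, ∀ b ∈ M, a * b = b * a) ∧
      (∀ g ∈ Γ, ∀ m ∈ M, g * m * g⁻¹ ∈ M) ∧
      ∀ M' : Subgroup G, M' ≤ Γ → (∀ a ∈ M', ∀ b ∈ M', a * b = b * a) →
        (∀ g ∈ Γ, ∀ m ∈ M', g * m * g⁻¹ ∈ M') → M ≤ M' → M' ≤ M := by
  classical
  haveI hsol : Group.IsSolvable Γ := Cfsg.Agent.S0205.result hodd
  obtain ⟨i, hi⟩ := (Group.isSolvable_def (G := Γ)).1 hsol
  have hex : ∃ j, derivedSeries Γ j = ⊥ := ⟨i, hi⟩
  have hpos : 0 < Nat.find hex := Nat.pos_of_ne_zero fun e => hne (by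
    have h1 := Nat.find_spec hex
    rw [e, derivedSeries_zero] at h1
    rw [← Subgroup.subgroupOf_self, Subgroup.subgroupOf_eq_bot] at h1
    exact disjoint_self.1 h1)
  set D := derivedSeries Γ (Nat.find hex - 1)
  have hD : D ≠ ⊥ := Nat.find_min hex (by omega)
  have hDD : ⁅D, D⁆ = ⊥ := by
    have h1 := Nat.find_spec hex
    rwa [show Nat.find hex = (Nat.find hex - 1) + 1 by omega, derivedSeries_succ] at h1
  haveI : D.Normal := derivedSeries_normal Γ _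
  let S : Set (Subgroup G) := {M | M ≠ ⊥ ∧ M ≤ Γ ∧ (∀ a ∈ M, ∀ b ∈ M, a * b = b * a) ∧
    ∀ g ∈ Γ, ∀ m ∈ M, g * m * g⁻¹ ∈ M}
  have hDS : D.map Γ.subtype ∈ S := by
    refine ⟨fun e => hD ((Subgroup.map_eq_bot_iff_of_injective _ Γ.subtype_injective).1 e),
      Subgroup.map_subtype_le D, ?_, ?_⟩
    · rintro _ ⟨a, ha, rfl⟩ _ ⟨b, hb, rfl⟩
      exact congrArg Subtype.val (Subgroup.mem_centralizer_iff.1
        ((Subgroup.commutator_eq_bot_iff_le_centralizer.1 hDD) hb) a ha)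
    · rintro g hg _ ⟨m, hm, rfl⟩
      exact ⟨⟨g, hg⟩ * m * ⟨g, hg⟩⁻¹, Subgroup.Normal.conj_mem inferInstance m hm _, rfl⟩
  obtain ⟨M, ⟨hM1, hMΓ, hMc, hMn⟩, hmax⟩ := (Set.toFinite S).exists_maximal ⟨_, hDS⟩
  exact ⟨M, hM1, hMΓ, hMc, hMn, fun M' h1 h2 h3 h4 =>
    hmax ⟨fun e => hM1 (le_bot_iff.1 (e ▸ h4)), h1, h2, h3⟩ h4⟩

/-- An invariant subgroup `K` with abelian quotient of prime exponent over a maximal invariant
abelian subgroup `M`, having `M` as its centre. -/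
theorem exists_extension {Γ M : Subgroup G} (hodd : Odd (Nat.card Γ)) (hMΓ : M ≤ Γ)
    (hMc : ∀ a ∈ M, ∀ b ∈ M, a * b = b * a) (hMn : ∀ g ∈ Γ, ∀ m ∈ M, g * m * g⁻¹ ∈ M)
    (hMmax : ∀ M' : Subgroup G, M' ≤ Γ → (∀ a ∈ M', ∀ b ∈ M', a * b = b * a) →
      (∀ g ∈ Γ, ∀ m ∈ M', g * m * g⁻¹ ∈ M') → M ≤ M' → M' ≤ M)
    {τ : G} (hτΓ : τ ∈ Γ) (hτnotM : τ ∉ M) (hτM : ∀ g ∈ M, τ * g = g * τ) :
    ∃ (K : Subgroup G) (q : ℕ), q.Prime ∧ M ≤ K ∧ K ≤ Γ ∧
      (∀ g ∈ Γ, ∀ x ∈ K, g * x * g⁻¹ ∈ K) ∧ (∀ x ∈ K, ∀ g ∈ M, x * g = g * x) ∧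
      (∀ x ∈ K, ∀ y ∈ K, x * y * x⁻¹ * y⁻¹ ∈ M) ∧ (∀ x ∈ K, x ^ q ∈ M) ∧
      (∀ x ∈ K, (∀ y ∈ K, x * y = y * x) → x ∈ M) ∧ ∃ x ∈ K, ∃ y ∈ K, x * y ≠ y * x := by
  classical
  let S : Set (Subgroup G) := {K | M ≤ K ∧ K ≠ M ∧ K ≤ Γ ∧
    (∀ x ∈ K, ∀ g ∈ M, x * g = g * x) ∧ ∀ g ∈ Γ, ∀ x ∈ K, g * x * g⁻¹ ∈ K}
  have hC : Γ ⊓ Subgroup.centralizer (M : Set G) ∈ S := by
    refine ⟨le_inf hMΓ fun a ha => Subgroup.mem_centralizer_iff.2 fun b hb => hMc b hb a ha,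
      fun e => hτnotM (e ▸ ⟨hτΓ, Subgroup.mem_centralizer_iff.2 fun g hg => (hτM g hg).symm⟩),
      inf_le_left, fun x hx g hg => (Subgroup.mem_centralizer_iff.1 hx.2 g hg).symm, ?_⟩
    rintro g hg x ⟨hxΓ, hxC⟩
    refine ⟨Γ.mul_mem (Γ.mul_mem hg hxΓ) (Γ.inv_mem hg), Subgroup.mem_centralizer_iff.2 fun k hk => ?_⟩
    have h1 := Subgroup.mem_centralizer_iff.1 hxC _ (hMn g⁻¹ (inv_mem hg) k hk)
    rw [inv_inv] at h1
    calc k * (g * x * g⁻¹) = g * (g⁻¹ * k * g * x) * g⁻¹ := by group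
      _ = g * x * g⁻¹ * k := by rw [h1]; group
  obtain ⟨K, ⟨hMK, hKM, hKΓ, hKcent, hKn⟩, hKmin⟩ := (Set.toFinite S).exists_minimal ⟨_, hC⟩
  have hKmin' : ∀ K' : Subgroup G, M ≤ K' → K' ≤ K → (∀ g ∈ Γ, ∀ x ∈ K', g * x * g⁻¹ ∈ K') →
      K' = M ∨ K' = K := fun K' h1 h2 h3 => by
    by_contra hc
    push Not at hc
    exact hc.2 (le_antisymm h2 (hKmin ⟨h1, hc.1, h2.trans hKΓ,
      fun x hx => hKcent x (h2 hx), h3⟩ h2))
  haveI hM'n : (M.subgroupOf K).Normal := ⟨fun x hx g => hMn _ (hKΓ g.2) _ hx⟩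
  -- commutators of `K` lie in `M`
  have hKK : ∀ x ∈ K, ∀ y ∈ K, x * y * x⁻¹ * y⁻¹ ∈ M := by
    have hle : ⁅K, K⁆ ≤ K := Subgroup.commutator_le.2 fun a ha b hb =>
      mul_mem (mul_mem (mul_mem ha hb) (inv_mem ha)) (inv_mem hb)
    have hinv : ∀ g ∈ Γ, ∀ x ∈ ⁅K, K⁆ ⊔ M, g * x * g⁻¹ ∈ ⁅K, K⁆ ⊔ M := by
      intro g hg
      have hmapK : K.map (MulAut.conj g).toMonoidHom ≤ K := by
        rintro _ ⟨a, ha, rfl⟩
        exact hKn g hg a ha
      have hmap : (⁅K, K⁆ ⊔ M).map (MulAut.conj g).toMonoidHom ≤ ⁅K, K⁆ ⊔ M := by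
        rw [Subgroup.map_sup, Subgroup.map_commutator]
        refine sup_le_sup (Subgroup.commutator_mono hmapK hmapK) ?_
        rintro _ ⟨a, ha, rfl⟩
        exact hMn g hg a ha
      exact fun x hx => hmap ⟨x, hx, rfl⟩
    rcases hKmin' _ le_sup_right (sup_le hle hMK) hinv with e | e
    · intro x hx y hy
      exact e ▸ Subgroup.mem_sup_left (Subgroup.commutator_mem_commutator hx hy)
    · exfalso
      haveI : Group.IsSolvable K := Cfsg.Agent.S0205.result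
        (hodd.of_dvd_nat (Subgroup.card_dvd_of_le hKΓ))
      haveI : Nontrivial (K ⧸ M.subgroupOf K) := by
        rw [QuotientGroup.nontrivial_iff]
        exact fun e' => hKM (le_antisymm (Subgroup.subgroupOf_eq_top.1 e') hMK)
      refine (Group.IsSolvable.commutator_lt_top_of_nontrivial (K ⧸ M.subgroupOf K)).ne
        (eq_top_iff.2 fun z _ => ?_)
      obtain ⟨z, rfl⟩ := QuotientGroup.mk'_surjective (M.subgroupOf K) z
      let T : Subgroup G := ((commutator (K ⧸ M.subgroupOf K)).comap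
        (QuotientGroup.mk' (M.subgroupOf K))).map K.subtype
      have hT : ⁅K, K⁆ ⊔ M ≤ T := by
        refine sup_le (Subgroup.commutator_le.2 fun a ha b hb => ?_) fun a ha => ?_
        · refine ⟨⁅(⟨a, ha⟩ : K), (⟨b, hb⟩ : K)⁆, ?_, rfl⟩
          rw [SetLike.mem_coe, Subgroup.mem_comap, map_commutatorElement]
          exact Subgroup.commutator_mem_commutator (Subgroup.mem_top _) (Subgroup.mem_top _)
        · refine ⟨⟨a, hMK ha⟩, ?_, rfl⟩
          rw [SetLike.mem_coe, Subgroup.mem_comap, QuotientGroup.mk'_apply,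
            (QuotientGroup.eq_one_iff (N := M.subgroupOf K) ⟨a, hMK ha⟩).2 ha]
          exact one_mem _
      obtain ⟨w, hw, hwz⟩ := hT (e.ge z.2)
      rwa [show w = z from Subtype.ext hwz] at hw
  -- the exponent of `K / M`
  obtain ⟨q, hq, hexp⟩ : ∃ q : ℕ, q.Prime ∧ ∀ x ∈ K, x ^ q ∈ M := by
    obtain ⟨x, hxK, hxM⟩ : ∃ x ∈ K, x ∉ M := by
      by_contra hc
      push Not at hc
      exact hKM (le_antisymm hc hMK)
    have hne : (QuotientGroup.mk (⟨x, hxK⟩ : K) : K ⧸ M.subgroupOf K) ≠ 1 := fun e =>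
      hxM ((QuotientGroup.eq_one_iff (N := M.subgroupOf K) ⟨x, hxK⟩).1 e)
    obtain ⟨q, hqp, k, hk⟩ := Nat.exists_prime_and_dvd (fun e => hne (orderOf_eq_one_iff.1 e))
    have hcomm : ∀ a b : K ⧸ M.subgroupOf K, a * b = b * a := by
      intro a b
      obtain ⟨a, rfl⟩ := QuotientGroup.mk'_surjective (M.subgroupOf K) a
      obtain ⟨b, rfl⟩ := QuotientGroup.mk'_surjective (M.subgroupOf K) b
      rw [← map_mul, ← map_mul, QuotientGroup.mk'_apply, QuotientGroup.mk'_apply,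
        QuotientGroup.eq_iff_div_mem, div_eq_mul_inv, mul_inv_rev, ← mul_assoc]
      exact hKK a a.2 b b.2
    let Kq : Subgroup G :=
      { carrier := {y | ∃ hy : y ∈ K, (QuotientGroup.mk (⟨y, hy⟩ : K) : K ⧸ M.subgroupOf K) ^ q = 1}
        one_mem' := ⟨one_mem K, by
          rw [show (⟨1, one_mem K⟩ : K) = 1 from rfl, QuotientGroup.mk_one, one_pow]⟩
        mul_mem' := by
          rintro a b ⟨ha, ha'⟩ ⟨hb, hb'⟩
          refine ⟨mul_mem ha hb, ?_⟩
          rw [show (⟨a * b, mul_mem ha hb⟩ : K) = ⟨a, ha⟩ * ⟨b, hb⟩ from rfl, QuotientGroup.mk_mul,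
            Commute.mul_pow (hcomm _ _), ha', hb', one_mul]
        inv_mem' := by
          rintro a ⟨ha, ha'⟩
          refine ⟨inv_mem ha, ?_⟩
          rw [show (⟨a⁻¹, inv_mem ha⟩ : K) = ⟨a, ha⟩⁻¹ from rfl, QuotientGroup.mk_inv, inv_pow, ha',
            inv_one] }
    have hKq_mem : ∀ y, y ∈ Kq ↔ y ∈ K ∧ y ^ q ∈ M := fun y =>
      ⟨fun ⟨hy, hy'⟩ => ⟨hy, (QuotientGroup.eq_one_iff (N := M.subgroupOf K) ((⟨y, hy⟩ : K) ^ q)).1
        (by rw [QuotientGroup.mk_pow]; exact hy')⟩,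
      fun ⟨hy, hy'⟩ => ⟨hy, by
        rw [← QuotientGroup.mk_pow]
        exact (QuotientGroup.eq_one_iff (N := M.subgroupOf K) ((⟨y, hy⟩ : K) ^ q)).2 hy'⟩⟩
    have hKq : Kq = K := by
      refine (hKmin' Kq (fun a ha => (hKq_mem a).2 ⟨hMK ha, pow_mem ha q⟩)
        (fun a ha => ha.1) fun g hg y hy => ?_).resolve_left fun e => ?_
      · obtain ⟨hy, hy'⟩ := (hKq_mem y).1 hy
        exact (hKq_mem _).2 ⟨hKn g hg y hy, by rw [conj_pow]; exact hMn g hg _ hy'⟩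
      · have hkM : x ^ k ∈ M := e ▸ ⟨pow_mem hxK k, by
          rw [show (⟨x ^ k, pow_mem hxK k⟩ : K) = ⟨x, hxK⟩ ^ k from rfl, QuotientGroup.mk_pow,
            ← pow_mul, mul_comm, ← hk, pow_orderOf_eq_one]⟩
        have hk1 := (QuotientGroup.eq_one_iff (N := M.subgroupOf K) ((⟨x, hxK⟩ : K) ^ k)).2 hkM
        rw [QuotientGroup.mk_pow] at hk1
        have hdvd := orderOf_dvd_of_pow_eq_one hk1
        have hpos : 0 < orderOf (QuotientGroup.mk (⟨x, hxK⟩ : K) : K ⧸ M.subgroupOf K) :=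
          orderOf_pos _
        rw [hk] at hdvd hpos
        have hkpos : 0 < k := Nat.pos_of_mul_pos_left hpos
        have := Nat.le_of_dvd hkpos hdvd
        have := hqp.two_le
        nlinarith
    exact ⟨q, hqp, fun y hy => ((hKq_mem y).1 (hKq.symm ▸ hy)).2⟩
  -- the centre of `K` is `M`
  have hcentre : ∀ x ∈ K, (∀ y ∈ K, x * y = y * x) → x ∈ M := by
    have hZ : K ⊓ Subgroup.centralizer (K : Set G) ≤ M := by
      refine hMmax _ (inf_le_left.trans hKΓ)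
        (fun a ha b hb => Subgroup.mem_centralizer_iff.1 hb.2 a ha.1) ?_
        (le_inf hMK fun a ha => Subgroup.mem_centralizer_iff.2 fun y hy => hKcent y hy a ha)
      rintro g hg a ⟨haK, haC⟩
      refine ⟨hKn g hg a haK, Subgroup.mem_centralizer_iff.2 fun y hy => ?_⟩
      have h1 := Subgroup.mem_centralizer_iff.1 haC _ (hKn g⁻¹ (inv_mem hg) y hy)
      rw [inv_inv] at h1
      calc y * (g * a * g⁻¹) = g * (g⁻¹ * y * g * a) * g⁻¹ := by group
        _ = g * a * g⁻¹ * y := by rw [h1]; group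
    exact fun x hx hc => hZ ⟨hx, Subgroup.mem_centralizer_iff.2 fun y hy => (hc y hy).symm⟩
  refine ⟨K, q, hq, hMK, hKΓ, hKn, hKcent, hKK, hexp, hcentre, ?_⟩
  by_contra hc
  push Not at hc
  exact hKM (le_antisymm (fun x hx => hcentre x hx (hc x hx)) hMK)

/-- Commutators with values in a central subgroup have order dividing the exponent of the quotient. -/
theorem commutator_pow_eq_one {M K : Subgroup G} {q : ℕ}
    (hMx : ∀ x ∈ K, ∀ g ∈ M, x * g = g * x) (hKK : ∀ x ∈ K, ∀ y ∈ K, x * y * x⁻¹ * y⁻¹ ∈ M)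
    (hexp : ∀ x ∈ K, x ^ q ∈ M) {a b : G} (ha : a ∈ K) (hb : b ∈ K) :
    (a * b * a⁻¹ * b⁻¹) ^ q = 1 := by
  have h1 : (a * b * a⁻¹) ^ q = b ^ q := by
    rw [conj_pow, hMx a ha _ (hexp b hb), mul_inv_cancel_right]
  rw [show a * b * a⁻¹ = (a * b * a⁻¹ * b⁻¹) * b by group,
    Commute.mul_pow (hMx b hb _ (hKK a ha b hb)).symm] at h1
  exact mul_eq_right.1 h1

/-- A coprime automorphism acting non-trivially on `K / M` preserves the commutator form. -/
theorem exists_square_of_acting {M K : Subgroup G} {q l : ℕ} (hq : q.Prime) (hl : l.Prime)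
    (hql : q ≠ l) (hKodd : Odd (Nat.card K)) (hMK : M ≤ K)
    (hMx : ∀ x ∈ K, ∀ g ∈ M, x * g = g * x) (hKK : ∀ x ∈ K, ∀ y ∈ K, x * y * x⁻¹ * y⁻¹ ∈ M)
    (hexp : ∀ x ∈ K, x ^ q ∈ M) (hcentre : ∀ x ∈ K, (∀ y ∈ K, x * y = y * x) → x ∈ M)
    (hMq : Nat.card {x : G // x ∈ M ∧ x ^ q = 1} ≤ q) {τ : G} (hτl : τ ^ l = 1)
    (hτK : ∀ x ∈ K, τ * x * τ⁻¹ ∈ K) (hτM : ∀ g ∈ M, τ * g = g * τ)
    (hnt : ∃ x ∈ K, τ * x * τ⁻¹ * x⁻¹ ∉ M) :
    ∃ s : ℕ, 2 ≤ s ∧ Odd s ∧ l ∣ s * s - 1 ∧ s * s ≤ (M.subgroupOf K).index := by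
  classical
  haveI := Fact.mk hq
  set M' := M.subgroupOf K
  haveI hM'n : M'.Normal := ⟨fun x hx g => by
    show (g : G) * x * (g : G)⁻¹ ∈ M
    rw [hMx g g.2 x hx, mul_inv_cancel_right]
    exact hx⟩
  letI : CommGroup (K ⧸ M') :=
    { (inferInstance : Group (K ⧸ M')) with
      mul_comm := fun a b => by
        obtain ⟨a, rfl⟩ := QuotientGroup.mk'_surjective M' a
        obtain ⟨b, rfl⟩ := QuotientGroup.mk'_surjective M' b
        rw [← map_mul, ← map_mul, QuotientGroup.mk'_apply, QuotientGroup.mk'_apply,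
          QuotientGroup.eq_iff_div_mem, div_eq_mul_inv, mul_inv_rev, ← mul_assoc]
        exact hKK a a.2 b b.2 }
  have hQq : ∀ a : K ⧸ M', a ^ q = 1 := by
    intro a
    obtain ⟨a, rfl⟩ := QuotientGroup.mk'_surjective M' a
    rw [← map_pow, QuotientGroup.mk'_apply, QuotientGroup.eq_one_iff]
    exact hexp a a.2
  obtain ⟨xm, hxmK, hxm⟩ := hnt
  let φK : K →* K := MonoidHom.mk' (fun x => ⟨τ * x * τ⁻¹, hτK x x.2⟩)
    fun a b => Subtype.ext (by simp [mul_assoc])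
  have hφM : M' ≤ M'.comap φK := fun a ha => by
    show τ * (a : G) * τ⁻¹ ∈ M
    rw [hτM (a : G) ha, mul_inv_cancel_right]
    exact ha
  let φ : K ⧸ M' →* K ⧸ M' := QuotientGroup.map M' M' φK hφM
  have hφK : ∀ (i : ℕ) (a : K), ((φK^[i] a : K) : G) = τ ^ i * a * (τ ^ i)⁻¹ := by
    intro i
    induction i with
    | zero => simp
    | succ i ih =>
      intro a
      rw [Function.iterate_succ_apply, ih]
      show τ ^ i * (τ * a * τ⁻¹) * (τ ^ i)⁻¹ = _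
      rw [pow_succ]; group
  have hφit : ∀ (i : ℕ) (a : K), φ^[i] (QuotientGroup.mk a : K ⧸ M') =
      QuotientGroup.mk (φK^[i] a) := by
    intro i
    induction i with
    | zero => exact fun a => rfl
    | succ i ih => exact fun a => ih (φK a)
  have hφ1 : ∀ a, φ^[l] a = a := by
    intro a
    obtain ⟨a, rfl⟩ := QuotientGroup.mk'_surjective M' a
    rw [QuotientGroup.mk'_apply, hφit]
    refine congrArg _ (Subtype.ext ?_)
    rw [hφK, hτl]; simp
  let δ : K ⧸ M' →* K ⧸ M' := MonoidHom.mk' (fun a => φ a / a) fun a b => by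
    simp only [map_mul, mul_div_mul_comm]
  set W := δ.range
  have hW1 : 1 < Nat.card W := by
    rw [Finite.one_lt_card_iff_nontrivial, Subgroup.nontrivial_iff_ne_bot]
    intro e
    refine hxm ?_
    have h1 : δ (QuotientGroup.mk ⟨xm, hxmK⟩) = 1 := by
      rw [← Subgroup.mem_bot, ← e]
      exact ⟨_, rfl⟩
    have h2 := (QuotientGroup.eq_iff_div_mem).1 (div_eq_one.1 h1)
    rw [div_eq_mul_inv] at h2
    exact h2
  have hWC : ∀ w ∈ W, φ w = w → w = 1 := by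
    rintro _ ⟨v, rfl⟩ hw
    set w := δ v with hwdef
    have hv : φ v = w * v := (div_mul_cancel (φ v) v).symm
    have hit : ∀ i : ℕ, φ^[i] v = w ^ i * v := by
      intro i
      induction i with
      | zero => simp
      | succ i ih =>
        rw [Function.iterate_succ_apply', ih, map_mul, map_pow, hw, hv, pow_succ, mul_assoc]
    have h1 := hit l
    rw [hφ1] at h1
    have hwl : w ^ l = 1 := mul_eq_right.1 h1.symm
    have h2 := Nat.dvd_gcd (orderOf_dvd_of_pow_eq_one hwl) (orderOf_dvd_of_pow_eq_one (hQq w))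
    rw [show Nat.gcd l q = 1 from (Nat.coprime_primes hl hq).2 (Ne.symm hql)] at h2
    exact orderOf_eq_one_iff.1 (Nat.dvd_one.1 h2)
  -- the form
  have hcc_mul_left : ∀ a ∈ K, ∀ b ∈ K, ∀ y ∈ K, a * b * y * (a * b)⁻¹ * y⁻¹ =
      (a * y * a⁻¹ * y⁻¹) * (b * y * b⁻¹ * y⁻¹) := by
    intro a ha b hb y hy
    calc a * b * y * (a * b)⁻¹ * y⁻¹ = a * (b * y * b⁻¹ * y⁻¹) * (y * a⁻¹ * y⁻¹) := by group
      _ = (b * y * b⁻¹ * y⁻¹) * a * (y * a⁻¹ * y⁻¹) := by rw [hMx a ha _ (hKK b hb y hy)]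
      _ = (b * y * b⁻¹ * y⁻¹) * (a * y * a⁻¹ * y⁻¹) := by group
      _ = _ := hMx _ (hMK (hKK b hb y hy)) _ (hKK a ha y hy)
  let μ : Subgroup G :=
    { carrier := {x | x ∈ M ∧ x ^ q = 1}
      one_mem' := ⟨one_mem M, one_pow q⟩
      mul_mem' := fun {a b} ha hb => ⟨mul_mem ha.1 hb.1, by
        rw [Commute.mul_pow (hMx a (hMK ha.1) b hb.1), ha.2, hb.2, one_mul]⟩
      inv_mem' := fun {a} ha => ⟨inv_mem ha.1, by rw [inv_pow, ha.2, inv_one]⟩ }
  haveI : IsMulCommutative μ :=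
    ⟨⟨fun a b => Subtype.ext (hMx a (hMK a.2.1) b b.2.1)⟩⟩
  letI : CommGroup μ := { (inferInstance : Group μ) with
    mul_comm := fun a b => Subtype.ext (hMx a (hMK a.2.1) b b.2.1) }
  let β₁ : K → (K →* μ) := fun a => MonoidHom.mk'
    (fun b => ⟨(a : G) * b * (a : G)⁻¹ * (b : G)⁻¹, hKK a a.2 b b.2,
      commutator_pow_eq_one hMx hKK hexp a.2 b.2⟩) fun b b' => Subtype.ext (by
    show (a : G) * (b * b' : G) * (a : G)⁻¹ * (b * b' : G)⁻¹ =
      ((a : G) * b * (a : G)⁻¹ * (b : G)⁻¹) * ((a : G) * b' * (a : G)⁻¹ * (b' : G)⁻¹)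
    calc _ = ((a : G) * b * (a : G)⁻¹) * ((a : G) * b' * (a : G)⁻¹ * (b' : G)⁻¹) * (b : G)⁻¹ := by
          group
      _ = ((a : G) * b * (a : G)⁻¹) *
          ((b : G)⁻¹ * ((a : G) * b' * (a : G)⁻¹ * (b' : G)⁻¹)) := by
          rw [mul_assoc, hMx _ (inv_mem b.2) _ (hKK a a.2 b' b'.2)]
      _ = _ := by group)
  have hβ1M : ∀ a : K, M' ≤ (β₁ a).ker := fun a b hb => Subtype.ext (by
    show (a : G) * b * (a : G)⁻¹ * (b : G)⁻¹ = 1
    rw [hMx a a.2 (b : G) hb]; group)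
  let β₂ : K →* (K ⧸ M' →* μ) := MonoidHom.mk'
    (fun a => QuotientGroup.lift M' (β₁ a) (hβ1M a)) fun a a' => by
      refine QuotientGroup.monoidHom_ext M' (MonoidHom.ext fun b => Subtype.ext ?_)
      exact hcc_mul_left a a.2 a' a'.2 b b.2
  have hβ2M : M' ≤ β₂.ker := fun a ha => by
    refine QuotientGroup.monoidHom_ext M' (MonoidHom.ext fun b => Subtype.ext ?_)
    show (a : G) * b * (a : G)⁻¹ * (b : G)⁻¹ = 1
    rw [← hMx b b.2 (a : G) ha]; group
  let β : K ⧸ M' →* (K ⧸ M' →* μ) := QuotientGroup.lift M' β₂ hβ2M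
  have halt : ∀ a, β a a = 1 := by
    intro a
    obtain ⟨a, rfl⟩ := QuotientGroup.mk'_surjective M' a
    refine Subtype.ext ?_
    show (a : G) * a * (a : G)⁻¹ * (a : G)⁻¹ = 1
    group
  have hnd : ∀ a, (∀ b, β a b = 1) → a = 1 := by
    intro a ha
    obtain ⟨a, rfl⟩ := QuotientGroup.mk'_surjective M' a
    rw [QuotientGroup.mk'_apply, QuotientGroup.eq_one_iff]
    refine hcentre a a.2 fun b hb => ?_
    have h2 : (a : G) * b * (a : G)⁻¹ * b⁻¹ = 1 :=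
      congrArg Subtype.val (ha (QuotientGroup.mk (⟨b, hb⟩ : K)))
    rwa [mul_inv_eq_one, mul_inv_eq_iff_eq_mul] at h2
  have hφβ : ∀ a b, β (φ a) (φ b) = β a b := by
    intro a b
    obtain ⟨a, rfl⟩ := QuotientGroup.mk'_surjective M' a
    obtain ⟨b, rfl⟩ := QuotientGroup.mk'_surjective M' b
    refine Subtype.ext ?_
    show τ * a * τ⁻¹ * (τ * b * τ⁻¹) * (τ * a * τ⁻¹)⁻¹ * (τ * b * τ⁻¹)⁻¹ =
      (a : G) * b * (a : G)⁻¹ * (b : G)⁻¹
    calc _ = τ * ((a : G) * b * (a : G)⁻¹ * (b : G)⁻¹) * τ⁻¹ := by group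
      _ = _ := by rw [hτM _ (hKK a a.2 b b.2), mul_inv_cancel_right]
  have hμ : Nat.card μ = q := by
    refine le_antisymm hMq ?_
    obtain ⟨a, ha⟩ : ∃ a : K ⧸ M', a ≠ 1 := ⟨QuotientGroup.mk ⟨xm, hxmK⟩, fun e => by
      have h1 : δ (QuotientGroup.mk ⟨xm, hxmK⟩) = 1 := by rw [e, map_one]
      have h2 := (QuotientGroup.eq_iff_div_mem).1 (div_eq_one.1 h1)
      rw [div_eq_mul_inv] at h2
      exact hxm h2⟩
    obtain ⟨b, hb⟩ : ∃ b, β a b ≠ 1 := by
      by_contra hc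
      push Not at hc
      exact ha (hnd a hc)
    have h1 : orderOf (β a b) = q := orderOf_eq_prime (Subtype.ext (β a b).2.2) hb
    calc q = _ := h1.symm
      _ ≤ Nat.card μ := Nat.le_of_dvd Nat.card_pos (orderOf_dvd_natCard _)
  have hβWker : ∀ w ∈ W, ∀ c ∈ δ.ker, β w c = 1 := by
    rintro _ ⟨v, rfl⟩ c hc
    have hc' : φ c = c := div_eq_one.1 hc
    have h1 : β (φ v) c = β v c := by
      conv_lhs => rw [← hc']
      exact hφβ v c
    show β (φ v / v) c = 1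
    rw [map_div, MonoidHom.div_apply, h1, div_self']
  let Φ : W × δ.ker →* K ⧸ M' := (W.subtype).coprod δ.ker.subtype
  have hΦinj : Function.Injective Φ := by
    rw [injective_iff_map_eq_one]
    rintro ⟨w, c⟩ hwc
    have hwc' : (w : K ⧸ M') * (c : K ⧸ M') = 1 := hwc
    have hwker : (w : K ⧸ M') ∈ δ.ker := by
      rw [mul_eq_one_iff_eq_inv.1 hwc']; exact inv_mem c.2
    have hw1 := hWC _ w.2 (div_eq_one.1 hwker)
    rw [hw1, one_mul] at hwc'
    exact Prod.ext (Subtype.ext hw1) (Subtype.ext hwc')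
  have hΦcard : Nat.card (W × δ.ker) = Nat.card (K ⧸ M') := by
    rw [Nat.card_prod, ← Nat.card_congr (QuotientGroup.quotientKerEquivRange δ).toEquiv,
      ← Subgroup.card_eq_card_quotient_mul_card_subgroup]
  have hΦsurj : Function.Surjective Φ := (hΦinj.bijective_of_nat_card_le hΦcard.ge).2
  let βW : W →* (W →* μ) := MonoidHom.mk' (fun w => (β w).comp W.subtype) fun a b => by
    refine MonoidHom.ext fun c => ?_
    simp [map_mul]
  obtain ⟨s, hs⟩ := isSquare_of_alternating hμ (Nat.card W) W βW le_rfl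
    (fun w => Subtype.ext (hQq w)) (fun w => halt w) fun w hw => by
      refine Subtype.ext (hnd _ fun b => ?_)
      obtain ⟨⟨w', c⟩, rfl⟩ := hΦsurj b
      show β w ((w' : K ⧸ M') * (c : K ⧸ M')) = 1
      rw [map_mul, show β w (w' : K ⧸ M') = 1 from hw w', hβWker _ w.2 _ c.2, one_mul]
  -- `τ` acts without fixed points on `W`
  have hlW : l ∣ Nat.card W - 1 := by
    haveI := Fact.mk hl
    haveI := Fintype.ofFinite W
    have hφW : ∀ w ∈ W, φ w ∈ W := by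
      rintro _ ⟨v, rfl⟩
      exact ⟨φ v, (map_div φ _ _).symm⟩
    let f : Function.End W := fun w => ⟨φ w, hφW w w.2⟩
    have hf : ∀ (i : ℕ) (w : W), ((f ^ i) w : K ⧸ M') = φ^[i] (w : K ⧸ M') := by
      intro i
      induction i with
      | zero => exact fun w => rfl
      | succ i ih =>
        intro w
        rw [pow_succ, Function.iterate_succ_apply]
        exact ih (f w)
    have hfl : f ^ l ^ 1 = 1 := funext fun w => Subtype.ext (by rw [pow_one, hf, hφ1]; rfl)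
    have h1 := Equiv.Perm.card_fixedPoints_modEq (p := l) hfl
    have h2 : Fintype.card (Function.fixedPoints f) = 1 := by
      rw [Fintype.card_eq_one_iff]
      exact ⟨⟨1, Subtype.ext (map_one φ)⟩, fun w =>
        Subtype.ext (Subtype.ext (hWC _ w.1.2 (congrArg Subtype.val w.2)))⟩
    rw [h2] at h1
    rw [Nat.card_eq_fintype_card]
    exact (Nat.modEq_iff_dvd' Fintype.card_pos).1 h1.symm
  have hWodd : Odd (Nat.card W) := hKodd.of_dvd_nat
    ((Subgroup.card_subgroup_dvd_card W).trans (Subgroup.card_quotient_dvd_card M'))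
  rw [hs] at hW1 hlW hWodd
  refine ⟨s, by nlinarith, (Nat.odd_mul.1 hWodd).1, hlW, ?_⟩
  rw [← hs, Subgroup.index_eq_card]
  exact Subgroup.card_le_card_group W

end CfsgLib.Walter.Rank
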