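import Cfsg.Agent.Walter.Rank.LinearField
import Cfsg.Agent.Walter.Rank.LinearGroup
import Cfsg.Agent.Walter.Rank.LinearBound
import Mathlib

/-!
# Walter, rank at least four: the linear lemma

`Singer.two_mul_lt`: if an irreducible group of odd order on a `GF(2)`-space `V` of dimension at
least four contains an element which fixes the non-trivial subspace `B` pointwise and permutes the
non-zero vectors of a complement `U` transitively, then `dim V > 2 dim U`.
-/

set_option autoImplicit false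
set_option linter.style.haveILetI false
set_option linter.unusedSectionVars false

namespace CfsgLib.Walter.Rank

open Module

variable {V : Type*} [AddCommGroup V] [Module (ZMod 2) V] [Finite V]

local notation "End2" => Module.End (ZMod 2) V

/-- An endomorphism commuting with `τ` preserves `U`. -/
theorem mem_of_commute {U B : Submodule (ZMod 2) V} (hc : IsCompl U B) {t a : End2}
    (htB : ∀ b ∈ B, t b = b) (htU : ∀ u ∈ U, t u ∈ U) (htfix : ∀ v, t v = v → v ∈ B)
    (ha : Commute t a) {u : V} (hu : u ∈ U) : a u ∈ U := by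
  let f : U →ₗ[ZMod 2] U := (t - 1).restrict fun v hv => by
    rw [LinearMap.sub_apply, Module.End.one_apply]
    exact sub_mem (htU v hv) hv
  have hfinj : Function.Injective f := by
    rw [injective_iff_map_eq_zero]
    intro v hv
    have hv' : t (v : V) - (v : V) = 0 := congrArg Subtype.val hv
    exact Subtype.ext
      ((Submodule.disjoint_def.1 hc.disjoint) _ v.2 (htfix _ (sub_eq_zero.1 hv')))
  obtain ⟨v, hv⟩ := (LinearMap.injective_iff_surjective.1 hfinj) ⟨u, hu⟩
  have hv' : t (v : V) - (v : V) = u := congrArg Subtype.val hv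
  obtain ⟨a', ha', b', hb', hab'⟩ := Submodule.mem_sup.1
    ((hc.sup_eq_top).ge (Submodule.mem_top : a v ∈ (⊤ : Submodule (ZMod 2) V)))
  have : a u = t a' - a' := by
    have hta : t (a v) = a (t v) := LinearMap.congr_fun ha.eq (v : V)
    rw [← hv', map_sub, ← hta, ← hab', map_add, htB b' hb']
    abel
  rw [this]
  exact sub_mem (htU a' ha') ha'

theorem unit_commute_of_coe {x y : (End2)ˣ} (h : Commute (x : End2) (y : End2)) : x * y = y * x :=
  Units.ext h

namespace Singer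

variable {Γ : Subgroup (Module.End (ZMod 2) V)ˣ} {U B : Submodule (ZMod 2) V}
  {σ : (Module.End (ZMod 2) V)ˣ}

/-- The algebra of a non-trivial normal abelian subgroup is a field. -/
theorem isField_adjoinUnits (h : Singer Γ U B σ)
    (hr : finrank (ZMod 2) V ≤ 2 * finrank (ZMod 2) U) {M : Subgroup (End2)ˣ} (hMΓ : M ≤ Γ)
    (hM : ∀ a ∈ M, ∀ b ∈ M, a * b = b * a) (hMn : ∀ g ∈ Γ, ∀ m ∈ M, g * m * g⁻¹ ∈ M)
    (hM1 : M ≠ ⊥) : IsField (adjoinUnits M) := by
  refine ⟨⟨0, 1, fun e => ?_⟩, fun a b => Subtype.ext (commute_of_mem_adjoinUnits hM a.2 b.2).eq,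
    fun {a} ha => ?_⟩
  · obtain ⟨v, hv, hv0⟩ := h.exists_ne_zero
    exact hv0 (LinearMap.congr_fun (congrArg Subtype.val e) v).symm
  · obtain ⟨z, hz, hz1⟩ := h.inv_of_ne_zero hr hMΓ hM hMn hM1 a.2 fun e => ha (Subtype.ext e)
    exact ⟨⟨z, hz⟩, Subtype.ext hz1⟩

set_option synthInstance.maxHeartbeats 100000 in
set_option maxHeartbeats 1000000 in
theorem false_of_centralized (h : Singer Γ U B σ)
    (hr : finrank (ZMod 2) V ≤ 2 * finrank (ZMod 2) U) {M K : Subgroup (Module.End (ZMod 2) V)ˣ}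
    (hMΓ : M ≤ Γ) (hMc : ∀ a ∈ M, ∀ b ∈ M, a * b = b * a)
    (hMn : ∀ g ∈ Γ, ∀ m ∈ M, g * m * g⁻¹ ∈ M) (hM1 : M ≠ ⊥)
    (he2 : 2 ≤ finrank (ZMod 2) (adjoinUnits M)) {l m q : ℕ} (hl : l.Prime)
    (hlm : ∀ w, l ∣ 2 ^ w - 1 → m ∣ w)
    (hm : m = finrank (ZMod 2) U ∨ (finrank (ZMod 2) U = 6 ∧ l = 7 ∧ m = 3))
    (hq : q.Prime) (hql : q ≠ l) {τ : (End2)ˣ} (hτl : orderOf τ = l)
    (hτB : ∀ b ∈ B, (τ : End2) b = b) (hτU : ∀ u ∈ U, (τ : End2) u ∈ U)
    (hτfix : ∀ v, (τ : End2) v = v → v ∈ B) (hτM : ∀ g ∈ M, τ * g = g * τ)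
    (hMx : ∀ x ∈ K, ∀ g ∈ M, x * g = g * x)
    (hKK : ∀ x ∈ K, ∀ y ∈ K, x * y * x⁻¹ * y⁻¹ ∈ M) (hexp : ∀ x ∈ K, x ^ q ∈ M)
    (hτKc : ∀ x ∈ K, τ * x = x * τ) {x₀ y₀ : (End2)ˣ} (hx₀ : x₀ ∈ K) (hy₀ : y₀ ∈ K)
    (hxy₀ : x₀ * y₀ ≠ y₀ * x₀) : False := by
  classical
  haveI : Finite (End2) := Finite.of_injective _ DFunLike.coe_injective
  have hcc1 : x₀ * y₀ * x₀⁻¹ * y₀⁻¹ ≠ 1 := fun e => hxy₀ (by
    rwa [mul_inv_eq_one, mul_inv_eq_iff_eq_mul] at e)
  set R := adjoinUnits M
  letI : Field R := (h.isField_adjoinUnits hr hMΓ hMc hMn hM1).toField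
  letI : Module R V := Module.compHom V (R.val.toRingHom : R →+* End2)
  haveI : IsScalarTower (ZMod 2) R V := ⟨fun c y v => rfl⟩
  haveI : Finite R := Subtype.finite
  let M1 : Subgroup (End2)ˣ := M ⊔ Subgroup.zpowers τ
  have hM1le : ∀ a : (End2)ˣ, (∀ g ∈ M, a * g = g * a) → τ * a = a * τ →
      ∀ g ∈ M1, a * g = g * a := by
    intro a ha hat g hg
    have : M1 ≤ Subgroup.centralizer ({a} : Set (End2)ˣ) :=
      sup_le (fun k hk => Subgroup.mem_centralizer_singleton_iff.2 (ha k hk).symm)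
        (Subgroup.zpowers_le.2 (Subgroup.mem_centralizer_singleton_iff.2 hat))
    exact (Subgroup.mem_centralizer_singleton_iff.1 (this hg)).symm
  have hM1τ : ∀ g ∈ M1, τ * g = g * τ := fun g hg => hM1le τ hτM rfl g hg
  have hM1c : ∀ a ∈ M1, ∀ b ∈ M1, a * b = b * a := fun a ha b hb =>
    hM1le a (fun g hg => (hM1le g (fun k hk => hMc g hg k hk) (hτM g hg) a ha).symm)
      (hM1τ a ha) b hb
  set A := adjoinUnits M1
  have hAc : ∀ {a : End2}, a ∈ A → Commute (τ : End2) a := fun ha =>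
    commute_adjoinUnits (fun g hg => show _ = _ from congrArg Units.val (hM1τ g hg)) ha
  have hKA : ∀ x ∈ K, ∀ {a : End2}, a ∈ A → Commute ((x : (End2)ˣ) : End2) a := fun x hx {a} ha =>
    commute_adjoinUnits (fun g hg => show _ = _ from congrArg Units.val
      (hM1le x (hMx x hx) (hτKc x hx) g hg)) ha
  have hKU : ∀ x ∈ K, ∀ u ∈ U, ((x : (End2)ˣ) : End2) u ∈ U := fun x hx u hu =>
    mem_of_commute h.compl hτB hτU hτfix (show _ = _ from congrArg Units.val (hτKc x hx)) hu
  obtain ⟨u, hu, hu0⟩ := h.exists_ne_zero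
  let Su : Submodule (ZMod 2) V := (Subalgebra.toSubmodule A).map (LinearMap.applyₗ u)
  have hSu : Su ≤ U := by
    rintro _ ⟨a, ha, rfl⟩
    exact mem_of_commute h.compl hτB hτU hτfix (hAc ha) hu
  have huSu : u ∈ Su := ⟨1, one_mem A, rfl⟩
  set c := x₀ * y₀ * x₀⁻¹ * y₀⁻¹ with hcdef
  have hcM : c ∈ M := hKK _ hx₀ _ hy₀
  by_cases htop : U ≤ Su
  · -- the elements of `K` commute on `U`
    have hxy : ∀ v ∈ U, ((x₀ : (End2)ˣ) : End2) (((y₀ : (End2)ˣ) : End2) v) =
        ((y₀ : (End2)ˣ) : End2) (((x₀ : (End2)ˣ) : End2) v) := by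
      intro v hv
      obtain ⟨a, ha, rfl⟩ := htop hv
      obtain ⟨p, hp, hp'⟩ := htop (hKU x₀ hx₀ u hu)
      obtain ⟨p', hp1, hp1'⟩ := htop (hKU y₀ hy₀ u hu)
      have ex : ∀ {b : End2}, b ∈ A → ((x₀ : (End2)ˣ) : End2) (b u) = b (p u) := fun {b} hb => by
        have h1 := LinearMap.congr_fun (hKA x₀ hx₀ hb).eq u
        rw [Module.End.mul_apply, Module.End.mul_apply, ← hp'] at h1
        exact h1
      have ey : ∀ {b : End2}, b ∈ A → ((y₀ : (End2)ˣ) : End2) (b u) = b (p' u) := fun {b} hb => by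
        have h1 := LinearMap.congr_fun (hKA y₀ hy₀ hb).eq u
        rw [Module.End.mul_apply, Module.End.mul_apply, ← hp1'] at h1
        exact h1
      show ((x₀ : (End2)ˣ) : End2) (((y₀ : (End2)ˣ) : End2) (a u)) =
        ((y₀ : (End2)ˣ) : End2) (((x₀ : (End2)ˣ) : End2) (a u))
      rw [ey ha, ex ha]
      calc ((x₀ : (End2)ˣ) : End2) (a (p' u)) = (a * p') (p u) := ex (mul_mem ha hp1)
        _ = a ((p' * p) u) := rfl
        _ = a ((p * p') u) := by rw [(commute_of_mem_adjoinUnits hM1c hp1 hp).eq]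
        _ = ((y₀ : (End2)ˣ) : End2) (a (p u)) := (ey (mul_mem ha hp)).symm
    have hne : (c : End2) - 1 ≠ 0 := fun e => hcc1 (Units.ext (sub_eq_zero.1 e))
    have hmemR : (c : End2) - 1 ∈ R := sub_mem (coe_mem_adjoinUnits hcM) (one_mem _)
    obtain ⟨z, hz, hz1⟩ := h.inv_of_ne_zero hr hMΓ hMc hMn hM1 hmemR hne
    refine hu0 ?_
    have h2 := LinearMap.congr_fun ((commute_of_mem_adjoinUnits hMc hz hmemR).eq.trans hz1) u
    have hcu : (c : End2) u = u := by
      have hinvK : ∀ x ∈ K, ((x⁻¹ : (End2)ˣ) : End2) u ∈ U := fun x hx =>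
        hKU _ (inv_mem hx) u hu
      set w := ((x₀⁻¹ : (End2)ˣ) : End2) (((y₀⁻¹ : (End2)ˣ) : End2) u)
      have hw : w ∈ U := hKU _ (inv_mem hx₀) _ (hinvK y₀ hy₀)
      have h3 := hxy w hw
      rw [units_apply_inv_apply, units_apply_inv_apply] at h3
      exact h3
    rw [Module.End.mul_apply, LinearMap.sub_apply, Module.End.one_apply, hcu, sub_self,
      map_zero] at h2
    exact h2.symm
  · -- the exceptional case `n = 6`
    have hlt : finrank (ZMod 2) Su < finrank (ZMod 2) U :=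
      Submodule.finrank_lt_finrank_of_lt (lt_of_le_not_ge hSu htop)
    have hpos : 1 ≤ finrank (ZMod 2) Su :=
      Submodule.one_le_finrank_iff.2 fun e => hu0 (by rwa [e, Submodule.mem_bot] at huSu)
    have hmdvd : m ∣ finrank (ZMod 2) Su := by
      refine dvd_finrank_of_fpf hl hlm (hτl ▸ pow_orderOf_eq_one τ) ?_ fun v hv hfv =>
        (Submodule.disjoint_def.1 h.compl.disjoint) _ (hSu hv) (hτfix v hfv)
      rintro _ ⟨a, ha, rfl⟩
      exact ⟨(τ : End2) * a, A.mul_mem (coe_mem_adjoinUnits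
        (Subgroup.mem_sup_right (Subgroup.mem_zpowers τ))) ha, rfl⟩
    rcases hm with rfl | ⟨hn6, hl7, rfl⟩
    · have := Nat.le_of_dvd (by omega) hmdvd
      omega
    have hSu3 : finrank (ZMod 2) Su = 3 := by
      obtain ⟨k, hk⟩ := hmdvd
      omega
    have hRA : R ≤ A := Algebra.adjoin_mono (Set.image_mono fun g hg => Subgroup.mem_sup_left hg)
    let SuR : Submodule R V :=
      { carrier := Su
        add_mem' := fun ha hb => add_mem ha hb
        zero_mem' := zero_mem Su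
        smul_mem' := fun b v hv => by
          obtain ⟨a, ha, rfl⟩ := hv
          exact ⟨(b : End2) * a, A.mul_mem (hRA b.2) ha, rfl⟩ }
    have hdvd3 : finrank (ZMod 2) R ∣ 3 := by
      have : finrank (ZMod 2) Su = finrank (ZMod 2) R * finrank R SuR := by
        rw [Module.finrank_mul_finrank (ZMod 2) R SuR]
        rfl
      exact ⟨finrank R SuR, hSu3 ▸ this⟩
    have hR3 : finrank (ZMod 2) R = 3 := by
      rcases (Nat.dvd_prime Nat.prime_three).1 hdvd3 with e | e <;> omega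
    haveI := Fintype.ofFinite R
    have hcard : Fintype.card R = 8 := by
      rw [← Nat.card_eq_fintype_card, Module.natCard_eq_pow_finrank (K := ZMod 2), Nat.card_zmod,
        hR3]
      norm_num
    let cR : R := ⟨(c : End2), coe_mem_adjoinUnits hcM⟩
    have hc0 : cR ≠ 0 := fun e => by
      have e' : (c : End2) u = 0 := LinearMap.congr_fun (congrArg Subtype.val e) u
      exact hu0 (units_apply_injective c (e'.trans (map_zero _).symm))
    have h7 := FiniteField.pow_card_sub_one_eq_one cR hc0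
    rw [hcard] at h7
    have hq' : cR ^ q = 1 := Subtype.ext (by
      rw [SubmonoidClass.coe_pow, ← Units.val_pow_eq_pow_val, commutator_pow_eq_one hMx hKK hexp hx₀ hy₀]
      rfl)
    have h1 := Nat.dvd_gcd (orderOf_dvd_of_pow_eq_one h7) (orderOf_dvd_of_pow_eq_one hq')
    rw [show Nat.gcd (8 - 1) q = 1 from
      (Nat.coprime_primes (by norm_num) hq).2 fun e => hql (by rw [← e, hl7])] at h1
    exact hcc1 (Units.ext (congrArg Subtype.val (orderOf_eq_one_iff.1 (Nat.dvd_one.1 h1)) : _))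

/-- **The linear lemma.** -/
theorem two_mul_lt (h : Singer Γ U B σ) (h4 : 4 ≤ finrank (ZMod 2) V) :
    2 * finrank (ZMod 2) U < finrank (ZMod 2) V := by
  classical
  by_contra hr
  push Not at hr
  haveI : Finite (End2) := Finite.of_injective _ DFunLike.coe_injective
  obtain ⟨l, m, hl, hld, hnl, hlm, hm⟩ := exists_prime (finrank (ZMod 2) U) h.two_le
  obtain ⟨τ, hτΓ, -, hτl, hτB, hτU, hτfix⟩ := h.exists_tau hl hld
  obtain ⟨M, hM1, hMΓ, hMc, hMn, hMmax⟩ := exists_maximal_abelian h.odd fun e => by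
    have h1 : τ = 1 := Subgroup.mem_bot.1 (e ▸ hτΓ)
    rw [h1, orderOf_one] at hτl
    exact hl.ne_one hτl.symm
  have hτR : ∀ {x : End2}, x ∈ adjoinUnits M → Commute (τ : End2) x := fun hx =>
    h.commute_tau hr h4 hMΓ hMc hMn hM1 hl hnl hτΓ hτl hτB hx
  have hτM : ∀ g ∈ M, τ * g = g * τ := fun g hg => unit_commute_of_coe (hτR (coe_mem_adjoinUnits hg))
  set R := adjoinUnits M
  have hfield : IsField R := h.isField_adjoinUnits hr hMΓ hMc hMn hM1
  letI : Field R := hfield.toField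
  letI : Module R V := Module.compHom V (R.val.toRingHom : R →+* End2)
  haveI : IsScalarTower (ZMod 2) R V := ⟨fun c y v => rfl⟩
  haveI : Finite R := Subtype.finite
  -- the degree of the field
  have he2 : 2 ≤ finrank (ZMod 2) R := by
    by_contra he
    obtain ⟨⟨g, hg⟩, hg1⟩ := Subgroup.ne_bot_iff_exists_ne_one.1 hM1
    refine hg1 (Subtype.ext (Units.ext ?_))
    have h1 : finrank (ZMod 2) R = 1 := by
      have : 0 < finrank (ZMod 2) R := Module.finrank_pos
      omega
    obtain ⟨c, hc⟩ := (finrank_eq_one_iff_of_nonzero' (1 : R) one_ne_zero).1 h1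
      ⟨(g : End2), coe_mem_adjoinUnits hg⟩
    have hc' : c • (1 : End2) = (g : End2) := congrArg Subtype.val hc
    rcases (show ∀ z : ZMod 2, z = 0 ∨ z = 1 by decide) c with e0 | e0
    · rw [e0, zero_smul] at hc'
      obtain ⟨v, -, hv0⟩ := h.exists_ne_zero
      exact absurd (units_apply_injective g (show (g : End2) v = (g : End2) 0 by
        rw [← hc', LinearMap.zero_apply, LinearMap.zero_apply])) hv0
    · rw [e0, one_smul] at hc'
      exact hc'.symm
  -- the centralizer of `M` is larger than `M`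
  have hτnotM : τ ∉ M := by
    intro hτM'
    obtain ⟨b, hb, hb0⟩ := (Submodule.ne_bot_iff B).1 h.fixB
    have hne : (τ : End2) - 1 ≠ 0 := fun e => by
      have h1 : τ = 1 := Units.ext (sub_eq_zero.1 e)
      rw [h1, orderOf_one] at hτl
      exact hl.ne_one hτl.symm
    have hmemR : (τ : End2) - 1 ∈ R := sub_mem (coe_mem_adjoinUnits hτM') (one_mem _)
    obtain ⟨y, hy, hy1⟩ := h.inv_of_ne_zero hr hMΓ hMc hMn hM1 hmemR hne
    refine hb0 ?_
    have h2 := LinearMap.congr_fun ((commute_of_mem_adjoinUnits hMc hy hmemR).eq.trans hy1) b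
    rw [Module.End.mul_apply, LinearMap.sub_apply, Module.End.one_apply, hτB b hb, sub_self,
      map_zero] at h2
    exact h2.symm
  obtain ⟨K, q, hq, hMK, hKΓ, hKn, hMx, hKK, hexp, hcentre, x₀, hx₀, y₀, hy₀, hxy₀⟩ :=
    exists_extension h.odd hMΓ hMc hMn hMmax hτΓ hτnotM hτM
  obtain ⟨v₀, -, hv₀⟩ := h.exists_ne_zero
  obtain ⟨d, hd, hQd⟩ := index_le_sq hfield (fun g hg => coe_mem_adjoinUnits hg)
    (fun x hx a ha => commute_adjoinUnits
      (fun g hg => show _ = _ from congrArg Units.val (hMx x hx g hg)) ha) hMx hKK hcentre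
    ⟨v₀, hv₀⟩
  have h2d : 2 * d ≤ finrank (ZMod 2) V := hd ▸ Nat.mul_le_mul_right d he2
  have hld' : l ≤ d → False := fun hld => by omega
  have hMq : Nat.card {x : (End2)ˣ // x ∈ M ∧ x ^ q = 1} ≤ q := by
    haveI := Fact.mk hq
    let f : {x : (End2)ˣ // x ∈ M ∧ x ^ q = 1} → {r : R // r ^ q = 1} := fun x =>
      ⟨⟨((x : (End2)ˣ) : End2), coe_mem_adjoinUnits x.2.1⟩, Subtype.ext (by
        rw [SubmonoidClass.coe_pow, ← Units.val_pow_eq_pow_val, x.2.2]; rfl)⟩
    have hf : Function.Injective f := fun a b e => by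
      have e' := congrArg (fun r : {r : R // r ^ q = 1} => ((r : R) : End2)) e
      exact Subtype.ext (Units.ext e')
    refine (Nat.card_le_card_of_injective f hf).trans ?_
    haveI : Fintype {r : R // r ^ q = 1} := Fintype.ofFinite _
    rw [Nat.card_eq_fintype_card]
    calc Fintype.card {r : R // r ^ q = 1}
        = ((Finset.univ : Finset {r : R // r ^ q = 1}).map (Function.Embedding.subtype _)).card := by
          simp
      _ ≤ (Polynomial.nthRootsFinset q (1 : R)).card := Finset.card_le_card fun r hr => by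
          obtain ⟨z, -, rfl⟩ := Finset.mem_map.1 hr
          exact (Polynomial.mem_nthRootsFinset hq.pos _).2 z.2
      _ ≤ q := (Polynomial.nthRootsFinset_def q (1 : R)) ▸
          ((Multiset.toFinset_card_le _).trans (Polynomial.card_nthRoots q 1))
  have hτK : ∀ x ∈ K, τ * x * τ⁻¹ ∈ K := fun x hx => hKn τ hτΓ x hx
  by_cases hql : q = l
  · subst hql
    have hj2 : q * q ≤ (M.subgroupOf K).index := by
      obtain ⟨j, hj⟩ : ∃ j, (M.subgroupOf K).index = q ^ j := by
        haveI := Fact.mk hq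
        haveI : (M.subgroupOf K).Normal := ⟨fun x hx g => hMn _ (hKΓ g.2) _ hx⟩
        rw [Subgroup.index_eq_card]
        exact IsPGroup.iff_card.1 (fun a => ⟨1, by
          obtain ⟨a, rfl⟩ := QuotientGroup.mk'_surjective _ a
          rw [pow_one, ← map_pow, QuotientGroup.mk'_apply, QuotientGroup.eq_one_iff]
          exact hexp a a.2⟩)
      haveI : (M.subgroupOf K).Normal := ⟨fun x hx g => hMn _ (hKΓ g.2) _ hx⟩
      have hj1 : 2 ≤ j := by
        by_contra hj1
        haveI := Fact.mk hq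
        have hx1 : (QuotientGroup.mk (⟨x₀, hx₀⟩ : K) : K ⧸ M.subgroupOf K) ≠ 1 := fun e => hxy₀
          (hMx y₀ hy₀ _ ((QuotientGroup.eq_one_iff (N := M.subgroupOf K) ⟨x₀, hx₀⟩).1 e)).symm
        rw [Subgroup.index_eq_card] at hj
        rcases Nat.lt_or_ge j 1 with hj0 | hj0
        · haveI : Subsingleton (K ⧸ M.subgroupOf K) := (Nat.card_eq_one_iff_unique.1 (by
            rw [hj, show j = 0 by omega, pow_zero])).1
          exact hx1 (Subsingleton.elim _ _)
        · have := mem_zpowers_of_prime_card (show Nat.card (K ⧸ M.subgroupOf K) = q by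
            rw [hj, show j = 1 by omega, pow_one]) (g := QuotientGroup.mk (⟨x₀, hx₀⟩ : K))
            (g' := QuotientGroup.mk (⟨y₀, hy₀⟩ : K)) hx1
          obtain ⟨k, hk⟩ := Subgroup.mem_zpowers_iff.1 this
          rw [← QuotientGroup.mk_zpow, QuotientGroup.eq] at hk
          have h1 : (x₀ ^ k)⁻¹ * y₀ ∈ M := hk
          refine hxy₀ ?_
          calc x₀ * y₀ = x₀ ^ k * (x₀ * ((x₀ ^ k)⁻¹ * y₀)) := by group
            _ = x₀ ^ k * (((x₀ ^ k)⁻¹ * y₀) * x₀) := by rw [hMx x₀ hx₀ _ h1]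
            _ = y₀ * x₀ := by group
      rw [hj, ← pow_two]
      exact Nat.pow_le_pow_right hq.pos hj1
    refine hld' ?_
    nlinarith
  have hτl' : τ ^ l = 1 := hτl ▸ pow_orderOf_eq_one τ
  by_cases htriv : ∀ x ∈ K, τ * x * τ⁻¹ * x⁻¹ ∈ M
  · -- `τ` centralizes `K`
    refine h.false_of_centralized hr hMΓ hMc hMn hM1 he2 hl hlm hm hq hql hτl hτB hτU hτfix hτM
      hMx hKK hexp ?_ hx₀ hy₀ hxy₀
    intro x hx
    set c := τ * x * τ⁻¹ * x⁻¹ with hc
    have hcM : c ∈ M := htriv x hx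
    have hpow : ∀ i : ℕ, τ ^ i * x * (τ ^ i)⁻¹ = c ^ i * x := by
      intro i
      induction i with
      | zero => simp
      | succ i ih =>
        calc τ ^ (i + 1) * x * (τ ^ (i + 1))⁻¹ = τ * (τ ^ i * x * (τ ^ i)⁻¹) * τ⁻¹ := by
              rw [pow_succ']; group
          _ = c ^ i * (τ * x * τ⁻¹) := by
              rw [ih, show τ * (c ^ i * x) = c ^ i * (τ * x) by
                rw [← mul_assoc, hτM _ (pow_mem hcM i), mul_assoc]]
              group
          _ = c ^ (i + 1) * x := by rw [show τ * x * τ⁻¹ = c * x by rw [hc]; group]; group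
    have hcl : c ^ l = 1 := by
      have h1 := hpow l
      rw [hτl', one_mul, inv_one, mul_one] at h1
      exact mul_eq_right.1 h1.symm
    have hcq : c ^ q = 1 := by
      have h1 : (τ * x * τ⁻¹) ^ q = x ^ q := by
        rw [conj_pow, hτM _ (hexp x hx), mul_inv_cancel_right]
      rw [show τ * x * τ⁻¹ = c * x by rw [hc]; group,
        Commute.mul_pow (hMx x hx _ hcM).symm] at h1
      exact mul_eq_right.1 h1
    have hc1 : c = 1 := by
      have := Nat.dvd_gcd (orderOf_dvd_of_pow_eq_one hcl) (orderOf_dvd_of_pow_eq_one hcq)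
      rw [show Nat.gcd l q = 1 from (Nat.coprime_primes hl hq).2 (Ne.symm hql)] at this
      exact orderOf_eq_one_iff.1 (Nat.dvd_one.1 this)
    rw [hc, mul_inv_eq_one, mul_inv_eq_iff_eq_mul] at hc1
    exact hc1
  -- `τ` acts non-trivially on the quotient
  refine hld' ?_
  push Not at htriv
  obtain ⟨s, hs2, hsodd, hls, hsQ⟩ := exists_square_of_acting hq hl hql
    (h.odd.of_dvd_nat (Subgroup.card_dvd_of_le hKΓ)) hMK hMx hKK hexp hcentre hMq hτl' hτK hτM htriv
  have hsd : s ≤ d := by nlinarith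
  have hlodd : l % 2 = 1 := hl.eq_two_or_odd.resolve_left fun e => by
    have := h.two_le
    omega
  have hfac : s * s - 1 = (s - 1) * (s + 1) := by
    obtain ⟨s, rfl⟩ : ∃ k, s = k + 1 := ⟨s - 1, by omega⟩
    exact Nat.sub_eq_of_eq_add (by rw [Nat.add_sub_cancel]; ring)
  rw [hfac] at hls
  rw [Nat.odd_iff] at hsodd
  rcases (Nat.Prime.dvd_mul hl).1 hls with h' | h' <;>
    · have := Nat.le_of_dvd (by omega) h'
      omega

end Singer

end CfsgLib.Walter.Rank
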