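import Cfsg.Agent.Zsigmondy.Basic
import Mathlib

/-!
# Walter, rank at least four: linear preliminaries

`Singer Γ U B σ`: `Γ` is an irreducible group of odd order of invertible endomorphisms of the
`GF(2)`-space `V = U ⊕ B`, and `σ ∈ Γ` fixes `B` pointwise and permutes the non-zero vectors of `U`
transitively.

* `exists_prime`: the prime used to define the element `τ`.
* `isSquare_of_alternating`: a finite elementary abelian group with a non-degenerate alternating
  form with values in a group of order `q` has square order.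
-/

set_option autoImplicit false
set_option linter.style.haveILetI false
set_option linter.unusedSectionVars false

namespace CfsgLib.Walter.Rank

/-! ## Arithmetic -/

/-- A prime `l` dividing `2 ^ n - 1` such that `GF(2)`-representations without fixed points of
groups of order `l` have dimension divisible by `m`, where `m = n`, or `n = 6`, `l = 7` and `m = 3`. -/
theorem exists_prime (n : ℕ) (hn : 2 ≤ n) :
    ∃ l m : ℕ, l.Prime ∧ l ∣ 2 ^ n - 1 ∧ n < l ∧ (∀ w, l ∣ 2 ^ w - 1 → m ∣ w) ∧
      (m = n ∨ (n = 6 ∧ l = 7 ∧ m = 3)) := by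
  by_cases h6 : n = 6
  · subst h6
    refine ⟨7, 3, by norm_num, by norm_num, by norm_num, fun w hw => ?_, Or.inr ⟨rfl, rfl, rfl⟩⟩
    have h : 2 ^ Nat.gcd 3 w - 1 = 7 := by
      rw [← Nat.pow_sub_one_gcd_pow_sub_one]
      exact Nat.gcd_eq_left (show 2 ^ 3 - 1 ∣ 2 ^ w - 1 by simpa using hw)
    rcases (Nat.dvd_prime Nat.prime_three).1 (Nat.gcd_dvd_left 3 w) with e | e
    · rw [e] at h; norm_num at h
    · exact e ▸ Nat.gcd_dvd_right 3 w
  · obtain ⟨l, hl, hdvd, hmin⟩ := Zsigmondy.exists_primitive_prime 2 n (by norm_num) (by omega)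
      (by tauto) (by
        rintro ⟨-, m, hm⟩
        rcases m with _ | _ | m
        · norm_num at hm
        · norm_num at hm
        · have : 4 ≤ 2 ^ (m + 1 + 1) := by
            calc 4 = 2 ^ 2 := by norm_num
              _ ≤ 2 ^ (m + 1 + 1) := Nat.pow_le_pow_right (by norm_num) (by omega)
          omega)
    have key : ∀ w, l ∣ 2 ^ w - 1 → n ∣ w := by
      intro w hw
      have hg : l ∣ 2 ^ Nat.gcd n w - 1 := by
        rw [← Nat.pow_sub_one_gcd_pow_sub_one]
        exact Nat.dvd_gcd hdvd hw
      have hpos : 0 < Nat.gcd n w := Nat.gcd_pos_of_pos_left _ (by omega)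
      have hle : Nat.gcd n w ≤ n := Nat.le_of_dvd (by omega) (Nat.gcd_dvd_left n w)
      rcases Nat.lt_or_ge (Nat.gcd n w) n with hlt | hge
      · exact absurd hg (hmin _ hpos hlt)
      · exact (le_antisymm hle hge) ▸ Nat.gcd_dvd_right n w
    have hl2 : l ≠ 2 := by
      rintro rfl
      have : 2 ∣ 2 ^ n := dvd_pow_self 2 (by omega)
      have := Nat.one_le_two_pow (n := n)
      omega
    haveI : Fact l.Prime := ⟨hl⟩
    have hfermat : l ∣ 2 ^ (l - 1) - 1 := by
      have hne : ((2 : ℕ) : ZMod l) ≠ 0 := by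
        rw [Ne, ZMod.natCast_eq_zero_iff]
        exact fun h => hl2 ((Nat.prime_dvd_prime_iff_eq hl Nat.prime_two).1 h)
      have h := ZMod.pow_card_sub_one_eq_one hne
      rw [← ZMod.natCast_eq_zero_iff, Nat.cast_sub Nat.one_le_two_pow, Nat.cast_pow, h,
        Nat.cast_one, sub_self]
    have := Nat.le_of_dvd (by have := hl.two_le; omega) (key _ hfermat)
    exact ⟨l, n, hl, hdvd, by have := hl.two_le; omega, key, Or.inl rfl⟩

/-! ## Alternating forms -/

/-- A finite commutative group of exponent `q` with a non-degenerate alternating bimultiplicative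
form with values in a group of order `q` has square order. -/
theorem isSquare_of_alternating {q : ℕ} [Fact q.Prime] {M : Type*} [CommGroup M] [Finite M]
    (hM : Nat.card M = q) :
    ∀ (N : ℕ) (W : Type*) [CommGroup W] [Finite W] (β : W →* W →* M), Nat.card W ≤ N →
      (∀ x : W, x ^ q = 1) → (∀ x, β x x = 1) → (∀ x, (∀ y, β x y = 1) → x = 1) →
      ∃ s : ℕ, Nat.card W = s * s := by
  intro N
  induction N with
  | zero => intro W _ _ β hle; have := Nat.card_pos (α := W); omega
  | succ N ih =>
    intro W _ _ β hle hexp halt hnd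
    by_cases hW : Subsingleton W
    · exact ⟨1, by rw [Nat.card_of_subsingleton (1 : W)]⟩
    haveI : Nontrivial W := not_subsingleton_iff_nontrivial.1 hW
    obtain ⟨x, hx⟩ := exists_ne (1 : W)
    obtain ⟨y, hy⟩ : ∃ y, β x y ≠ 1 := by
      by_contra h
      push Not at h
      exact hx (hnd x h)
    have hswap : ∀ a b, β b a = (β a b)⁻¹ := fun a b => by
      have h := halt (a * b)
      simp only [map_mul, MonoidHom.mul_apply, halt, one_mul, mul_one] at h
      first
        | exact eq_inv_of_mul_eq_one_right h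
        | exact eq_inv_of_mul_eq_one_left h
    -- the hyperbolic plane
    let φ : W →* M × M := (β x).prod (β y)
    have hgen : ∀ m : M, ∃ k : ℕ, β x y ^ k = m := by
      intro m
      have : m ∈ Subgroup.zpowers (β x y) := mem_zpowers_of_prime_card hM hy
      exact Subgroup.mem_zpowers_iff.1 this |>.elim fun k hk =>
        ((isOfFinOrder_of_finite (β x y)).mem_powers_iff_mem_zpowers.2 ⟨k, hk⟩ : _)
    have hsurj : Function.Surjective φ := by
      rintro ⟨a, b⟩
      obtain ⟨i, hi⟩ := hgen a
      obtain ⟨j, hj⟩ := hgen b⁻¹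
      refine ⟨y ^ i * x ^ j, ?_⟩
      show (β x (y ^ i * x ^ j), β y (y ^ i * x ^ j)) = (a, b)
      rw [map_mul, map_mul, map_pow, map_pow, map_pow, map_pow, halt, halt, one_pow, one_pow,
        mul_one, one_mul, hi, hswap x y, inv_pow, hj, inv_inv]
    have hcard : Nat.card W = Nat.card φ.ker * (q * q) := by
      rw [Subgroup.card_eq_card_quotient_mul_card_subgroup φ.ker,
        Nat.card_congr (QuotientGroup.quotientKerEquivOfSurjective φ hsurj).toEquiv, Nat.card_prod,
        hM]
      ring
    have hker : ∀ {a : W}, a ∈ φ.ker → β x a = 1 ∧ β y a = 1 := fun {a} ha => by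
      have h : φ a = 1 := ha
      exact ⟨congrArg Prod.fst h, congrArg Prod.snd h⟩
    let β' : φ.ker →* φ.ker →* M :=
      MonoidHom.mk' (fun a => (β a).comp φ.ker.subtype) fun a b => by
        ext c
        simp [map_mul]
    obtain ⟨s, hs⟩ := ih φ.ker β' (by
        have hq := (Fact.out : q.Prime).two_le
        have : 4 * Nat.card φ.ker ≤ Nat.card W := by
          rw [hcard, mul_comm 4]
          exact Nat.mul_le_mul_left _ (by nlinarith)
        have := Nat.card_pos (α := φ.ker)
        omega)
      (fun a => Subtype.ext (hexp a)) (fun a => halt a) fun a ha => by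
        refine Subtype.ext (hnd a fun w => ?_)
        obtain ⟨i, hi⟩ := hgen (β x w)
        obtain ⟨j, hj⟩ := hgen (β y w)⁻¹
        set h := y ^ i * x ^ j with hh
        have hw : w * h⁻¹ ∈ φ.ker := by
          show φ (w * h⁻¹) = 1
          rw [map_mul, map_inv, mul_inv_eq_one]
          show (β x w, β y w) = (β x (y ^ i * x ^ j), β y (y ^ i * x ^ j))
          rw [map_mul, map_mul, map_pow, map_pow, map_pow, map_pow, halt, halt, one_pow, one_pow,
            mul_one, one_mul, hi, hswap x y, inv_pow, hj, inv_inv]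
        have h1 : β (a : W) (w * h⁻¹) = 1 := ha ⟨_, hw⟩
        have h2 : β (a : W) h = 1 := by
          rw [hh, map_mul, map_pow, map_pow, hswap x a, hswap y a, (hker a.2).1, (hker a.2).2]
          simp
        rw [map_mul, map_inv, h2, inv_one, mul_one] at h1
        exact h1
    exact ⟨s * q, by rw [hcard, hs]; ring⟩

/-! ## The hypothesis -/

variable {V : Type*} [AddCommGroup V] [Module (ZMod 2) V]

local notation "End2" => Module.End (ZMod 2) V

/-- An irreducible group of odd order with an element cycling `U` and fixing `B`. -/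
structure Singer (Γ : Subgroup (End2)ˣ) (U B : Submodule (ZMod 2) V) (σ : (End2)ˣ) : Prop where
  odd : Odd (Nat.card Γ)
  irr : ∀ W : Submodule (ZMod 2) V, (∀ g ∈ Γ, ∀ v ∈ W, (g : End2) v ∈ W) → W = ⊥ ∨ W = ⊤
  compl : IsCompl U B
  fixB : B ≠ ⊥
  mem : σ ∈ Γ
  fix : ∀ b ∈ B, (σ : End2) b = b
  inv : ∀ u ∈ U, (σ : End2) u ∈ U
  trans : ∀ u ∈ U, u ≠ 0 → ∀ v ∈ U, v ≠ 0 → ∃ k : ℕ, ((σ ^ k : (End2)ˣ) : End2) u = v
  two_le : 2 ≤ Module.finrank (ZMod 2) U

theorem units_mul_apply (g h : (End2)ˣ) (v : V) :
    ((g * h : (End2)ˣ) : End2) v = (g : End2) ((h : End2) v) := rfl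

theorem units_inv_apply_apply (g : (End2)ˣ) (v : V) :
    ((g⁻¹ : (End2)ˣ) : End2) ((g : End2) v) = v := by
  rw [← units_mul_apply, inv_mul_cancel]; rfl

theorem units_apply_inv_apply (g : (End2)ˣ) (v : V) :
    (g : End2) (((g⁻¹ : (End2)ˣ) : End2) v) = v := by
  rw [← units_mul_apply, mul_inv_cancel]; rfl

theorem units_apply_injective (g : (End2)ˣ) : Function.Injective (g : End2) := fun u v h => by
  rw [← units_inv_apply_apply g u, h, units_inv_apply_apply]

theorem units_pow_succ_apply (g : (End2)ˣ) (k : ℕ) (v : V) :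
    ((g ^ (k + 1) : (End2)ˣ) : End2) v = ((g ^ k : (End2)ˣ) : End2) ((g : End2) v) := by
  rw [pow_succ, units_mul_apply]

/-- The fixed subspace of a power fixing a vector pointwise. -/
theorem pow_apply_of_fixed {g : (End2)ˣ} {v : V} (h : (g : End2) v = v) (k : ℕ) :
    ((g ^ k : (End2)ˣ) : End2) v = v := by
  induction k with
  | zero => rfl
  | succ k ih => rw [units_pow_succ_apply, h, ih]

end CfsgLib.Walter.Rank
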