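import Cfsg.Agent.Walter.Rank.LinearBasic
import Cfsg.Agent.RegularLinear.Field
import Mathlib

/-!
# Walter, rank at least four: normal abelian subgroups in the linear configuration

If `2 * dim U ≥ dim V` then the algebra generated by a non-trivial normal abelian subgroup is a
field, over which the element of prime order `τ` is linear.
-/

set_option autoImplicit false
set_option linter.style.haveILetI false
set_option linter.unusedSectionVars false

namespace CfsgLib.Walter.Rank

open Module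

variable {V : Type*} [AddCommGroup V] [Module (ZMod 2) V] [Finite V]

local notation "End2" => Module.End (ZMod 2) V

namespace Singer

variable {Γ : Subgroup (Module.End (ZMod 2) V)ˣ} {U B : Submodule (ZMod 2) V}
  {σ : (Module.End (ZMod 2) V)ˣ}

theorem eq_top_of_invariant (h : Singer Γ U B σ) {W : Submodule (ZMod 2) V}
    (hW : ∀ g ∈ Γ, ∀ v ∈ W, (g : End2) v ∈ W) (hne : W ≠ ⊥) : W = ⊤ :=
  (h.irr W hW).resolve_left hne

theorem finrank_add (h : Singer Γ U B σ) :
    finrank (ZMod 2) U + finrank (ZMod 2) B = finrank (ZMod 2) V :=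
  Submodule.finrank_add_eq_of_isCompl h.compl

theorem one_le_finrank_B (h : Singer Γ U B σ) : 1 ≤ finrank (ZMod 2) B :=
  Submodule.one_le_finrank_iff.2 h.fixB

/-- An element of `U` different from zero. -/
theorem exists_ne_zero (h : Singer Γ U B σ) : ∃ u ∈ U, u ≠ (0 : V) := by
  refine (Submodule.ne_bot_iff U).1 fun e => ?_
  have := h.two_le
  rw [e, finrank_bot] at this
  omega

theorem pow_apply_mem (h : Singer Γ U B σ) (k : ℕ) : ∀ u ∈ U, ((σ ^ k : (End2)ˣ) : End2) u ∈ U := by
  induction k with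
  | zero => exact fun u hu => hu
  | succ k ih => exact fun u hu => by rw [units_pow_succ_apply]; exact ih _ (h.inv u hu)

theorem pow_apply_fix (h : Singer Γ U B σ) (k : ℕ) : ∀ b ∈ B, ((σ ^ k : (End2)ˣ) : End2) b = b :=
  fun b hb => pow_apply_of_fixed (h.fix b hb) k

/-- A power of `σ` fixing a non-zero vector of `U` is trivial. -/
theorem pow_eq_one_of_fixed (h : Singer Γ U B σ) {k : ℕ} {u : V} (hu : u ∈ U) (hu0 : u ≠ 0)
    (hk : ((σ ^ k : (End2)ˣ) : End2) u = u) : σ ^ k = 1 := by
  refine Units.ext (LinearMap.ext fun v => ?_)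
  obtain ⟨a, ha, b, hb, rfl⟩ := Submodule.mem_sup.1
    ((h.compl.sup_eq_top).ge (Submodule.mem_top : v ∈ (⊤ : Submodule (ZMod 2) V)))
  rw [map_add, map_add, h.pow_apply_fix k b hb]
  refine congrArg (· + b) ?_
  by_cases ha0 : a = 0
  · rw [ha0, map_zero]; rfl
  obtain ⟨j, hj⟩ := h.trans u hu hu0 a ha ha0
  rw [← hj, ← units_mul_apply, ← pow_add, add_comm, pow_add, units_mul_apply, hk]
  rfl

theorem orderOf_eq (h : Singer Γ U B σ) : orderOf σ = 2 ^ finrank (ZMod 2) U - 1 := by
  classical
  haveI : Fintype V := Fintype.ofFinite V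
  obtain ⟨u, hu, hu0⟩ := h.exists_ne_zero
  haveI : Finite (End2) := Finite.of_injective _ DFunLike.coe_injective
  have hpos : 0 < orderOf σ := (isOfFinOrder_of_finite σ).orderOf_pos
  let f : Fin (orderOf σ) → {v : U // v ≠ 0} := fun k =>
    ⟨⟨((σ ^ (k : ℕ) : (End2)ˣ) : End2) u, h.pow_apply_mem k u hu⟩, fun e => hu0
      (units_apply_injective (σ ^ (k : ℕ)) (by rw [map_zero]; exact congrArg Subtype.val e))⟩
  have hf : Function.Bijective f := by
    refine ⟨fun i j e => ?_, fun v => ?_⟩
    · have e' : ((σ ^ (i : ℕ) : (End2)ˣ) : End2) u = ((σ ^ (j : ℕ) : (End2)ˣ) : End2) u :=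
        congrArg (fun w : {v : U // v ≠ 0} => ((w : U) : V)) e
      wlog hij : (i : ℕ) ≤ (j : ℕ) generalizing i j
      · exact (this j i e.symm e'.symm (by omega)).symm
      have hsplit : σ ^ (j : ℕ) = σ ^ (i : ℕ) * σ ^ ((j : ℕ) - i) := by
        rw [← pow_add, Nat.add_sub_cancel' hij]
      rw [hsplit, units_mul_apply] at e'
      have h1 := h.pow_eq_one_of_fixed hu hu0 (units_apply_injective _ e').symm
      have h2 := Nat.eq_zero_of_dvd_of_lt (orderOf_dvd_of_pow_eq_one h1)
        (by have := j.isLt; omega)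
      exact Fin.ext (by omega)
    · obtain ⟨k, hk⟩ := h.trans u hu hu0 _ v.1.2
        (fun e => v.2 (Subtype.ext e))
      refine ⟨⟨k % orderOf σ, Nat.mod_lt _ hpos⟩, Subtype.ext (Subtype.ext ?_)⟩
      show ((σ ^ (k % orderOf σ) : (End2)ˣ) : End2) u = _
      rw [pow_mod_orderOf, hk]
  have := Fintype.card_congr (Equiv.ofBijective f hf)
  rw [Fintype.card_fin, Fintype.card_subtype_compl, Fintype.card_subtype_eq] at this
  rw [this, ← Nat.card_eq_fintype_card, Module.natCard_eq_pow_finrank (K := ZMod 2), Nat.card_zmod]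

/-- The element of prime order. -/
theorem exists_tau (h : Singer Γ U B σ) {l : ℕ} (hl : l.Prime)
    (hd : l ∣ 2 ^ finrank (ZMod 2) U - 1) :
    ∃ τ : (End2)ˣ, τ ∈ Γ ∧ τ ∈ Subgroup.zpowers σ ∧ orderOf τ = l ∧
      (∀ b ∈ B, (τ : End2) b = b) ∧ (∀ u ∈ U, (τ : End2) u ∈ U) ∧
      (∀ v : V, (τ : End2) v = v → v ∈ B) := by
  obtain ⟨m, hm⟩ := hd
  have hne : σ ^ m ≠ 1 := fun e => by
    have h1 := orderOf_dvd_of_pow_eq_one e
    rw [h.orderOf_eq, hm] at h1
    have hpos : 0 < m := Nat.pos_of_ne_zero fun e0 => by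
      rw [e0, mul_zero] at hm
      have : 2 ^ 2 ≤ 2 ^ finrank (ZMod 2) U := Nat.pow_le_pow_right (by norm_num) h.two_le
      omega
    have := Nat.le_of_dvd hpos h1
    have := hl.two_le
    nlinarith
  refine ⟨σ ^ m, pow_mem h.mem m, pow_mem (Subgroup.mem_zpowers σ) m, ?_, h.pow_apply_fix m,
    h.pow_apply_mem m, fun v hv => ?_⟩
  · haveI := Fact.mk hl
    refine orderOf_eq_prime ?_ hne
    rw [← pow_mul, mul_comm, ← hm, ← h.orderOf_eq, pow_orderOf_eq_one]
  · obtain ⟨a, ha, b, hb, rfl⟩ := Submodule.mem_sup.1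
      ((h.compl.sup_eq_top).ge (Submodule.mem_top : v ∈ (⊤ : Submodule (ZMod 2) V)))
    by_cases ha0 : a = 0
    · rw [ha0, zero_add]; exact hb
    rw [map_add, h.pow_apply_fix m b hb] at hv
    exact absurd (h.pow_eq_one_of_fixed ha ha0 (add_right_cancel hv)) hne

end Singer

/-- A subspace without fixed points for a map of prime order `l`. -/
theorem dvd_finrank_of_fpf {l m : ℕ} (hl : l.Prime) (hlm : ∀ w, l ∣ 2 ^ w - 1 → m ∣ w)
    {τ : (End2)ˣ} (hτ : τ ^ l = 1) {W : Submodule (ZMod 2) V}
    (hW : ∀ v ∈ W, (τ : End2) v ∈ W) (hfix : ∀ v ∈ W, (τ : End2) v = v → v = 0) :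
    m ∣ finrank (ZMod 2) W := by
  classical
  haveI := Fact.mk hl
  haveI : Fintype W := Fintype.ofFinite W
  let f : Function.End W := fun v => ⟨(τ : End2) v, hW v v.2⟩
  have hpow : ∀ (k : ℕ) (v : W), (((f ^ k) v : W) : V) = ((τ ^ k : (End2)ˣ) : End2) v := by
    intro k
    induction k with
    | zero => exact fun v => rfl
    | succ k ih =>
      intro v
      rw [pow_succ, units_pow_succ_apply]
      exact ih (f v)
  have hf : f ^ l ^ 1 = 1 := funext fun v => Subtype.ext (by rw [hpow, pow_one, hτ]; rfl)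
  have h := Equiv.Perm.card_fixedPoints_modEq (p := l) hf
  have h1 : Fintype.card (Function.fixedPoints f) = 1 := by
    rw [Fintype.card_eq_one_iff]
    exact ⟨⟨0, Subtype.ext (map_zero _)⟩, fun v =>
      Subtype.ext (Subtype.ext (hfix _ v.1.2 (congrArg Subtype.val v.2)))⟩
  refine hlm _ ((Nat.modEq_iff_dvd' Nat.one_le_two_pow).1 ?_)
  have hc : Fintype.card W = 2 ^ finrank (ZMod 2) W := by
    rw [← Nat.card_eq_fintype_card, Module.natCard_eq_pow_finrank (K := ZMod 2), Nat.card_zmod]
  rw [← hc]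
  rw [h1] at h
  exact h.symm

/-! ## The algebra of a normal abelian subgroup -/

/-- The algebra generated by a set of invertible endomorphisms. -/
def adjoinUnits (M : Subgroup (End2)ˣ) : Subalgebra (ZMod 2) (End2) :=
  Algebra.adjoin (ZMod 2) ((Units.val : (End2)ˣ → End2) '' (M : Set (End2)ˣ))

theorem coe_mem_adjoinUnits {M : Subgroup (End2)ˣ} {g : (End2)ˣ} (hg : g ∈ M) :
    (g : End2) ∈ adjoinUnits M := Algebra.subset_adjoin ⟨g, hg, rfl⟩

theorem commute_adjoinUnits {M : Subgroup (End2)ˣ} {a : End2}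
    (ha : ∀ g ∈ M, Commute a (g : End2)) {x : End2} (hx : x ∈ adjoinUnits M) : Commute a x := by
  refine Algebra.adjoin_induction (p := fun x _ => Commute a x) ?_ ?_ ?_ ?_ hx
  · rintro _ ⟨g, hg, rfl⟩
    exact ha g hg
  · exact fun r => (Algebra.commute_algebraMap_right r a)
  · exact fun _ _ _ _ hy hz => hy.add_right hz
  · exact fun _ _ _ _ hy hz => hy.mul_right hz

theorem commute_of_mem_adjoinUnits {M : Subgroup (End2)ˣ} (hM : ∀ a ∈ M, ∀ b ∈ M, a * b = b * a)
    {x y : End2} (hx : x ∈ adjoinUnits M) (hy : y ∈ adjoinUnits M) : Commute x y :=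
  commute_adjoinUnits (fun g hg => (commute_adjoinUnits (a := (g : End2))
    (fun k hk => show _ = _ from congrArg Units.val (hM g hg k hk)) hx).symm) hy

/-- Conjugation by an element normalizing the subgroup preserves the algebra. -/
theorem conj_mem_adjoinUnits {M : Subgroup (End2)ˣ} {g : (End2)ˣ}
    (hg : ∀ m ∈ M, g * m * g⁻¹ ∈ M) {x : End2} (hx : x ∈ adjoinUnits M) :
    (g : End2) * x * ((g⁻¹ : (End2)ˣ) : End2) ∈ adjoinUnits M := by
  refine Algebra.adjoin_induction
    (p := fun x _ => (g : End2) * x * ((g⁻¹ : (End2)ˣ) : End2) ∈ adjoinUnits M) ?_ ?_ ?_ ?_ hx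
  · rintro _ ⟨m, hm, rfl⟩
    rw [← Units.val_mul, ← Units.val_mul]
    exact coe_mem_adjoinUnits (hg m hm)
  · intro r
    rw [(Algebra.commute_algebraMap_right r (g : End2)).eq, mul_assoc, ← Units.val_mul,
      mul_inv_cancel, Units.val_one, mul_one]
    exact Subalgebra.algebraMap_mem _ r
  · intro y z _ _ hy hz
    rw [mul_add, add_mul]
    exact add_mem hy hz
  · intro y z _ _ hy hz
    rw [show (g : End2) * (y * z) * ((g⁻¹ : (End2)ˣ) : End2) =
      ((g : End2) * y * ((g⁻¹ : (End2)ˣ) : End2)) * ((g : End2) * z * ((g⁻¹ : (End2)ˣ) : End2)) by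
        simp only [mul_assoc]
        rw [← mul_assoc ((g⁻¹ : (End2)ˣ) : End2) (g : End2), ← Units.val_mul, inv_mul_cancel,
          Units.val_one, one_mul]]
    exact mul_mem hy hz

/-- The algebra of an abelian group of odd order is reduced: a power of the Frobenius is trivial. -/
theorem exists_pow_two_pow {M : Subgroup (End2)ˣ} (hM : ∀ a ∈ M, ∀ b ∈ M, a * b = b * a)
    (hodd : Odd (Nat.card M)) [Nontrivial V] :
    ∃ K : ℕ, 2 ≤ 2 ^ K ∧ ∀ x ∈ adjoinUnits M, x ^ 2 ^ K = x := by
  haveI : CharP (End2) 2 := charP_of_injective_algebraMap (algebraMap (ZMod 2) (End2)).injective 2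
  set c := Nat.card M with hc
  have hpos : 0 < c := hodd.pos
  have hK : 2 ^ Nat.totient c ≡ 1 [MOD c] :=
    Nat.ModEq.pow_totient ((Nat.coprime_two_left.2 hodd))
  refine ⟨Nat.totient c, ?_, fun x hx => ?_⟩
  · calc 2 = 2 ^ 1 := (pow_one 2).symm
      _ ≤ 2 ^ Nat.totient c := Nat.pow_le_pow_right (by norm_num) (Nat.totient_pos.2 hpos)
  refine Algebra.adjoin_induction (p := fun x _ => x ^ 2 ^ Nat.totient c = x) ?_ ?_ ?_ ?_ hx
  · rintro _ ⟨g, hg, rfl⟩
    rw [← Units.val_pow_eq_pow_val]
    refine congrArg Units.val ?_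
    have h1 : g ^ c = 1 := by
      have := pow_card_eq_one' (G := M) (x := ⟨g, hg⟩)
      exact congrArg Subtype.val this
    obtain ⟨t, ht⟩ := (Nat.modEq_iff_dvd' Nat.one_le_two_pow).1 hK.symm
    rw [show 2 ^ Nat.totient c = c * t + 1 by
      have := Nat.one_le_two_pow (n := Nat.totient c)
      omega, pow_succ, pow_mul, h1, one_pow, one_mul]
  · intro r
    rw [← map_pow, ZMod.pow_card_pow]
  · intro y z hy' hz' hy hz
    rw [add_pow_char_pow_of_commute (p := 2) (h := commute_of_mem_adjoinUnits hM hy' hz'), hy, hz]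
  · intro y z hy' hz' hy hz
    rw [(commute_of_mem_adjoinUnits hM hy' hz').mul_pow, hy, hz]

namespace Singer

variable {Γ : Subgroup (Module.End (ZMod 2) V)ˣ} {U B : Submodule (ZMod 2) V}
  {σ : (Module.End (ZMod 2) V)ˣ}

/-- A minimal idempotent of the algebra of a normal abelian subgroup, moved by `Γ`, gives the
bound. -/
theorem two_mul_lt_of_atom (h : Singer Γ U B σ) {M : Subgroup (End2)ˣ}
    (hM : ∀ a ∈ M, ∀ b ∈ M, a * b = b * a) (hMn : ∀ g ∈ Γ, ∀ m ∈ M, g * m * g⁻¹ ∈ M) (hM1 : M ≠ ⊥)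
    {e : End2} (he : e ∈ adjoinUnits M) (hee : e * e = e) (he0 : e ≠ 0) (he1 : e ≠ 1)
    (hatom : ∀ y ∈ adjoinUnits M, y * y = y → y * e = 0 ∨ y * e = e) :
    2 * finrank (ZMod 2) U < finrank (ZMod 2) V := by
  classical
  haveI : Finite (End2) := Finite.of_injective _ DFunLike.coe_injective
  haveI : Fintype (End2) := Fintype.ofFinite _
  obtain ⟨l, m, hl, hld, hnl, hlm, hm⟩ := exists_prime (finrank (ZMod 2) U) h.two_le
  obtain ⟨τ, hτΓ, hτσ, hτl, hτB, hτU, hτfix⟩ := h.exists_tau hl hld
  -- conjugates of the idempotent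
  let cj : (End2)ˣ → End2 → End2 := fun g x => (g : End2) * x * ((g⁻¹ : (End2)ˣ) : End2)
  have hcj_mul : ∀ g k x, cj (g * k) x = cj g (cj k x) := fun g k x => by
    simp only [cj, mul_inv_rev, Units.val_mul, mul_assoc]
  have hcj_one : ∀ x, cj 1 x = x := fun x => by simp [cj]
  have hcj_mulr : ∀ g x y, cj g (x * y) = cj g x * cj g y := fun g x y => by
    simp only [cj, mul_assoc]
    rw [← mul_assoc ((g⁻¹ : (End2)ˣ) : End2) (g : End2), ← Units.val_mul, inv_mul_cancel,
      Units.val_one, one_mul]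
  have hcj_zero : ∀ g, cj g 0 = 0 := fun g => by simp [cj]
  have hcj_inj : ∀ g, Function.Injective (cj g) := fun g x y hxy => by
    rw [← hcj_one x, ← inv_mul_cancel g, hcj_mul, hxy, ← hcj_mul, inv_mul_cancel, hcj_one]
  have hcj_app : ∀ g x v, cj g x ((g : End2) v) = (g : End2) (x v) := fun g x v => by
    show (g : End2) (x (((g⁻¹ : (End2)ˣ) : End2) ((g : End2) v))) = _
    rw [units_inv_apply_apply]
  have hcjR : ∀ g ∈ Γ, ∀ x ∈ adjoinUnits M, cj g x ∈ adjoinUnits M := fun g hg x hx =>
    conj_mem_adjoinUnits (hMn g hg) hx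
  let O : Finset (End2) := (Finset.univ : Finset (End2)).filter fun x => ∃ g ∈ Γ, cj g e = x
  have hOmem : ∀ x, x ∈ O ↔ ∃ g ∈ Γ, cj g e = x := fun x => by simp [O]
  have heO : e ∈ O := (hOmem e).2 ⟨1, one_mem _, hcj_one e⟩
  have hOidem : ∀ x ∈ O, x * x = x := fun x hx => by
    obtain ⟨g, -, rfl⟩ := (hOmem x).1 hx
    rw [← hcj_mulr, hee]
  have hOR : ∀ x ∈ O, x ∈ adjoinUnits M := fun x hx => by
    obtain ⟨g, hg, rfl⟩ := (hOmem x).1 hx
    exact hcjR g hg e he
  have hOne : ∀ x ∈ O, x ≠ 0 := fun x hx e0 => by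
    obtain ⟨g, -, rfl⟩ := (hOmem x).1 hx
    exact he0 (hcj_inj g (e0.trans (hcj_zero g).symm))
  have horth : ∀ x ∈ O, ∀ y ∈ O, x ≠ y → x * y = 0 := by
    intro x hx y hy hxy
    obtain ⟨g, hg, rfl⟩ := (hOmem x).1 hx
    obtain ⟨k, hk, rfl⟩ := (hOmem y).1 hy
    have hy' : cj (g⁻¹ * k) e ∈ adjoinUnits M := hcjR _ (mul_mem (inv_mem hg) hk) e he
    rcases hatom _ hy' (by rw [← hcj_mulr, hee]) with h0 | h0
    · have := congrArg (cj g) h0
      rwa [hcj_mulr, ← hcj_mul, mul_inv_cancel_left, hcj_zero,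
        (commute_of_mem_adjoinUnits hM (hOR _ hy) (hOR _ hx)).eq] at this
    · exfalso
      have hx' : cj (k⁻¹ * g) e ∈ adjoinUnits M := hcjR _ (mul_mem (inv_mem hk) hg) e he
      have h1 : cj g e = cj k e * cj g e := by
        have := congrArg (cj g) h0
        rwa [hcj_mulr, ← hcj_mul, mul_inv_cancel_left, eq_comm] at this
      rcases hatom _ hx' (by rw [← hcj_mulr, hee]) with h2 | h2
      · have := congrArg (cj k) h2
        rw [hcj_mulr, ← hcj_mul, mul_inv_cancel_left, hcj_zero,
          (commute_of_mem_adjoinUnits hM (hOR _ hx) (hOR _ hy)).eq] at this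
        exact hOne _ hx (h1.trans this)
      · have := congrArg (cj k) h2
        rw [hcj_mulr, ← hcj_mul, mul_inv_cancel_left,
          (commute_of_mem_adjoinUnits hM (hOR _ hx) (hOR _ hy)).eq] at this
        exact hxy (h1.trans this)
  have hOperm : ∀ g ∈ Γ, ∀ x ∈ O, cj g x ∈ O := fun g hg x hx => by
    obtain ⟨k, hk, rfl⟩ := (hOmem x).1 hx
    exact (hOmem _).2 ⟨g * k, mul_mem hg hk, hcj_mul g k e⟩
  have happ : ∀ x ∈ O, ∀ y ∈ O, x ≠ y → ∀ v, x (y v) = 0 := fun x hx y hy hxy v => by
    rw [← Module.End.mul_apply, horth x hx y hy hxy]; rfl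
  have hidem : ∀ x ∈ O, ∀ v, x (x v) = x v := fun x hx v => by
    rw [← Module.End.mul_apply, hOidem x hx]
  -- the orbit sums to one
  have hsum : ∀ v, ∑ x ∈ O, x v = v := by
    set s : End2 := ∑ x ∈ O, x
    have hs : ∀ v, s (s v) = s v := fun v => by
      simp only [s, LinearMap.sum_apply, map_sum]
      refine Finset.sum_congr rfl fun x hx => ?_
      rw [Finset.sum_eq_single x (fun y hy hyx => happ y hy x hx hyx v)
        (fun hx' => absurd hx hx'), hidem x hx]
    have htop : LinearMap.range s = ⊤ := by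
      refine h.eq_top_of_invariant (fun g hg v hv => ?_) fun hbot => hOne e heO ?_
      · obtain ⟨w, rfl⟩ := hv
        refine ⟨(g : End2) w, ?_⟩
        simp only [s, LinearMap.sum_apply, map_sum]
        refine Finset.sum_bij' (fun x _ => cj g⁻¹ x) (fun x _ => cj g x)
          (fun x hx => hOperm _ (inv_mem hg) x hx) (fun x hx => hOperm g hg x hx)
          (fun x _ => by rw [← hcj_mul, mul_inv_cancel, hcj_one])
          (fun x _ => by rw [← hcj_mul, inv_mul_cancel, hcj_one]) fun x _ => ?_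
        rw [← hcj_app, ← hcj_mul, mul_inv_cancel, hcj_one]
      · refine LinearMap.ext fun v => ?_
        have h1 : e (s v) = e v := by
          simp only [s, LinearMap.sum_apply, map_sum]
          rw [Finset.sum_eq_single e (fun y hy hye => happ e heO y hy (Ne.symm hye) v)
            (fun hx' => absurd heO hx'), hidem e heO]
        rw [LinearMap.range_eq_bot.1 hbot, LinearMap.zero_apply, map_zero] at h1
        exact h1.symm
    intro v
    obtain ⟨w, hw⟩ := (htop.ge (Submodule.mem_top : v ∈ (⊤ : Submodule (ZMod 2) V)))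
    have : s v = v := by rw [← hw, hs]
    simpa [s, LinearMap.sum_apply] using this
  -- all ranges have the same dimension
  set d := finrank (ZMod 2) (LinearMap.range e)
  have hd2 : 2 ≤ d := by
    by_contra hd
    obtain ⟨⟨g₀, hg₀⟩, hg₀1'⟩ := Subgroup.ne_bot_iff_exists_ne_one.1 hM1
    have hg₀1 : g₀ ≠ 1 := fun e1 => hg₀1' (Subtype.ext e1)
    refine hg₀1 (Units.ext (LinearMap.ext fun v => ?_))
    show (g₀ : End2) v = v
    rw [← hsum v, map_sum]
    refine Finset.sum_congr rfl fun x hx => ?_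
    obtain ⟨k, hk, rfl⟩ := (hOmem x).1 hx
    have hmem : k⁻¹ * g₀ * k ∈ M := by
      have := hMn k⁻¹ (inv_mem hk) g₀ hg₀
      rwa [inv_inv] at this
    -- an element of `M` fixes the range of `e`
    set w := e (((k⁻¹ : (End2)ˣ) : End2) v)
    have hfix : ((k⁻¹ * g₀ * k : (End2)ˣ) : End2) w = w := by
      by_cases hw0 : w = 0
      · rw [hw0, map_zero]
      have hgw : ((k⁻¹ * g₀ * k : (End2)ˣ) : End2) w = e (((k⁻¹ * g₀ * k : (End2)ˣ) : End2)
          (((k⁻¹ : (End2)ˣ) : End2) v)) :=
        LinearMap.congr_fun (commute_of_mem_adjoinUnits hM (coe_mem_adjoinUnits hmem) he).eq _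
      have hmem' : ((k⁻¹ * g₀ * k : (End2)ˣ) : End2) w ∈ LinearMap.range e := hgw ▸ LinearMap.mem_range_self _ _
      obtain ⟨c, hc⟩ := finrank_le_one_iff.1 (show finrank (ZMod 2) (LinearMap.range e) ≤ 1 by omega)
      have hc' : ∀ a : V, a ∈ LinearMap.range e → a ≠ 0 → a = (c : V) := by
        intro a ha ha0
        obtain ⟨z, hz⟩ := hc ⟨a, ha⟩
        have hz' : z • (c : V) = a := congrArg Subtype.val hz
        rcases (show ∀ z : ZMod 2, z = 0 ∨ z = 1 by decide) z with e0 | e0
        · rw [e0, zero_smul] at hz'; exact absurd hz'.symm ha0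
        · rw [e0, one_smul] at hz'; exact hz'.symm
      rw [hc' w (LinearMap.mem_range_self _ _) hw0] at hmem' ⊢
      exact hc' _ hmem' fun e0 => hw0 (by
        rw [← hc' w (LinearMap.mem_range_self _ _) hw0] at e0
        exact units_apply_injective _ (e0.trans (map_zero _).symm))
    show (g₀ : End2) ((k : End2) w) = (k : End2) w
    rw [show (g₀ : End2) ((k : End2) w) = ((g₀ * k : (End2)ˣ) : End2) w from rfl,
      show g₀ * k = k * (k⁻¹ * g₀ * k) by group, units_mul_apply, hfix]
  -- `τ` fixes every conjugate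
  have hτfixO : ∀ x ∈ O, cj τ x = x := by
    intro x hx
    by_contra hne
    let xs : ℕ → End2 := fun i => cj (τ ^ i) x
    have hxsO : ∀ i, xs i ∈ O := fun i => hOperm _ (pow_mem hτΓ i) x hx
    have hxs_inj : ∀ i j, i ≤ j → j < l → xs i = xs j → i = j := by
      intro i j hij hj he'
      by_contra hij'
      have h1 : cj (τ ^ (j - i)) x = x := hcj_inj (τ ^ i) (by
        rw [← hcj_mul, ← pow_add, Nat.add_sub_cancel' hij]; exact he'.symm)
      obtain ⟨a, ha⟩ := exists_pow_eq_self_of_coprime (x := τ) (n := j - i) (by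
        rw [hτl]
        exact (Nat.coprime_comm.1 (hl.coprime_iff_not_dvd.2 fun hd' => by
          have := Nat.le_of_dvd (by omega) hd'; omega)))
      refine hne ?_
      have h2 : ∀ a, cj ((τ ^ (j - i)) ^ a) x = x := by
        intro a
        induction a with
        | zero => rw [pow_zero, hcj_one]
        | succ a ih => rw [pow_succ, hcj_mul, h1, ih]
      exact ha ▸ h2 a
    -- the fixed points meet the sum of `l - 1` of the ranges trivially
    obtain ⟨g, hg, rfl⟩ := (hOmem x).1 hx
    let Φ : ((Fin (l - 1) → LinearMap.range e) × B) →ₗ[ZMod 2] V :=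
      (∑ i : Fin (l - 1), (((τ ^ (i : ℕ) * g : (End2)ˣ) : End2).comp
        ((LinearMap.range e).subtype.comp (LinearMap.proj i)))).coprod B.subtype
    have hΦ : ∀ p, Φ p = ∑ i : Fin (l - 1), ((τ ^ (i : ℕ) * g : (End2)ˣ) : End2) (p.1 i : V) +
        (p.2 : V) := fun p => by
      simp [Φ, LinearMap.coprod_apply, LinearMap.sum_apply]
    have hxs_app : ∀ (i : ℕ) (w : LinearMap.range e),
        ((τ ^ i * g : (End2)ˣ) : End2) (w : V) = xs i (((τ ^ i * g : (End2)ˣ) : End2) (w : V)) := by
      intro i w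
      obtain ⟨w0, hw0⟩ := w.2
      show _ = cj (τ ^ i) (cj g e) _
      rw [← hcj_mul, hcj_app, ← hw0, hidem e heO]
    have hinj : Function.Injective Φ := by
      rw [injective_iff_map_eq_zero]
      rintro ⟨w, b⟩ hp
      rw [hΦ] at hp
      simp only at hp
      have hterm : ∀ j, j < l → ∀ i : Fin (l - 1), (i : ℕ) ≠ j →
          xs j (((τ ^ (i : ℕ) * g : (End2)ˣ) : End2) (w i : V)) = 0 := by
        intro j hj i hij
        rw [hxs_app]
        refine happ _ (hxsO j) _ (hxsO i) (fun e' => hij ?_) _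
        rcases le_or_gt (i : ℕ) j with hle | hgt
        · exact hxs_inj _ _ hle hj e'.symm
        · exact (hxs_inj _ _ hgt.le (by have := i.isLt; omega) e').symm
      have hlast : xs (l - 1) (b : V) = 0 := by
        have := congrArg (xs (l - 1)) hp
        rwa [map_add, map_sum, map_zero, Finset.sum_eq_zero (fun i _ =>
          hterm (l - 1) (by have := hl.two_le; omega) i (by have := i.isLt; omega)), zero_add] at this
      have hb_all : ∀ j, xs j (b : V) = 0 := by
        intro j
        have h0 : cj g e (b : V) = 0 := by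
          have hb := pow_apply_of_fixed (hτB _ b.2) (l - 1)
          have : xs (l - 1) (((τ ^ (l - 1) : (End2)ˣ) : End2) (b : V)) = 0 := by rw [hb]; exact hlast
          rw [hcj_app] at this
          exact units_apply_injective _ (this.trans (map_zero _).symm)
        have hb := pow_apply_of_fixed (hτB _ b.2) j
        rw [← hb, hcj_app, h0, map_zero]
      have hw : ∀ i, w i = 0 := by
        intro i
        have := congrArg (xs i) hp
        rw [map_add, map_sum, map_zero, hb_all, add_zero,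
          Finset.sum_eq_single i (fun j _ hji => hterm i (by have := i.isLt; omega) j
            (fun e' => hji (Fin.ext e'))) (fun hn => absurd (Finset.mem_univ i) hn),
          ← hxs_app] at this
        exact Subtype.ext (units_apply_injective _ (this.trans (map_zero _).symm))
      have hb : b = 0 := by
        refine Subtype.ext ?_
        simpa [hw] using hp
      exact Prod.ext (funext hw) hb
    have hle := LinearMap.finrank_le_finrank_of_injective hinj
    rw [finrank_prod, finrank_pi_fintype, Finset.sum_const, Finset.card_univ, Fintype.card_fin,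
      smul_eq_mul, ← h.finrank_add] at hle
    have : (l - 1) * 2 ≤ (l - 1) * finrank (ZMod 2) (LinearMap.range e) := Nat.mul_le_mul_left _ hd2
    have := hl.two_le
    omega
  -- `U` lies in one range
  have hOU : ∀ x ∈ O, ∀ u ∈ U, x u ∈ U := by
    intro x hx u hu
    -- `x u` is a commutator with `τ`
    have hcomm : ∀ v, (τ : End2) (x v) = x ((τ : End2) v) := fun v => by
      conv_rhs => rw [← hτfixO x hx, hcj_app]
    obtain ⟨a, ha, b, hb, hab⟩ := Submodule.mem_sup.1
      ((h.compl.sup_eq_top).ge (Submodule.mem_top : x u ∈ (⊤ : Submodule (ZMod 2) V)))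
    -- `u` is the image of some element under `τ - 1`
    let f : U →ₗ[ZMod 2] U := ((τ : End2) - 1).restrict fun v hv => by
      rw [LinearMap.sub_apply, Module.End.one_apply]
      exact sub_mem (hτU v hv) hv
    have hfinj : Function.Injective f := by
      rw [injective_iff_map_eq_zero]
      intro v hv
      have hv' : (τ : End2) (v : V) - (v : V) = 0 := congrArg Subtype.val hv
      have hvB := hτfix _ (sub_eq_zero.1 hv')
      exact Subtype.ext ((Submodule.disjoint_def.1 h.compl.disjoint) _ v.2 hvB)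
    obtain ⟨v, hv⟩ := (LinearMap.injective_iff_surjective.1 hfinj) ⟨u, hu⟩
    have hv' : (τ : End2) (v : V) - (v : V) = u := congrArg Subtype.val hv
    obtain ⟨a', ha', b', hb', hab'⟩ := Submodule.mem_sup.1
      ((h.compl.sup_eq_top).ge (Submodule.mem_top : x v ∈ (⊤ : Submodule (ZMod 2) V)))
    have : x u = (τ : End2) a' - a' := by
      rw [← hv', map_sub, ← hcomm, ← hab', map_add, hτB b' hb']
      abel
    rw [this]
    exact sub_mem (hτU a' ha') ha'
  let P : Finset (End2) := O.filter fun x => U ⊓ LinearMap.range x ≠ ⊥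
  have hPle : ∀ x ∈ P, m ≤ finrank (ZMod 2) (U ⊓ LinearMap.range x : Submodule (ZMod 2) V) := by
    intro x hx
    obtain ⟨hxO, hxne⟩ := Finset.mem_filter.1 hx
    refine Nat.le_of_dvd (Submodule.one_le_finrank_iff.2 hxne) (dvd_finrank_of_fpf hl hlm
      (hτl ▸ pow_orderOf_eq_one τ) (fun v hv => ⟨hτU v hv.1, ?_⟩) fun v hv hfv =>
        (Submodule.disjoint_def.1 h.compl.disjoint) _ hv.1 (hτfix v hfv))
    obtain ⟨w, rfl⟩ := hv.2
    exact ⟨(τ : End2) w, by rw [← hcj_app, hτfixO x hxO]⟩
  have hP2 : P.card ≤ 2 := by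
    let Ψ : ((x : P) → (U ⊓ LinearMap.range (x : End2) : Submodule (ZMod 2) V)) →ₗ[ZMod 2] U :=
      ∑ x : P, (Submodule.inclusion (inf_le_left : U ⊓ LinearMap.range (x : End2) ≤ U)).comp
        (LinearMap.proj x)
    have hinj : Function.Injective Ψ := by
      rw [injective_iff_map_eq_zero]
      intro w hw
      funext x
      have h0 : ∑ y : P, ((w y : V)) = 0 := by
        have := congrArg Subtype.val hw
        simpa [Ψ, LinearMap.sum_apply] using this
      have h1 := congrArg (x : End2) h0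
      rw [map_sum, map_zero, Finset.sum_eq_single x (fun y _ hyx => by
          obtain ⟨z, hz⟩ := (w y).2.2
          rw [← hz]
          exact happ _ (Finset.mem_filter.1 x.2).1 _ (Finset.mem_filter.1 y.2).1
            (fun e' => hyx (Subtype.ext e'.symm)) z) (fun hn => absurd (Finset.mem_univ x) hn)] at h1
      obtain ⟨z, hz⟩ := (w x).2.2
      rw [← hz, hidem _ (Finset.mem_filter.1 x.2).1, hz] at h1
      exact Subtype.ext h1
    have hle := LinearMap.finrank_le_finrank_of_injective hinj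
    rw [finrank_pi_fintype] at hle
    have : P.card * m ≤ finrank (ZMod 2) U := by
      refine le_trans ?_ hle
      calc P.card * m = ∑ _x : P, m := by simp
        _ ≤ _ := Finset.sum_le_sum fun x _ => hPle x x.2
    rcases hm with rfl | ⟨h6, -, rfl⟩
    · by_contra hP
      have : 3 * finrank (ZMod 2) U ≤ P.card * finrank (ZMod 2) U := Nat.mul_le_mul_right _ (by omega)
      have := h.two_le
      omega
    · omega
  obtain ⟨u, hu, hu0⟩ := h.exists_ne_zero
  obtain ⟨x, hxO, hxu⟩ : ∃ x ∈ O, x u ≠ 0 := by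
    by_contra hc
    push Not at hc
    exact hu0 (by rw [← hsum u]; exact Finset.sum_eq_zero hc)
  have hxP : x ∈ P := Finset.mem_filter.2 ⟨hxO, fun e0 => hxu (by
    have : x u ∈ U ⊓ LinearMap.range x := ⟨hOU x hxO u hu, LinearMap.mem_range_self x u⟩
    rwa [e0, Submodule.mem_bot] at this)⟩
  have hστ : Commute σ τ := by
    obtain ⟨i, rfl⟩ := hτσ
    exact Commute.self_zpow σ i
  have hσP : ∀ y ∈ P, cj σ y ∈ P := by
    intro y hy
    obtain ⟨hyO, hyne⟩ := Finset.mem_filter.1 hy
    refine Finset.mem_filter.2 ⟨hOperm σ h.mem y hyO, fun e0 => hyne ?_⟩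
    rw [Submodule.eq_bot_iff]
    rintro v ⟨hv, w, rfl⟩
    have : (σ : End2) (y w) ∈ U ⊓ LinearMap.range (cj σ y) :=
      ⟨h.inv _ hv, ⟨(σ : End2) w, hcj_app σ y w⟩⟩
    rw [e0, Submodule.mem_bot] at this
    exact units_apply_injective σ (this.trans (map_zero _).symm)
  have hσx : cj σ x = x := by
    by_contra hne
    have h2 : cj σ (cj σ x) = x := by
      have hsub : ({x, cj σ x} : Finset (End2)) = P := Finset.eq_of_subset_of_card_le
        (by
          intro y hy
          simp only [Finset.mem_insert, Finset.mem_singleton] at hy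
          rcases hy with rfl | rfl
          · exact hxP
          · exact hσP x hxP)
        (by rw [Finset.card_pair (Ne.symm hne)]; exact hP2)
      have hmem := hσP _ (hσP x hxP)
      rw [← hsub, Finset.mem_insert, Finset.mem_singleton] at hmem
      rcases hmem with e' | e'
      · exact e'
      · exact absurd (hcj_inj σ e') hne
    obtain ⟨c, hc⟩ : Odd (orderOf σ) := by
      have : (⟨σ, h.mem⟩ : Γ) ^ Nat.card Γ = 1 := pow_card_eq_one'
      exact h.odd.of_dvd_nat (orderOf_dvd_of_pow_eq_one (congrArg Subtype.val this))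
    refine hne ?_
    have h3 : ∀ i, cj (σ ^ (2 * i)) x = x := by
      intro i
      induction i with
      | zero => rw [mul_zero, pow_zero, hcj_one]
      | succ i ih => rw [mul_add, mul_one, pow_add, hcj_mul, pow_two, hcj_mul, h2, ih]
    calc cj σ x = cj σ (cj (σ ^ (2 * c)) x) := by rw [h3]
      _ = x := by rw [← hcj_mul, ← pow_succ', ← hc, pow_orderOf_eq_one, hcj_one]
  -- `U` is inside the range
  have hUle : U ≤ LinearMap.range x := by
    intro v hv
    by_cases hv0 : v = 0
    · rw [hv0]; exact zero_mem _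
    obtain ⟨j, hj⟩ := h.trans _ (hOU x hxO u hu) hxu v hv hv0
    rw [← hj]
    refine ⟨((σ ^ j : (End2)ˣ) : End2) u, ?_⟩
    have : cj (σ ^ j) x = x := by
      clear hj
      induction j with
      | zero => rw [pow_zero, hcj_one]
      | succ j ih => rw [pow_succ, hcj_mul, hσx, ih]
    rw [← hcj_app (σ ^ j), this]
  -- three ranges
  have hO3 : 3 ≤ O.card := by
    have hodd : Odd O.card := by
      letI act : MulAction Γ O :=
        { smul := fun g x => ⟨cj g x, hOperm g g.2 x x.2⟩
          one_smul := fun x => Subtype.ext (hcj_one x)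
          mul_smul := fun g k x => Subtype.ext (hcj_mul g k x) }
      haveI : MulAction.IsPretransitive Γ O := ⟨fun x y => by
        obtain ⟨g, hg, hgx⟩ := (hOmem x).1 x.2
        obtain ⟨k, hk, hky⟩ := (hOmem y).1 y.2
        refine ⟨⟨k * g⁻¹, mul_mem hk (inv_mem hg)⟩, Subtype.ext ?_⟩
        show cj (k * g⁻¹) x = y
        rw [← hgx, ← hcj_mul, inv_mul_cancel_right, hky]⟩
      have := MulAction.index_stabilizer_of_transitive Γ (⟨e, heO⟩ : O)
      rw [Nat.card_eq_fintype_card, Fintype.card_coe] at this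
      rw [← this]
      exact h.odd.of_dvd_nat (Subgroup.index_dvd_card _)
    by_contra hc
    have h1 : O.card = 1 := by rcases hodd with ⟨i, hi⟩; omega
    obtain ⟨y, hy⟩ := Finset.card_eq_one.1 h1
    refine he1 (LinearMap.ext fun v => ?_)
    have := hsum v
    rw [hy] at this heO
    rw [Finset.mem_singleton] at heO
    simpa [← heO] using this
  -- the dimension count
  have hdim : ∀ y ∈ O, finrank (ZMod 2) (LinearMap.range y) = d := by
    intro y hy
    obtain ⟨g, hg, rfl⟩ := (hOmem y).1 hy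
    let E : V ≃ₗ[ZMod 2] V := LinearEquiv.ofBijective (g : End2)
      ⟨units_apply_injective g, fun v => ⟨_, units_apply_inv_apply g v⟩⟩
    have : LinearMap.range (cj g e) = (LinearMap.range e).map (E : V →ₗ[ZMod 2] V) := by
      ext v
      constructor
      · rintro ⟨w, rfl⟩
        exact ⟨e (((g⁻¹ : (End2)ˣ) : End2) w), LinearMap.mem_range_self _ _, rfl⟩
      · rintro ⟨_, ⟨w, rfl⟩, rfl⟩
        exact ⟨(g : End2) w, hcj_app g e w⟩
    rw [this]
    exact LinearEquiv.finrank_map_eq E _
  have hbig : O.card * d ≤ finrank (ZMod 2) V := by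
    let Ψ : ((y : O) → LinearMap.range (y : End2)) →ₗ[ZMod 2] V :=
      ∑ y : O, (LinearMap.range (y : End2)).subtype.comp (LinearMap.proj y)
    have hinj : Function.Injective Ψ := by
      rw [injective_iff_map_eq_zero]
      intro w hw
      funext y
      have h0 : ∑ z : O, ((w z : V)) = 0 := by simpa [Ψ, LinearMap.sum_apply] using hw
      have h1 := congrArg (y : End2) h0
      rw [map_sum, map_zero, Finset.sum_eq_single y (fun z _ hzy => by
          obtain ⟨t, ht⟩ := (w z).2
          rw [← ht]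
          exact happ _ y.2 _ z.2 (fun e' => hzy (Subtype.ext e'.symm)) t)
        (fun hn => absurd (Finset.mem_univ y) hn)] at h1
      obtain ⟨t, ht⟩ := (w y).2
      rw [← ht, hidem _ y.2, ht] at h1
      exact Subtype.ext h1
    have hle := LinearMap.finrank_le_finrank_of_injective hinj
    rw [finrank_pi_fintype] at hle
    calc O.card * d = ∑ _y : O, d := by simp
      _ = _ := Finset.sum_congr rfl fun y _ => (hdim y y.2).symm
      _ ≤ _ := hle
  have hnd : finrank (ZMod 2) U ≤ d := hdim x hxO ▸ Submodule.finrank_mono hUle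
  have : 3 * d ≤ O.card * d := Nat.mul_le_mul_right _ hO3
  omega

/-- The algebra of a non-trivial normal abelian subgroup is a field. -/
theorem inv_of_ne_zero (h : Singer Γ U B σ)
    (hr : finrank (ZMod 2) V ≤ 2 * finrank (ZMod 2) U) {M : Subgroup (End2)ˣ} (hMΓ : M ≤ Γ)
    (hM : ∀ a ∈ M, ∀ b ∈ M, a * b = b * a) (hMn : ∀ g ∈ Γ, ∀ m ∈ M, g * m * g⁻¹ ∈ M) (hM1 : M ≠ ⊥)
    {x : End2} (hx : x ∈ adjoinUnits M) (hx0 : x ≠ 0) :
    ∃ y ∈ adjoinUnits M, x * y = 1 := by
  classical
  haveI : Finite (End2) := Finite.of_injective _ DFunLike.coe_injective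
  haveI : Nontrivial V := Module.nontrivial_of_finrank_pos (R := ZMod 2)
    (by have := h.finrank_add; have := h.two_le; omega)
  have hModd : Odd (Nat.card M) := h.odd.of_dvd_nat (Subgroup.card_dvd_of_le hMΓ)
  obtain ⟨K, hK, hfrob⟩ := exists_pow_two_pow hM hModd
  obtain ⟨N, hN⟩ : ∃ N, 2 ^ K = N + 1 + 1 := ⟨2 ^ K - 2, by omega⟩
  refine ⟨x ^ N, pow_mem hx N, ?_⟩
  set z := x ^ (N + 1)
  have hzx : z * x = x := by rw [← pow_succ, ← hN]; exact hfrob x hx
  have hzz : z * z = z := by
    show z * x ^ (N + 1) = x ^ (N + 1)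
    rw [pow_succ', ← mul_assoc, hzx]
  rw [← pow_succ']
  show z = 1
  by_contra hz1
  have hz0 : z ≠ 0 := fun e0 => hx0 (by rw [← hzx, e0, zero_mul])
  -- a minimal idempotent
  obtain ⟨e, ⟨he, hee, he0, he1⟩, hmin⟩ := Set.exists_min_image
    {e | e ∈ adjoinUnits M ∧ e * e = e ∧ e ≠ 0 ∧ e ≠ 1}
    (fun e => finrank (ZMod 2) (LinearMap.range e)) (Set.toFinite _)
    ⟨z, pow_mem hx _, hzz, hz0, hz1⟩
  refine absurd (h.two_mul_lt_of_atom hM hMn hM1 he hee he0 he1 fun y hy hyy => ?_) (by omega)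
  by_cases hy0 : y * e = 0
  · exact Or.inl hy0
  refine Or.inr ?_
  have hcomm := commute_of_mem_adjoinUnits hM hy he
  have hye : y * e * (y * e) = y * e := by
    rw [mul_assoc, ← mul_assoc e, ← hcomm.eq, mul_assoc y e e, hee, ← mul_assoc, hyy]
  have hye1 : y * e ≠ 1 := fun e1 => he1 (by
    rw [← one_mul e, ← e1, mul_assoc, hee, e1])
  have hle : LinearMap.range (y * e) ≤ LinearMap.range e := by
    rw [hcomm.eq]; exact LinearMap.range_comp_le_range y e
  have heq := Submodule.eq_of_le_of_finrank_le hle (hmin _ ⟨mul_mem hy he, hye, hy0, hye1⟩)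
  refine LinearMap.ext fun v => ?_
  obtain ⟨w, hw⟩ := heq.ge (LinearMap.mem_range_self e v)
  have hy' : ∀ v, y (e v) = e v → (y * e) v = e v := fun v hv => hv
  refine hy' v ?_
  rw [← hw, ← Module.End.mul_apply, ← mul_assoc, hyy]

/-- `τ` acts linearly over the field of a normal abelian subgroup. -/
theorem commute_tau (h : Singer Γ U B σ)
    (hr : finrank (ZMod 2) V ≤ 2 * finrank (ZMod 2) U) (h4 : 4 ≤ finrank (ZMod 2) V)
    {M : Subgroup (End2)ˣ} (hMΓ : M ≤ Γ) (hM : ∀ a ∈ M, ∀ b ∈ M, a * b = b * a)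
    (hMn : ∀ g ∈ Γ, ∀ m ∈ M, g * m * g⁻¹ ∈ M) (hM1 : M ≠ ⊥)
    {l : ℕ} (hl : l.Prime) (hnl : finrank (ZMod 2) U < l) {τ : (End2)ˣ} (hτΓ : τ ∈ Γ)
    (hτl : orderOf τ = l) (hτB : ∀ b ∈ B, (τ : End2) b = b) {x : End2}
    (hx : x ∈ adjoinUnits M) : Commute (τ : End2) x := by
  classical
  haveI : Finite (End2) := Finite.of_injective _ DFunLike.coe_injective
  haveI : Nontrivial V := Module.nontrivial_of_finrank_pos (R := ZMod 2) (by omega)
  let R := adjoinUnits M
  have hinv : ∀ {y : End2}, y ∈ R → y ≠ 0 → ∃ z ∈ R, y * z = 1 := fun hy hy0 =>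
    h.inv_of_ne_zero hr hMΓ hM hMn hM1 hy hy0
  have hfield : IsField R := by
    refine ⟨⟨0, 1, fun e => ?_⟩, fun a b => Subtype.ext (commute_of_mem_adjoinUnits hM a.2 b.2).eq,
      fun {a} ha => ?_⟩
    · obtain ⟨v, hv⟩ := exists_ne (0 : V)
      exact hv (LinearMap.congr_fun (congrArg Subtype.val e) v).symm
    · obtain ⟨z, hz, hz1⟩ := hinv a.2 fun e => ha (Subtype.ext e)
      exact ⟨⟨z, hz⟩, Subtype.ext hz1⟩
  letI : Field R := hfield.toField
  let cr : (End2)ˣ → R → R := fun g y => if hg : g ∈ Γ then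
    ⟨(g : End2) * (y : End2) * ((g⁻¹ : (End2)ˣ) : End2), conj_mem_adjoinUnits (hMn g hg) y.2⟩ else 0
  by_contra hne
  let θ : R := ⟨x, hx⟩
  let th : ℕ → R := fun j => cr (τ ^ j) θ
  have hth : ∀ j, ((th j : R) : End2) =
      ((τ ^ j : (End2)ˣ) : End2) * x * (((τ ^ j)⁻¹ : (End2)ˣ) : End2) := fun j => by
    simp only [th, cr, dif_pos (pow_mem hτΓ j)]
    rfl
  have hth_inj : ∀ i j, i ≤ j → j < l → th i = th j → i = j := by
    intro i j hij hj he
    by_contra hij'
    have he' := congrArg Subtype.val he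
    rw [hth, hth, show τ ^ j = τ ^ i * τ ^ (j - i) by rw [← pow_add, Nat.add_sub_cancel' hij]] at he'
    simp only [mul_inv_rev, Units.val_mul, mul_assoc] at he'
    have h1 : x = ((τ ^ (j - i) : (End2)ˣ) : End2) * x * (((τ ^ (j - i))⁻¹ : (End2)ˣ) : End2) := by
      have := congrArg (fun y => (((τ ^ i)⁻¹ : (End2)ˣ) : End2) * y * ((τ ^ i : (End2)ˣ) : End2)) he'
      simp only [mul_assoc] at this
      rw [← mul_assoc ((((τ ^ i)⁻¹ : (End2)ˣ) : End2)) ((τ ^ i : (End2)ˣ) : End2), ← Units.val_mul,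
        inv_mul_cancel, Units.val_one, one_mul] at this
      rw [← mul_assoc ((((τ ^ i)⁻¹ : (End2)ˣ) : End2)) ((τ ^ i : (End2)ˣ) : End2), ← Units.val_mul,
        inv_mul_cancel, Units.val_one, one_mul] at this
      rw [mul_assoc]
      exact this
    have hc : Commute ((τ ^ (j - i) : (End2)ˣ) : End2) x := by
      show _ = _
      conv_rhs => rw [h1]
      rw [mul_assoc, ← Units.val_mul, inv_mul_cancel, Units.val_one, mul_one]
    obtain ⟨a, ha⟩ := exists_pow_eq_self_of_coprime (x := τ) (n := j - i) (by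
      rw [hτl]
      exact (Nat.coprime_comm.1 (hl.coprime_iff_not_dvd.2 fun hd' => by
        have := Nat.le_of_dvd (by omega) hd'; omega)))
    refine hne ?_
    rw [← ha, Units.val_pow_eq_pow_val]
    exact hc.pow_left a
  -- independence of the fixed points
  let Φ : (Fin l → B) →ₗ[ZMod 2] V :=
    ∑ i : Fin l, ((x ^ (i : ℕ) : End2).comp (B.subtype.comp (LinearMap.proj i)))
  have hΦ : ∀ f, Φ f = ∑ i : Fin l, (x ^ (i : ℕ) : End2) (f i : V) := fun f => by
    simp [Φ, LinearMap.sum_apply]
  have hinj : Function.Injective Φ := by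
    rw [injective_iff_map_eq_zero]
    intro f hf
    rw [hΦ] at hf
    have hj : ∀ j : Fin l, ∑ i : Fin l, ((th j ^ (i : ℕ) : R) : End2) (f i : V) = 0 := by
      intro j
      have := congrArg (((τ ^ (j : ℕ) : (End2)ˣ) : End2)) hf
      rw [map_sum, map_zero] at this
      refine Eq.trans (Finset.sum_congr rfl fun i _ => ?_) this
      rw [SubmonoidClass.coe_pow, hth, Units.conj_pow, Module.End.mul_apply, Module.End.mul_apply]
      congr 1
      conv_lhs => rw [← pow_apply_of_fixed (hτB _ (f i).2) (j : ℕ), units_inv_apply_apply]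
    let Vd : Matrix (Fin l) (Fin l) R := Matrix.vandermonde fun j => th j
    have hdet : Vd.det ≠ 0 := Matrix.det_vandermonde_ne_zero_iff.2 fun i j e => by
      rcases le_total (i : ℕ) j with hle | hle
      · exact Fin.ext (hth_inj _ _ hle j.isLt e)
      · exact (Fin.ext (hth_inj _ _ hle i.isLt e.symm)).symm
    have hN : Vd⁻¹ * Vd = 1 := Matrix.nonsing_inv_mul Vd (isUnit_iff_ne_zero.2 hdet)
    funext m
    refine Subtype.ext ?_
    have key : ∑ j : Fin l, ((Vd⁻¹ m j : R) : End2)
        (∑ i : Fin l, ((th j ^ (i : ℕ) : R) : End2) (f i : V)) = 0 :=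
      Finset.sum_eq_zero fun j _ => by rw [hj j, map_zero]
    simp only [map_sum] at key
    rw [Finset.sum_comm] at key
    have hterm : ∀ i : Fin l, ∑ j : Fin l, ((Vd⁻¹ m j : R) : End2)
        (((th j ^ (i : ℕ) : R) : End2) (f i : V)) = (((1 : Matrix (Fin l) (Fin l) R) m i : R) : End2)
        (f i : V) := by
      intro i
      rw [← hN, Matrix.mul_apply, AddSubmonoidClass.coe_finsetSum, LinearMap.sum_apply]
      exact Finset.sum_congr rfl fun j _ => rfl
    rw [Finset.sum_congr rfl fun i _ => hterm i, Finset.sum_eq_single m (fun i _ hi => by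
      rw [Matrix.one_apply_ne (Ne.symm hi)]; rfl) (fun hn => absurd (Finset.mem_univ m) hn),
      Matrix.one_apply_eq] at key
    exact key
  have hle := LinearMap.finrank_le_finrank_of_injective hinj
  rw [finrank_pi_fintype, Finset.sum_const, Finset.card_univ, Fintype.card_fin, smul_eq_mul] at hle
  set n := finrank (ZMod 2) U
  set b := finrank (ZMod 2) B
  have hb1 : 1 ≤ b := h.one_le_finrank_B
  have hr' : n + b = finrank (ZMod 2) V := h.finrank_add
  have hb : b = 1 := by
    by_contra hb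
    have : n * b < l * b := Nat.mul_lt_mul_of_pos_right hnl (by omega)
    have : n * 2 ≤ n * b := Nat.mul_le_mul_left _ (by omega)
    omega
  have hrl : finrank (ZMod 2) V = l := by
    rw [hb] at hle hr'
    omega
  -- `V` is a line over the field
  obtain ⟨b0, hb0, hb0ne⟩ := (Submodule.ne_bot_iff B).1 h.fixB
  let ev : R →ₗ[ZMod 2] V := (LinearMap.applyₗ b0).comp (Subalgebra.toSubmodule R).subtype
  have hev : ∀ y : R, ev y = (y : End2) b0 := fun y => rfl
  have hevinj : Function.Injective ev := by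
    rw [injective_iff_map_eq_zero]
    intro y hy
    by_contra hy0
    obtain ⟨z, hz, hz1⟩ := hinv y.2 fun e => hy0 (Subtype.ext e)
    refine hb0ne ?_
    have := LinearMap.congr_fun ((commute_of_mem_adjoinUnits hM hz y.2).eq.trans hz1) b0
    rw [Module.End.mul_apply, show (y : End2) b0 = 0 from hy, map_zero] at this
    exact this.symm
  haveI : Finite R := Subtype.finite
  have hRf : finrank (ZMod 2) R ∣ finrank (ZMod 2) V := by
    letI : Module R V := Module.compHom V (R.val.toRingHom : R →+* End2)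
    haveI : IsScalarTower (ZMod 2) R V := ⟨fun c y v => rfl⟩
    exact ⟨finrank R V, (Module.finrank_mul_finrank (ZMod 2) R V).symm⟩
  have hRl : finrank (ZMod 2) R = l := by
    rcases (Nat.dvd_prime hl).1 (hrl ▸ hRf) with h1 | h1
    · exfalso
      refine hne ?_
      obtain ⟨c, hc⟩ := (finrank_eq_one_iff_of_nonzero' (1 : R) one_ne_zero).1 h1 θ
      have hc' : c • (1 : End2) = x := congrArg Subtype.val hc
      rw [← hc']
      exact (Commute.one_right _).smul_right c
    · exact h1
  have hevsurj : Function.Surjective ev :=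
    (LinearMap.injective_iff_surjective_of_finrank_eq_finrank (hRl.trans hrl.symm)).1 hevinj
  -- powers of `σ` are determined by their action on the field
  let ψ : (k : Fin (orderOf σ)) → R ≃+* R := fun k =>
    { toFun := fun y => ⟨((σ ^ (k : ℕ) : (End2)ˣ) : End2) * (y : End2) *
          (((σ ^ (k : ℕ))⁻¹ : (End2)ˣ) : End2), conj_mem_adjoinUnits (hMn _ (pow_mem h.mem _)) y.2⟩
      invFun := fun y => ⟨(((σ ^ (k : ℕ))⁻¹ : (End2)ˣ) : End2) * (y : End2) *
          ((σ ^ (k : ℕ) : (End2)ˣ) : End2), by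
          have := conj_mem_adjoinUnits (hMn _ (inv_mem (pow_mem h.mem (k : ℕ)))) y.2
          rwa [inv_inv] at this⟩
      left_inv := fun y => Subtype.ext (by
        simp only [mul_assoc, Units.inv_mul_cancel_left, Units.inv_mul, mul_one])
      right_inv := fun y => Subtype.ext (by
        simp only [mul_assoc, Units.mul_inv_cancel_left, Units.mul_inv, mul_one])
      map_mul' := fun y z => Subtype.ext (by
        simp only [MulMemClass.coe_mul, mul_assoc, Units.inv_mul_cancel_left])
      map_add' := fun y z => Subtype.ext (by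
        simp only [AddMemClass.coe_add, mul_add, add_mul]) }
  have hψ : Function.Injective ψ := by
    intro i j hij
    have hs : σ ^ (i : ℕ) = σ ^ (j : ℕ) := by
      refine Units.ext (LinearMap.ext fun v => ?_)
      obtain ⟨y, rfl⟩ := hevsurj v
      have := congrArg Subtype.val (RingEquiv.congr_fun hij y)
      have h' := LinearMap.congr_fun this b0
      have hbi : ∀ k, (((σ ^ k)⁻¹ : (End2)ˣ) : End2) b0 = b0 := fun k => by
        conv_lhs => rw [← h.pow_apply_fix k b0 hb0, units_inv_apply_apply]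
      change ((σ ^ (i : ℕ) : (End2)ˣ) : End2) ((y : End2) ((((σ ^ (i : ℕ))⁻¹ : (End2)ˣ) : End2) b0)) =
        ((σ ^ (j : ℕ) : (End2)ˣ) : End2) ((y : End2) ((((σ ^ (j : ℕ))⁻¹ : (End2)ˣ) : End2) b0)) at h'
      rw [hbi, hbi] at h'
      exact h'
    exact Fin.ext (pow_injOn_Iio_orderOf i.isLt j.isLt hs)
  haveI : CharP R 2 := charP_of_injective_algebraMap (algebraMap (ZMod 2) R).injective 2
  have hcard : Nat.card R = 2 ^ l := by
    rw [Module.natCard_eq_pow_finrank (K := ZMod 2), Nat.card_zmod, hRl]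
  haveI : Fact (Nat.Prime 2) := ⟨Nat.prime_two⟩
  haveI : Finite (R ≃+* R) := Finite.of_injective (fun f => (f : R → R)) DFunLike.coe_injective
  have hk := Nat.card_le_card_of_injective ψ hψ
  rw [Nat.card_fin, RegLinear.card_ringAut hcard, h.orderOf_eq] at hk
  have hn3 : 3 ≤ n := by omega
  have key : ∀ k, 3 ≤ k → k + 2 < 2 ^ k := by
    intro k hk
    induction k, hk using Nat.le_induction with
    | base => norm_num
    | succ k hk ih => rw [pow_succ]; omega
  have := key n hn3
  have : 2 ^ finrank (ZMod 2) U = 2 ^ n := rfl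
  omega

end Singer

end CfsgLib.Walter.Rank
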