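import Cfsg.Agent.Walter.Rank.Block
import Cfsg.Agent.ZCGroup.Embedded
import Cfsg.Agent.SEmbed.Cosets
import Cfsg.Agent.SEmbed.Counting

/-!
# Walter, rank at least four: all centralizers of involutions are solvable

In a `Frame` the centralizers of the involutions of `S` lie in a proper subgroup, which is then
strongly embedded; so `N(S)` is transitive on `S#`, against the pieces.
-/

set_option autoImplicit false
set_option linter.style.haveILetI false
set_option linter.unusedSectionVars false

open Subgroup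
open scoped commutatorElement

namespace CfsgLib.Walter.Rank

universe u

variable {G : Type u} [Group G] [Finite G]

namespace Frame

variable {S : Sylow 2 G} {q : ℕ} (F : Frame S q)
include F

/-- With a trivial closure all centralizers of involutions of `S` lie in a proper subgroup. -/
theorem exists_proper_of_trivial (hW : clo q (S : Subgroup G) = ⊥) :
    ∃ M : Subgroup G, M ≠ ⊤ ∧ normalizer ((S : Subgroup G) : Set G) ≤ M ∧
      ∀ a ∈ (S : Subgroup G), a ≠ 1 → centralizer ({a} : Set G) ≤ M := by
  haveI : Fact (Nat.Prime 2) := ⟨Nat.prime_two⟩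
  haveI := F.hyp.simple
  let ι := {P : Subgroup G × Subgroup G // Piece (S : Subgroup G) q P.1 P.2}
  set Λ := ⨆ P : ι, res P.1.2
  have hle : ∀ {U B : Subgroup G}, Piece (S : Subgroup G) q U B → res B ≤ Λ := fun {U B} hP =>
    le_iSup (fun P : ι => res P.1.2) ⟨(U, B), hP⟩
  obtain ⟨U₀, B₀, hP₀⟩ := F.exists_piece
  have hNS : normalizer ((S : Subgroup G) : Set G) ≤ normalizer (Λ : Set G) := by
    intro n hn
    refine mem_normalizer_iff_map_conj_eq.2 (eq_of_le_of_card_ge ?_
      (card_map_of_injective (MulEquiv.injective _)).ge)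
    rw [Subgroup.map_iSup]
    exact iSup_le fun P => (map_res_le P.1.2 n).trans (hle (F.hyp.piece_conj P.2 hn))
  have hblock : ∀ T ≤ (S : Subgroup G), (∀ {U B : Subgroup G}, Piece (S : Subgroup G) q U B →
      T ⊓ U ≠ ⊥ ∧ 2 ^ balK q ≤ Nat.card ↥(T ⊓ B)) →
      centralizer (T : Set G) ≤ normalizer (Λ : Set G) := by
    intro T hT h c hc
    refine mem_normalizer_iff_map_conj_eq.2 ?_
    rw [Subgroup.map_iSup]
    exact iSup_congr fun P => mem_normalizer_iff_map_conj_eq.1
      (F.centralizer_le_normalizer_block P.2 hW hT (h P.2).1 (h P.2).2 hc)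
  refine ⟨normalizer (Λ : Set G), fun e => ?_, hNS, fun a ha ha1 => ?_⟩
  · haveI : Λ.Normal := normalizer_eq_top_iff.1 e
    have hU : U₀ ≤ res B₀ := F.le_res_piece hP₀
    have hne : res B₀ ≠ ⊥ := fun e' => F.ne_bot hP₀ (le_bot_iff.1 (hU.trans e'.le))
    have htop : Λ = ⊤ := (IsSimpleGroup.eq_bot_or_eq_top_of_normal Λ inferInstance).resolve_left
      fun e' => hne (le_bot_iff.1 ((hle hP₀).trans e'.le))
    have hn : Λ ≤ normalizer (res B₀ : Set G) := iSup_le fun P => by
      by_cases he : U₀ = P.1.1
      · rcases F.pair hP₀ P.2 with ⟨-, e'⟩ | ⟨e', -⟩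
        · rw [← e']
          exact Subgroup.le_normalizer
        · refine absurd (le_bot_iff.1 ?_) (F.ne_bot hP₀)
          rw [← hP₀.disj]
          exact le_inf le_rfl (he.le.trans e')
      · exact le_trans (commutator_eq_bot_iff_le_centralizer.1 ((commutator_comm _ _).trans
          (F.commutator_eq_bot hP₀ hW P.2 he))) (centralizer_le_normalizer _)
    rw [htop, top_le_iff] at hn
    haveI : (res B₀).Normal := normalizer_eq_top_iff.1 hn
    have h1 := F.res_inf hP₀
    rw [(IsSimpleGroup.eq_bot_or_eq_top_of_normal (res B₀) inferInstance).resolve_left hne,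
      inf_top_eq] at h1
    have h2 := F.big
    have h3 := hP₀.card
    rw [← h1] at h3
    rw [h3] at h2
    exact absurd h2 (not_lt.2 (Nat.le_mul_self q))
  · obtain ⟨n, hn2, hqn⟩ := F.exists_pow
    have hk2 : 2 ≤ 2 ^ balK q := Nat.le_self_pow (by have := one_le_balK q; omega) 2
    refine F.hyp.centralizer_le_of_cover ha ha1 hNS (F.hyp.core_le_of_hyperplanes ha F.sq
      fun E hE hc => hblock E hE fun {U B} hP => ⟨fun e => ?_, ?_⟩) fun L hL => ?_
    · -- a hyperplane meets every piece
      have h1 := F.card_mul_le hE hP.leU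
      rw [e, Subgroup.card_bot, mul_one, hP.card] at h1
      have h2 : 4 * Nat.card E ≤ 2 * Nat.card E := calc
        4 * Nat.card E ≤ q * Nat.card E := Nat.mul_le_mul_right _ F.four
        _ = Nat.card E * q := mul_comm _ _
        _ ≤ Nat.card (S : Subgroup G) := h1
        _ ≤ 2 * Nat.card E := hc
      have := Nat.card_pos (α := E)
      omega
    · have h1 := F.card_mul_le hE hP.leB
      have h2 := F.pow_le_card hP
      have h3 : Nat.card (S : Subgroup G) * Nat.card B ≤
          Nat.card (S : Subgroup G) * (2 * Nat.card ↥(E ⊓ B)) := calc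
        _ ≤ 2 * Nat.card E * Nat.card B := Nat.mul_le_mul_right _ hc
        _ ≤ 2 * (Nat.card (S : Subgroup G) * Nat.card ↥(E ⊓ B)) := by
          rw [mul_assoc]; exact Nat.mul_le_mul_left 2 h1
        _ = _ := by ring
      have h4 := h2.trans (Nat.le_of_mul_le_mul_left h3 Nat.card_pos)
      rw [pow_succ] at h4
      omega
    · obtain ⟨M, hM, rfl⟩ := F.hyp.exists_comp ha ha1 hL
      rcases (F.bound S a M ha ha1 hM).eq_or_lt with he | hlt
      · -- the component of a piece
        set B := cenS (S : Subgroup G) a M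
        have hP := F.hyp.piece_of_comp F.bound ha ha1 hM he
        have haB : a ∈ B := F.hyp.mem_cenS_self ha
        obtain ⟨M', hM', hMU, -, heq⟩ := F.exists_comp_res hP haB ha1
        refine le_trans (le_of_eq ?_) (img_mono ((hle hP).trans Subgroup.le_normalizer))
        rw [heq]
        obtain ⟨⟨u, hu⟩, hu1⟩ := Subgroup.ne_bot_iff_exists_ne_one.1 (F.ne_bot hP)
        refine F.hyp.img_eq_of_meet ha ha1 hM.isComponent hM'.isComponent hu.1
          (fun e => hu1 (Subtype.ext e)) (mem_img_of_mem _ hu.2) (mem_img_of_mem _ ?_)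
        exact (hMU.ge hu).2
      · -- a smaller component
        set T := cenS (S : Subgroup G) a M
        have hcm := F.hyp.card_eq_mul ha ha1 hM
        obtain ⟨m, hm⟩ := IsPGroup.iff_card.1
          (S.isPGroup'.to_le (inf_le_left : (S : Subgroup G) ⊓ M ≤ S))
        rw [hm] at hlt hcm
        have h2t : 2 * 2 ^ m ≤ q := by
          rw [hqn] at hlt ⊢
          have := (Nat.pow_lt_pow_iff_right one_lt_two).1 hlt
          rw [← pow_succ']
          exact Nat.pow_le_pow_right two_pos this
        refine (F.hyp.le_img_centralizer (T := T) ha inf_le_left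
          ((img_mono inf_le_right).trans (img_lift a _).le)).trans
            (img_mono (hblock T inf_le_left fun {U B} hP => ?_))
        have hq0 : 0 < q := (show 0 < 4 by norm_num).trans_le F.four
        have hTB : 2 * Nat.card B ≤ Nat.card T := by
          suffices h' : 2 ^ m * (2 * Nat.card B) ≤ 2 ^ m * Nat.card T from
            Nat.le_of_mul_le_mul_left h' (Nat.two_pow_pos m)
          calc 2 ^ m * (2 * Nat.card B) = 2 * 2 ^ m * Nat.card B := by ring
            _ ≤ q * Nat.card B := Nat.mul_le_mul_right _ h2t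
            _ = Nat.card (S : Subgroup G) := F.mul_card hP
            _ = _ := hcm
        have hS := F.mul_card hP
        refine ⟨fun e => ?_, ?_⟩
        · have h1 := F.card_mul_le (X := T) inf_le_left hP.leU
          rw [e, Subgroup.card_bot, mul_one, hP.card, ← hS, mul_comm] at h1
          have h2 := hTB.trans (Nat.le_of_mul_le_mul_left h1 hq0)
          have := Nat.card_pos (α := B)
          omega
        · have h1 := F.card_mul_le (X := T) inf_le_left hP.leB
          have hk : 2 ^ balK q * q ≤ 2 * Nat.card B := by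
            have h2 := F.sq_le hP
            have h3 : 2 ^ balK q ≤ 2 * q := by
              rw [hqn, ← pow_succ']
              refine Nat.pow_le_pow_right two_pos ?_
              unfold balK
              split
              · omega
              · rename_i h
                by_contra hlt3
                exact h (by rw [show n = 2 by omega]; norm_num)
            calc 2 ^ balK q * q ≤ 2 * q * q := Nat.mul_le_mul_right _ h3
              _ = 2 * (q * q) := mul_assoc _ _ _
              _ ≤ _ := Nat.mul_le_mul_left 2 h2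
          suffices h' : Nat.card B * q * 2 ^ balK q ≤ Nat.card B * q * Nat.card ↥(T ⊓ B) from
            Nat.le_of_mul_le_mul_left h' (Nat.mul_pos Nat.card_pos hq0)
          calc Nat.card B * q * 2 ^ balK q = Nat.card B * (2 ^ balK q * q) := by ring
            _ ≤ Nat.card B * (2 * Nat.card B) := Nat.mul_le_mul_left _ hk
            _ ≤ Nat.card B * Nat.card T := Nat.mul_le_mul_left _ hTB
            _ = Nat.card T * Nat.card B := mul_comm _ _
            _ ≤ Nat.card (S : Subgroup G) * Nat.card ↥(T ⊓ B) := h1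
            _ = Nat.card B * q * Nat.card ↥(T ⊓ B) := by rw [← hS, mul_comm q]

theorem false_of_frame : False := by
  haveI : Fact (Nat.Prime 2) := ⟨Nat.prime_two⟩
  haveI := F.hyp.simple
  haveI := F.hyp.comm
  obtain ⟨M, hM, hNM, hCM⟩ : ∃ M : Subgroup G, M ≠ ⊤ ∧
      normalizer ((S : Subgroup G) : Set G) ≤ M ∧
      ∀ a ∈ (S : Subgroup G), a ≠ 1 → centralizer ({a} : Set G) ≤ M := by
    by_cases hW : clo q (S : Subgroup G) = ⊥
    · exact F.exists_proper_of_trivial hW
    · exact F.exists_proper_of_clo hW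
  obtain ⟨U, B, hP⟩ := F.exists_piece
  obtain ⟨U', B', hP', hU', -⟩ := F.exists_other hP
  obtain ⟨⟨u, hu⟩, hu1⟩ := Subgroup.ne_bot_iff_exists_ne_one.1 (F.ne_bot hP)
  obtain ⟨⟨v, hv⟩, hv1⟩ := Subgroup.ne_bot_iff_exists_ne_one.1 (F.ne_bot hP')
  have hu1' : u ≠ 1 := fun e => hu1 (Subtype.ext e)
  have hv1' : v ≠ 1 := fun e => hv1 (Subtype.ext e)
  have huS := hP.leU hu
  have hw : u * v ∈ (S : Subgroup G) := mul_mem huS (hP'.leU hv)
  have hvU : ∀ x ∈ U, x * v ∈ U → False := fun x hx h => hv1' <| mem_bot.1 (hP.disj.le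
    ⟨by simpa using mul_mem (inv_mem hx) h, hU' hv⟩)
  have hw1 : u * v ≠ 1 := fun e => hvU u hu (by rw [e]; exact one_mem _)
  have hord : ∀ x ∈ (S : Subgroup G), x ≠ 1 → orderOf x = 2 := fun x hx hx1 =>
    orderOf_eq_prime (by rw [pow_two]; exact F.sq x hx) hx1
  have hse := ZCGroup.isStronglyEmbedded_of_centralizer hM S
    (fun e => F.ne_bot hP (le_bot_iff.1 (hP.leU.trans e.le))) (Subgroup.le_normalizer.trans hNM)
    (fun t ht ho => hCM t ht fun e => by rw [e, orderOf_one] at ho; omega) hNM
  haveI := SEmbed.nontrivial_cosets hse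
  obtain ⟨g, hg⟩ := isConj_iff.1 (SEmbed.isConj_invol (SEmbed.uniqueFix hse)
    (hord u huS hu1') (hord _ hw hw1))
  obtain ⟨n, hn, hne⟩ := Sylow.conj_eq_normalizer_conj_of_mem S u g⁻¹ huS
    (by rw [inv_inv, hg]; exact hw)
  rw [inv_inv, hg] at hne
  have hn' := inv_mem hn
  have hPn := F.hyp.piece_conj hP hn'
  have hmem : u * v ∈ U.map (MulAut.conj n⁻¹).toMonoidHom := by
    rw [mem_map_conj, hne, show n⁻¹⁻¹ * (n⁻¹ * u * n) * n⁻¹ = u by group]
    exact hu
  rcases F.pair hP hPn with ⟨e, -⟩ | ⟨e, -⟩
  · exact hvU u hu (e.symm ▸ hmem)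
  · refine hu1' (mem_bot.1 (hP.disj.le ⟨hu, ?_⟩))
    simpa using mul_mem (e hmem) (inv_mem (hU' hv))

end Frame

/-- The centralizers of involutions are solvable. -/
theorem Hyp.isSolvable_centralizer {S : Sylow 2 G} (h : Hyp S)
    (h16 : 16 ≤ Nat.card {a : G // a ∈ (S : Subgroup G) ∧ a * a = 1}) {t : G}
    (ht : orderOf t = 2) : Group.IsSolvable (centralizer ({t} : Set G)) := by
  by_contra hns
  obtain ⟨T, q, F⟩ := exists_frame h h16 ht hns
  exact F.false_of_frame

end CfsgLib.Walter.Rank
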