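import Cfsg.Agent.Walter.Rank.Elementary
import Cfsg.Agent.Components.LocalBalance

/-!
# Walter, rank at least four: components of maximal rank

`Bound q`: all the traces of components on Sylow 2-subgroups have order at most `q`.
`Piece S q U B`: `|U| = q`, `S = U × B`, and for every involution `b` of `B` there is a component of
`C(b)/O(C(b))` with trace `U`, centralized exactly by `B`.
`piece_of_comp`: a component of maximal rank gives a piece.
-/

set_option autoImplicit false
set_option linter.style.haveILetI false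
set_option linter.unusedSectionVars false

open Subgroup
open scoped commutatorElement

namespace CfsgLib.Walter.Rank

universe u

variable {G : Type u} [Group G] [Finite G]

/-- All traces of components have order at most `q`. -/
def Bound (G : Type u) [Group G] (q : ℕ) : Prop :=
  ∀ (S : Sylow 2 G) (a : G) (M : Subgroup G), a ∈ (S : Subgroup G) → a ≠ 1 → Comp a M →
    Nat.card ↥((S : Subgroup G) ⊓ M) ≤ q

/-- A maximal trace with its complement. -/
structure Piece (S : Subgroup G) (q : ℕ) (U B : Subgroup G) : Prop where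
  card : Nat.card U = q
  leU : U ≤ S
  leB : B ≤ S
  disj : U ⊓ B = ⊥
  card_mul : Nat.card S = Nat.card U * Nat.card B
  comp : ∀ b ∈ B, b ≠ 1 → ∃ M, Comp b M ∧ S ⊓ M = U ∧ cenS S b M = B

theorem sylow_ne_bot {K : Type u} [Group K] [Finite K] (hK : CompType K) (T : Sylow 2 K) :
    (T : Subgroup K) ≠ ⊥ := fun e => by
  have := CompType.four_le hK T
  rw [e, Subgroup.card_bot] at this
  omega

/-- A perfect subgroup of the layer centralizing all components is trivial. -/
theorem eq_bot_of_layer {X : Type u} [Group X] [Finite X] {M : Subgroup X}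
    (hM : ⁅M, M⁆ = M) (hle : M ≤ Cfsg.layer X)
    (hc : ∀ K : Subgroup X, Cfsg.IsComponent K → M ≤ centralizer (K : Set X)) : M = ⊥ := by
  rw [← hM, commutator_eq_bot_iff_le_centralizer]
  refine le_trans ?_ (centralizer_le (SetLike.coe_subset_coe.2 hle))
  exact le_centralizer_iff.1 (sSup_le fun K hK => le_centralizer_iff.1 (hc K hK))

namespace Hyp

variable {S : Sylow 2 G} (h : Hyp S)
include h

theorem mem_cenS_iff {a c : G} {M : Subgroup G} (ha : a ∈ (S : Subgroup G)) (hM : Comp a M) :
    c ∈ cenS (S : Subgroup G) a M ↔ c ∈ (S : Subgroup G) ∧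
      ∀ m ∈ M, c * m * c⁻¹ * m⁻¹ ∈ Cfsg.centralizerPPrimeCore 2 a := by
  constructor
  · rintro ⟨hcS, hc⟩
    obtain ⟨hcC, hc⟩ := mem_lift.1 hc
    refine ⟨hcS, fun m hm => (proj_eq_one_iff (a := a) (mul_mem (mul_mem (mul_mem hcC (hM.le hm))
      (inv_mem hcC)) (inv_mem (hM.le hm)))).1 ?_⟩
    show proj a (⟨c, hcC⟩ * ⟨m, hM.le hm⟩ * ⟨c, hcC⟩⁻¹ * ⟨m, hM.le hm⟩⁻¹) = 1
    rw [map_mul, map_mul, map_mul, map_inv, map_inv,
      ← mem_centralizer_iff.1 hc _ (mem_img_of_mem (hM.le hm) hm)]
    group
  · rintro ⟨hcS, hc⟩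
    have hcC := h.le_centralizer ha hcS
    refine ⟨hcS, mem_lift.2 ⟨hcC, mem_centralizer_iff.2 fun z hz => ?_⟩⟩
    obtain ⟨m, hm, hmM, rfl⟩ := exists_of_mem_img hz
    have h1 := (proj_eq_one_iff (a := a) (mul_mem (mul_mem (mul_mem hcC hm) (inv_mem hcC))
      (inv_mem hm))).2 (hc m hmM)
    have h2 : proj a ⟨c, hcC⟩ * proj a ⟨m, hm⟩ * (proj a ⟨c, hcC⟩)⁻¹ * (proj a ⟨m, hm⟩)⁻¹ = 1 := by
      simp only [← map_inv, ← map_mul]
      exact h1
    rw [mul_inv_eq_one, mul_inv_eq_iff_eq_mul] at h2
    exact h2.symm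

/-- The image of the centralizer of an element of `S` is the centralizer of its image. -/
theorem map_centralizer_eq {a b : G} (hb : b ∈ (S : Subgroup G))
    (hbC : b ∈ centralizer ({a} : Set G)) :
    centralizer ({proj a ⟨b, hbC⟩} : Set (Top2 a)) =
      img a (centralizer ({a} : Set G) ⊓ centralizer ({b} : Set G)) := by
  haveI : Fact (Nat.Prime 2) := ⟨Nat.prime_two⟩
  have hp : IsPGroup 2 (zpowers (⟨b, hbC⟩ : centralizer ({a} : Set G))) := by
    refine (S.isPGroup'.comap_subtype (K := centralizer ({a} : Set G))).to_le ?_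
    exact zpowers_le.2 hb
  have h1 := PLocal.centralizer_map_mk'_eq (p := 2) (Cfsg.oddCore ↥(centralizer ({a} : Set G)))
    (PLocal.coprime_card_pPrimeCore 2 _) hp
  rw [MonoidHom.map_zpowers, ← Transitivity.centralizer_singleton_eq,
    ← Transitivity.centralizer_singleton_eq] at h1
  rw [h1, img]
  congr 1
  ext x
  simp only [mem_subgroupOf, mem_inf, mem_centralizer_singleton_iff]
  exact ⟨fun hx => ⟨mem_centralizer_singleton_iff.1 x.2, congrArg Subtype.val hx⟩,
    fun hx => Subtype.ext hx.2⟩

variable {q : ℕ} (hq : Bound G q)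

include hq in
/-- A component of maximal rank gives a piece. -/
theorem piece_of_comp {a : G} (ha : a ∈ (S : Subgroup G)) (ha1 : a ≠ 1) {M : Subgroup G}
    (hM : Comp a M) (hcard : Nat.card ↥((S : Subgroup G) ⊓ M) = q) :
    Piece (S : Subgroup G) q ((S : Subgroup G) ⊓ M) (cenS (S : Subgroup G) a M) := by
  classical
  haveI : Fact (Nat.Prime 2) := ⟨Nat.prime_two⟩
  set U := (S : Subgroup G) ⊓ M with hU
  set B := cenS (S : Subgroup G) a M with hB
  refine ⟨hcard, inf_le_left, inf_le_left, h.inf_cenS ha ha1 hM, h.card_eq_mul ha ha1 hM,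
    fun b hb hb1 => ?_⟩
  have hbS : b ∈ (S : Subgroup G) := hb.1
  obtain ⟨hbC, hbc⟩ := mem_lift.1 hb.2
  have haC : a ∈ centralizer ({b} : Set G) := h.le_centralizer hbS ha
  set H := centralizer ({a} : Set G) ⊓ centralizer ({b} : Set G) with hH
  have hHa : H ≤ centralizer ({a} : Set G) := inf_le_left
  have hHb : H ≤ centralizer ({b} : Set G) := inf_le_right
  have hSH : (S : Subgroup G) ≤ H := le_inf (h.le_centralizer ha) (h.le_centralizer hbS)
  have hL := hM.isComponent
  have hX := h.topHyp ha1
  haveI hLs := hX.isSimpleGroup hL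
  -- the part of `M` centralizing `b`
  obtain ⟨Mb, hMbH, hMbs, hMba, hMbi⟩ := exists_atom (a := a) hHa hL.1
    (Components.IsComponent.commutator_eq_self hL) (Components.IsComponent.ne_bot hL)
    (fun N hN hn => by
      haveI : (N.subgroupOf (img a M)).Normal := normal_subgroupOf_of_le_normalizer hn
      rcases IsSimpleGroup.eq_bot_or_eq_top_of_normal _
        (inferInstance : (N.subgroupOf (img a M)).Normal) with e | e
      · exact Or.inl (by rw [← map_subgroupOf_eq_of_le hN, e, Subgroup.map_bot])
      · exact Or.inr (le_antisymm hN (subgroupOf_eq_top.1 e)))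
    (by
      rw [hH, ← h.map_centralizer_eq hbS hbC]
      exact fun z hz => mem_centralizer_singleton_iff.2 (mem_centralizer_iff.1 hbc z hz))
  have hUb : (S : Subgroup G) ⊓ Mb = U :=
    (h.inf_eq_of_img ha ha1 hHa hSH hMbH hMbs hL hMbi).trans (h.comp_inf_eq ha ha1 hM).symm
  -- its image modulo `O(C(b))`
  have hY := h.topHyp (a := b) hb1
  set N := img b Mb with hN
  have hMbb : Mb ≤ centralizer ({b} : Set G) := hMbH.trans hHb
  have hNp : ⁅N, N⁆ = N := by rw [hN, ← img_commutator hMbb hMbb, hMba.perfect]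
  have hNne : N ≠ ⊥ := fun e =>
    hMba.ne_bot (eq_bot_of_perfect_odd hMba.perfect (odd_card_of_img_eq_bot hMbb e))
  set Z := centralizer ({proj b ⟨a, haC⟩} : Set (Top2 b)) with hZ
  have hZe : Z = img b H := by rw [hZ, h.map_centralizer_eq ha haC, hH, inf_comm]
  have hNZ : N ≤ Z := hZe ▸ img_mono hMbH
  have hNs : (N.subgroupOf Z).IsSubnormal := by
    let f : H →* Z := ((proj b).comp (inclusion hHb)).codRestrict Z fun x =>
      hZe.ge (mem_img_of_mem (hHb x.2) x.2)
    have hf : Function.Surjective f := by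
      rintro ⟨z, hz⟩
      obtain ⟨x, hx, hxH, rfl⟩ := exists_of_mem_img (hZe.le hz)
      exact ⟨⟨x, hxH⟩, rfl⟩
    have e : N.subgroupOf Z = (Mb.subgroupOf H).map f := by
      ext z
      constructor
      · intro hz
        obtain ⟨x, hx, hxM, he⟩ := exists_of_mem_img hz
        exact ⟨⟨x, hMbH hxM⟩, hxM, Subtype.ext he⟩
      · rintro ⟨x, hx, rfl⟩
        exact mem_img_of_mem (hHb x.2) hx
    rw [e]
    exact hMbs.map hf
  set P := imgSylow S (h.le_centralizer hbS) with hP
  -- `N` is a component
  obtain ⟨K, hK, hKN⟩ : ∃ K, Cfsg.IsComponent K ∧ N = K := by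
    by_contra hno
    push Not at hno
    refine hNne (eq_bot_of_layer hNp (hY.perfect_le_layer hNp) fun K hK => ?_)
    by_cases hac : proj b ⟨a, haC⟩ ∈ centralizer (K : Set (Top2 b))
    · have hKZ : K ≤ Z := by
        intro k hk
        rw [hZ, mem_centralizer_singleton_iff]
        exact mem_centralizer_iff.1 hac k hk
      rcases Components.IsComponent.le_or_commutator_eq_bot
        (Components.IsComponent.subgroupOf hK hKZ) hNs with e | e
      · exfalso
        have hKN : K ≤ N := fun k hk => e (show (⟨k, hKZ hk⟩ : Z) ∈ K.subgroupOf Z from hk)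
        -- preimage of `K` in `Mb`
        set M1 := Mb ⊓ lift b K
        have hnorm : Mb ≤ normalizer (M1 : Set G) := by
          refine Transitivity.le_normalizer_of_forall_conj fun m hm x hx => ⟨?_, ?_⟩
          · exact Mb.mul_mem (Mb.mul_mem hm hx.1) (Mb.inv_mem hm)
          · obtain ⟨hxC, hxK⟩ := mem_lift.1 hx.2
            refine mem_lift.2 ⟨mul_mem (mul_mem (hMbb hm) hxC) (inv_mem (hMbb hm)), ?_⟩
            show proj b (⟨m, hMbb hm⟩ * ⟨x, hxC⟩ * ⟨m, hMbb hm⟩⁻¹) ∈ K
            rw [map_mul, map_mul, map_inv]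
            exact (mem_normalizer_iff.1 (Components.IsComponent.normalized_by_layer hK
              (hY.perfect_le_layer hNp (mem_img_of_mem (hMbb hm) hm))) _).1 hxK
        have hM1K : img b M1 = K := by
          refine le_antisymm ((img_mono inf_le_right).trans (img_lift b K).le) fun k hk => ?_
          obtain ⟨x, hx, hxM, rfl⟩ := exists_of_mem_img (hKN hk)
          exact mem_img_of_mem hx ⟨hxM, mem_lift.2 ⟨hx, hk⟩⟩
        rcases hMba.normal M1 inf_le_left hnorm with e' | e'
        · exact hno K hK (by rw [hN, ← hM1K, e'])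
        · haveI : Group.IsSolvable K := Cfsg.Agent.S0205.result (by
            rw [← hM1K]
            refine e'.of_dvd_nat ((card_map_dvd _ _).trans (dvd_of_eq ?_))
            rw [Nat.card_congr (subgroupOfEquivOfLe (inf_le_left.trans hMbb)).toEquiv])
          exact Components.IsComponent.not_isSolvable hK inferInstance
      · intro n hn
        refine mem_centralizer_iff.2 fun k hk => ?_
        rw [commutator_eq_bot_iff_le_centralizer] at e
        exact congrArg Subtype.val (mem_centralizer_iff.1 (e (show (⟨k, hKZ hk⟩ : Z) ∈ K.subgroupOf Z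
          from hk)) ⟨n, hNZ hn⟩ hn).symm
    · -- the projection to `K` centralizes a non-trivial element
      obtain ⟨u, hu, c, -, hc, hauc⟩ := hY.exists_mul hK P (mem_img_of_mem haC ha)
      have hu1 : u ≠ 1 := fun e => hac (by rw [hauc, e, one_mul]; exact hc)
      set C := centralizer (K : Set (Top2 b))
      have hlay : Cfsg.layer (Top2 b) ≤ K ⊔ C := sSup_le fun L hL => by
        by_cases e : L = K
        · exact e ▸ le_sup_left
        · exact le_sup_of_le_right (commutator_eq_bot_iff_le_centralizer.1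
            (Components.IsComponent.commutator_eq_bot_of_ne hL hK e))
      have hCK : C ≤ normalizer (K : Set (Top2 b)) := centralizer_le_normalizer _
      have hdisj : ∀ x, x ∈ K → x ∈ C → x = 1 := fun x hx hxC =>
        hY.eq_one_of_centralizes hK hx hxC
      let f : K × C →* Top2 b := (K.subtype).noncommCoprod C.subtype fun x y =>
        mem_centralizer_iff.1 y.2 x x.2
      have hfinj : Function.Injective f := by
        rw [injective_iff_map_eq_one]
        rintro ⟨x, y⟩ hxy
        have hxy' : (x : Top2 b) * (y : Top2 b) = 1 := hxy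
        have hx1 : (x : Top2 b) = 1 := hdisj _ x.2 (by
          rw [mul_eq_one_iff_eq_inv.1 hxy']; exact inv_mem y.2)
        rw [hx1, one_mul] at hxy'
        exact Prod.ext (Subtype.ext hx1) (Subtype.ext hxy')
      have hfrange : Cfsg.layer (Top2 b) ≤ f.range := hlay.trans (sup_le
        (fun x hx => ⟨(⟨x, hx⟩, 1), mul_one x⟩) (fun x hx => ⟨(1, ⟨x, hx⟩), one_mul x⟩))
      let g : N →* K := (MonoidHom.fst K C).comp ((MonoidHom.ofInjective hfinj).symm.toMonoidHom.comp
        (inclusion ((hY.perfect_le_layer hNp).trans hfrange)))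
      have hg : ∀ n : N, ∃ y ∈ C, (n : Top2 b) = (g n : Top2 b) * y := fun n => by
        have h1 := (MonoidHom.ofInjective hfinj).apply_symm_apply
          (inclusion ((hY.perfect_le_layer hNp).trans hfrange) n)
        exact ⟨_, ((MonoidHom.ofInjective hfinj).symm
          (inclusion ((hY.perfect_le_layer hNp).trans hfrange) n)).2.2,
          (congrArg Subtype.val h1).symm⟩
      suffices hgb : g.range = ⊥ by
        intro n hn
        obtain ⟨y, hy, he⟩ := hg ⟨n, hn⟩
        have h1 : g ⟨n, hn⟩ = 1 := mem_bot.1 (hgb ▸ ⟨⟨n, hn⟩, rfl⟩)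
        rw [show n = (g ⟨n, hn⟩ : Top2 b) * y from he, h1]
        simpa using hy
      by_contra hg1
      have hcomm : g.range ≤ centralizer ({(⟨u, hu.2⟩ : K)} : Set K) := by
        rintro _ ⟨n, rfl⟩
        rw [mem_centralizer_singleton_iff]
        obtain ⟨y, hy, he⟩ := hg n
        have hn := mem_centralizer_singleton_iff.1 (hNZ n.2)
        rw [hauc, he] at hn
        set x := g n
        have hxc : (x : Top2 b) * c = c * x := mem_centralizer_iff.1 hc x x.2
        have hyu : u * y = y * u := mem_centralizer_iff.1 hy u hu.2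
        have h2 : ((x : Top2 b) * u)⁻¹ * (u * x) = (y * c) * (c * y)⁻¹ := by
          rw [inv_mul_eq_iff_eq_mul, ← mul_assoc, eq_mul_inv_iff_mul_eq]
          calc u * x * (c * y) = u * ((x : Top2 b) * c) * y := by group
            _ = u * c * (x * y) := by rw [hxc]; group
            _ = x * y * (u * c) := hn.symm
            _ = x * (y * u) * c := by group
            _ = x * u * (y * c) := by rw [← hyu]; group
        have h3 : ((x : Top2 b) * u)⁻¹ * (u * x) = 1 := hdisj _
          (mul_mem (inv_mem (mul_mem x.2 hu.2)) (mul_mem hu.2 x.2))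
          (h2 ▸ mul_mem (mul_mem hy hc) (inv_mem (mul_mem hc hy)))
        exact Subtype.ext (inv_mul_eq_one.1 h3)
      have hperf : ⁅g.range, g.range⁆ = g.range := by
        rw [MonoidHom.range_eq_map, ← map_commutator]
        congr 1
        exact map_injective N.subtype_injective (by
          rw [map_commutator, ← MonoidHom.range_eq_map, range_subtype, hNp])
      have hne : g.range ≠ ⊥ := hg1
      let T : Sylow 2 K := ((P.isPGroup'.to_le inf_le_left).comap_subtype (K := K)).toSylow
        (not_dvd_relIndex_of_isSubnormal P hK.1)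
      let F : Mb →* K := g.comp (((proj b).comp (inclusion hMbb)).codRestrict N fun x =>
        mem_img_of_mem (hMbb x.2) x.2)
      have hF : F.range = g.range := by
        refine le_antisymm (by rintro _ ⟨x, rfl⟩; exact ⟨_, rfl⟩) ?_
        rintro _ ⟨n, rfl⟩
        obtain ⟨x, hx, hxM, he⟩ := exists_of_mem_img n.2
        exact ⟨⟨x, hxM⟩, congrArg g (Subtype.ext he)⟩
      have hkodd : Odd (Nat.card F.ker) := by
        have hn : Mb ≤ normalizer ((F.ker.map Mb.subtype : Subgroup G) : Set G) := by
          have := le_normalizer_map (H := F.ker) Mb.subtype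
          rwa [normalizer_eq_top, ← MonoidHom.range_eq_map, range_subtype] at this
        rcases hMba.normal _ (map_subtype_le F.ker) hn with e | e
        · exfalso
          refine hne ?_
          rw [← hF, MonoidHom.range_eq_bot_iff, ← MonoidHom.ker_eq_top_iff]
          exact map_injective Mb.subtype_injective
            (by rw [e, ← MonoidHom.range_eq_map, range_subtype])
        · rwa [card_map_of_injective Mb.subtype_injective] at e
      obtain ⟨Q⟩ : Nonempty (Sylow 2 g.range) := inferInstance
      have hu2 : orderOf (⟨u, hu.2⟩ : K) = 2 := orderOf_eq_prime (by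
          rw [pow_two]
          exact congrArg Subtype.val (CompType.sylow_sq (hY.compType hK) T ⟨u, hu.2⟩ hu) |> fun e =>
            Subtype.ext e) (fun e => hu1 (congrArg Subtype.val e))
      have hlt := CompType.card_lt_of_centralizer (hY.compType hK) hu2 hcomm hperf hne Q T
      rw [Q.card_eq_multiplicity] at hlt
      have hb2 : Nat.card (Mb) = Nat.card g.range * Nat.card F.ker := by
        rw [Subgroup.card_eq_card_quotient_mul_card_subgroup F.ker,
          Nat.card_congr (QuotientGroup.quotientKerEquivRange F).toEquiv, hF]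
      have hfac : (Nat.card Mb).factorization 2 = (Nat.card g.range).factorization 2 := by
        rw [hb2, Nat.factorization_mul Nat.card_pos.ne' Nat.card_pos.ne', Finsupp.add_apply,
          Nat.factorization_eq_zero_of_not_dvd hkodd.not_two_dvd_nat, add_zero]
      rw [← hfac, ← card_inf_eq_ordProj hSH hMbH hMbs, hUb, hcard] at hlt
      obtain ⟨M', hM', hM'i⟩ := h.exists_comp hbS hb1 hK
      have h3 := hq S b M' hbS hb1 hM'
      rw [h.comp_inf_eq hbS hb1 hM', hM'i, h.card_img_inf hbS K] at h3
      refine absurd (hlt.trans_le (le_trans (le_of_eq ?_) h3)) (lt_irrefl q)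
      exact Nat.card_congr (subgroupOfEquivOfLe inf_le_right).toEquiv
  obtain ⟨M', hM', hM'i⟩ := h.exists_comp hbS hb1 hK
  have hMi : img b Mb = img b M' := by rw [← hN, hKN, hM'i]
  have hSM : (S : Subgroup G) ⊓ M' = U := by
    rw [h.comp_inf_eq hbS hb1 hM', ← hMi]
    refine (eq_of_le_of_card_ge ?_ ?_).symm
    · rw [← hUb]; exact inf_le_inf_left _ (le_lift_img hMbb)
    · rw [hMi, ← h.comp_inf_eq hbS hb1 hM', hcard]
      exact hq S b M' hbS hb1 hM'
  refine ⟨M', hM', hSM, ?_⟩
  refine (eq_of_le_of_card_ge (fun c hc => ?_) ?_).symm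
  · obtain ⟨hcS, hc'⟩ := (h.mem_cenS_iff ha hM).1 hc
    have hcH := hSH hcS
    refine (h.mem_cenS_iff hbS hM').2 ⟨hcS, ?_⟩
    -- `c` acts trivially on the image of `Mb`
    set R := img b (Cfsg.centralizerPPrimeCore 2 a ⊓ centralizer ({b} : Set G)) ⊓ K
    haveI hKs := hY.isSimpleGroup hK
    have hRodd : Odd (Nat.card R) := by
      refine ((odd_card_core a).of_dvd_nat ?_).of_dvd_nat (card_dvd_of_le inf_le_left)
      refine (card_map_dvd _ _).trans ?_
      rw [Nat.card_congr (subgroupOfEquivOfLe inf_le_right).toEquiv]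
      exact card_dvd_of_le inf_le_left
    have hRK : K ≤ normalizer (R : Set (Top2 b)) := by
      refine Transitivity.le_normalizer_of_forall_conj fun k hk r hr => ⟨?_, ?_⟩
      · obtain ⟨x, hx, hxM, rfl⟩ := exists_of_mem_img (show k ∈ N from hKN.ge hk)
        obtain ⟨y, hy, hyR, rfl⟩ := exists_of_mem_img hr.1
        rw [← map_inv, ← map_mul, ← map_mul]
        exact mem_img_of_mem (mul_mem (mul_mem hx hy) (inv_mem hx))
          ⟨Balance.coreIn_conj_mem ((hMbH hxM).1) hyR.1,
            (centralizer ({b} : Set G)).mul_mem ((centralizer ({b} : Set G)).mul_mem hx hy)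
              ((centralizer ({b} : Set G)).inv_mem hx)⟩
      · exact K.mul_mem (K.mul_mem hk hr.2) (K.inv_mem hk)
    have hRbot : R = ⊥ := by
      haveI : (R.subgroupOf K).Normal := normal_subgroupOf_of_le_normalizer hRK
      rcases IsSimpleGroup.eq_bot_or_eq_top_of_normal _ (inferInstance : (R.subgroupOf K).Normal)
        with e | e
      · rw [← map_subgroupOf_eq_of_le (show R ≤ K from inf_le_right), e, Subgroup.map_bot]
      · exfalso
        haveI : Group.IsSolvable K := Cfsg.Agent.S0205.result
          (hRodd.of_dvd_nat (card_dvd_of_le (subgroupOf_eq_top.1 e)))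
        exact Components.IsComponent.not_isSolvable hK inferInstance
    have hcN : proj b ⟨c, hcH.2⟩ ∈ centralizer (K : Set (Top2 b)) := by
      refine mem_centralizer_iff.2 fun k hk => ?_
      obtain ⟨m, hm, hmM, rfl⟩ := exists_of_mem_img (show k ∈ N from hKN.ge hk)
      have hcm : c * m * c⁻¹ * m⁻¹ ∈ Cfsg.centralizerPPrimeCore 2 a := by
        obtain ⟨hcC, hcc⟩ := mem_lift.1 hc.2
        refine (proj_eq_one_iff (a := a) (mul_mem (mul_mem (mul_mem hcC (hMbH hmM).1)
          (inv_mem hcC)) (inv_mem (hMbH hmM).1))).1 ?_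
        show proj a (⟨c, hcC⟩ * ⟨m, (hMbH hmM).1⟩ * ⟨c, hcC⟩⁻¹ * ⟨m, (hMbH hmM).1⟩⁻¹) = 1
        rw [map_mul, map_mul, map_mul, map_inv, map_inv,
          ← mem_centralizer_iff.1 hcc _ (hMbi ▸ mem_img_of_mem (hMbH hmM).1 hmM)]
        group
      have hmem : proj b ⟨c, hcH.2⟩ * proj b ⟨m, hm⟩ * (proj b ⟨c, hcH.2⟩)⁻¹ *
          (proj b ⟨m, hm⟩)⁻¹ ∈ R := by
        refine ⟨?_, K.mul_mem ((mem_normalizer_iff.1 (hY.le_normalizer_component hK P
          (mem_img_of_mem hcH.2 hcS)) _).1 hk) (K.inv_mem hk)⟩
        simp only [← map_inv, ← map_mul]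
        exact mem_img_of_mem _ ⟨hcm, (centralizer ({b} : Set G)).mul_mem
          ((centralizer ({b} : Set G)).mul_mem ((centralizer ({b} : Set G)).mul_mem hcH.2 hm)
            ((centralizer ({b} : Set G)).inv_mem hcH.2)) ((centralizer ({b} : Set G)).inv_mem hm)⟩
      rw [hRbot, mem_bot, mul_inv_eq_one, mul_inv_eq_iff_eq_mul] at hmem
      exact hmem.symm
    have h5 := (h.mem_cenS_iff hbS hM').1 ⟨hcS, mem_lift.2 ⟨hcH.2, by rw [hM'i]; exact hcN⟩⟩
    exact h5.2
  · have h1 := h.card_eq_mul ha ha1 hM
    rw [h.card_eq_mul hbS hb1 hM', hSM] at h1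
    exact (Nat.eq_of_mul_eq_mul_left Nat.card_pos h1).le

end Hyp

end CfsgLib.Walter.Rank
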