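import Cfsg.Agent.Walter.Rank.Maximal
import Cfsg.Agent.Walter.Rank.Linear

/-!
# Walter, rank at least four: the decomposition of `S`

The pieces are permuted by `N(S)`, distinct pieces lie in each other's complements, and a cycle of
odd order on a piece fixing its complement shows, by the linear lemma, that `q ^ 2 < |S|`.
-/

set_option autoImplicit false
set_option linter.style.haveILetI false
set_option linter.unusedSectionVars false

open Subgroup
open scoped commutatorElement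

namespace CfsgLib.Walter.Rank

universe u

variable {G : Type u} [Group G] [Finite G]

theorem mem_map_conj {n x : G} {H : Subgroup G} :
    x ∈ H.map (MulAut.conj n).toMonoidHom ↔ n⁻¹ * x * n ∈ H := by
  rw [Subgroup.mem_map_equiv]
  simp

theorem core_conj_mem {a n x : G} (hx : x ∈ Cfsg.centralizerPPrimeCore 2 a) :
    n * x * n⁻¹ ∈ Cfsg.centralizerPPrimeCore 2 (n * a * n⁻¹) := by
  set R := (Cfsg.centralizerPPrimeCore 2 a).map (MulAut.conj n).toMonoidHom
  have hCa : (centralizer ({a} : Set G)).map (MulAut.conj n).toMonoidHom =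
      centralizer ({n * a * n⁻¹} : Set G) := by
    rw [map_centralizer_mulEquiv']
  have hR : R ≤ Cfsg.centralizerPPrimeCore 2 (n * a * n⁻¹) := by
    refine Components.le_centralizerPPrimeCore ((map_mono (core_le a)).trans hCa.le) ?_ ?_
    · rw [← hCa]
      exact (map_mono fun c hc => le_normalizer_coreIn hc).trans (le_normalizer_map _)
    · rw [card_map_of_injective (MulEquiv.injective _)]
      exact Nat.coprime_two_right.2 (odd_card_core a)
  exact hR ⟨x, hx, rfl⟩
where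
  map_centralizer_mulEquiv' {a n : G} : (centralizer ({a} : Set G)).map (MulAut.conj n).toMonoidHom =
      centralizer ({n * a * n⁻¹} : Set G) := by
    ext y
    rw [mem_map_conj, mem_centralizer_singleton_iff, mem_centralizer_singleton_iff]
    constructor
    · intro h
      calc y * (n * a * n⁻¹) = n * (n⁻¹ * y * n * a) * n⁻¹ := by group
        _ = n * a * n⁻¹ * y := by rw [h]; group
    · intro h
      calc n⁻¹ * y * n * a = n⁻¹ * (y * (n * a * n⁻¹)) * n := by group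
        _ = a * (n⁻¹ * y * n) := by rw [h]; group
  le_normalizer_coreIn {a c : G} (hc : c ∈ centralizer ({a} : Set G)) :
      c ∈ normalizer (Cfsg.centralizerPPrimeCore 2 a : Set G) :=
    Transitivity.le_normalizer_of_forall_conj
      (fun d hd x hx => Balance.coreIn_conj_mem hd hx) hc

theorem map_centralizer_conj (a n : G) :
    (centralizer ({a} : Set G)).map (MulAut.conj n).toMonoidHom =
      centralizer ({n * a * n⁻¹} : Set G) := core_conj_mem.map_centralizer_mulEquiv'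

theorem Atom.map {M : Subgroup G} (hM : Atom M) (e : G ≃* G) : Atom (M.map e.toMonoidHom) := by
  refine ⟨by rw [← map_commutator, hM.perfect],
    fun h => hM.ne_bot ((map_eq_bot_iff_of_injective _ e.injective).1 h), fun N hN hn => ?_⟩
  have hN' : N.comap e.toMonoidHom ≤ M := fun x hx => by
    obtain ⟨y, hy, he⟩ := hN hx
    exact e.injective he ▸ hy
  have hn' : M ≤ normalizer (N.comap e.toMonoidHom : Set G) := fun x hx =>
    le_normalizer_comap e.toMonoidHom (hn ⟨x, hx, rfl⟩)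
  have hmap : (N.comap e.toMonoidHom).map e.toMonoidHom = N :=
    map_comap_eq_self_of_surjective e.surjective N
  rcases hM.normal _ hN' hn' with h | h
  · exact Or.inl (by rw [← hmap, h])
  · refine Or.inr ?_
    rw [← hmap, card_map_of_injective e.injective]
    exact h

theorem Comp.conj {a : G} {M : Subgroup G} (hM : Comp a M) (n : G) :
    Comp (n * a * n⁻¹) (M.map (MulAut.conj n).toMonoidHom) := by
  have hC := map_centralizer_conj a n
  have hle : M.map (MulAut.conj n).toMonoidHom ≤ centralizer ({n * a * n⁻¹} : Set G) :=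
    hC ▸ map_mono hM.le
  refine ⟨hle, ?_, hM.atom.map _⟩
  let f : centralizer ({a} : Set G) →* centralizer ({n * a * n⁻¹} : Set G) :=
    ((MulAut.conj n).toMonoidHom.comp (centralizer ({a} : Set G)).subtype).codRestrict _
      fun x => hC.le ⟨x, x.2, rfl⟩
  have hf : Function.Surjective f := fun y => by
    obtain ⟨x, hx, he⟩ := hC.ge y.2
    exact ⟨⟨x, hx⟩, Subtype.ext he⟩
  have e : (M.map (MulAut.conj n).toMonoidHom).subgroupOf (centralizer ({n * a * n⁻¹} : Set G)) =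
      (M.subgroupOf (centralizer ({a} : Set G))).map f := by
    ext y
    constructor
    · rintro ⟨x, hx, he⟩
      exact ⟨⟨x, hM.le hx⟩, hx, Subtype.ext he⟩
    · rintro ⟨x, hx, rfl⟩
      exact ⟨x, hx, rfl⟩
  rw [e]
  exact hM.subnormal.map hf

namespace Hyp

variable {S : Sylow 2 G} (h : Hyp S)
include h

theorem piece_conj {q : ℕ} {U B : Subgroup G} (hP : Piece (S : Subgroup G) q U B) {n : G}
    (hn : n ∈ normalizer ((S : Subgroup G) : Set G)) :
    Piece (S : Subgroup G) q (U.map (MulAut.conj n).toMonoidHom)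
      (B.map (MulAut.conj n).toMonoidHom) := by
  have hSn : (S : Subgroup G).map (MulAut.conj n).toMonoidHom = (S : Subgroup G) :=
    mem_normalizer_iff_map_conj_eq.1 hn
  have hinj : Function.Injective (MulAut.conj n).toMonoidHom := (MulAut.conj n).injective
  refine ⟨by rw [card_map_of_injective hinj, hP.card], hSn ▸ map_mono hP.leU,
    hSn ▸ map_mono hP.leB, by rw [← map_inf _ _ _ hinj, hP.disj, Subgroup.map_bot],
    by rw [card_map_of_injective hinj, card_map_of_injective hinj, ← hP.card_mul],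
    fun b hb hb1 => ?_⟩
  obtain ⟨b₀, hb₀, rfl⟩ := hb
  obtain ⟨M, hM, hMU, hMB⟩ := hP.comp b₀ hb₀ fun e => hb1 (by rw [e, map_one])
  refine ⟨_, hM.conj n, ?_, ?_⟩
  · rw [← hMU, map_inf _ _ _ hinj, hSn]
  · have hb₀S : b₀ ∈ (S : Subgroup G) := hP.leB hb₀
    have hbS : n * b₀ * n⁻¹ ∈ (S : Subgroup G) := (mem_normalizer_iff.1 hn b₀).1 hb₀S
    ext c
    show c ∈ cenS (S : Subgroup G) (n * b₀ * n⁻¹) _ ↔ _
    rw [h.mem_cenS_iff hbS (hM.conj n), ← hMB, mem_map_conj, h.mem_cenS_iff hb₀S hM,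
      show (c ∈ (S : Subgroup G)) ↔ n⁻¹ * c * n ∈ (S : Subgroup G) by
        rw [← mem_map_conj, hSn]]
    refine and_congr_right fun _ => ⟨fun hc m hm => ?_, fun hc m hm => ?_⟩
    · have h1 := core_conj_mem (n := n⁻¹) (hc (n * m * n⁻¹) ⟨m, hm, rfl⟩)
      rw [show n⁻¹ * (n * b₀ * n⁻¹) * n⁻¹⁻¹ = b₀ by group] at h1
      rw [show n⁻¹ * c * n * m * (n⁻¹ * c * n)⁻¹ * m⁻¹ =
        n⁻¹ * (c * (n * m * n⁻¹) * c⁻¹ * (n * m * n⁻¹)⁻¹) * n⁻¹⁻¹ by group]
      exact h1
    · obtain ⟨m₀, hm₀, rfl⟩ := hm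
      have h1 := core_conj_mem (n := n) (hc m₀ hm₀)
      show c * (n * m₀ * n⁻¹) * c⁻¹ * (n * m₀ * n⁻¹)⁻¹ ∈ _
      rw [show c * (n * m₀ * n⁻¹) * c⁻¹ * (n * m₀ * n⁻¹)⁻¹ =
        n * (n⁻¹ * c * n * m₀ * (n⁻¹ * c * n)⁻¹ * m₀⁻¹) * n⁻¹ by group]
      exact h1

/-- Two pieces whose complements meet. -/
theorem piece_pair {q : ℕ} {U B U' B' : Subgroup G} (hP : Piece (S : Subgroup G) q U B)
    (hP' : Piece (S : Subgroup G) q U' B') (hBB : B ⊓ B' ≠ ⊥) :
    (U = U' ∧ B = B') ∨ (U' ≤ B ∧ U ≤ B') := by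
  obtain ⟨⟨b, hb⟩, hb1⟩ := Subgroup.ne_bot_iff_exists_ne_one.1 hBB
  have hb1' : b ≠ 1 := fun e => hb1 (Subtype.ext e)
  have hbS : b ∈ (S : Subgroup G) := hP.leB hb.1
  obtain ⟨M, hM, rfl, rfl⟩ := hP.comp b hb.1 hb1'
  obtain ⟨M', hM', rfl, rfl⟩ := hP'.comp b hb.2 hb1'
  by_cases e : img b M = img b M'
  · refine Or.inl ⟨?_, by rw [cenS, cenS, e]⟩
    rw [h.comp_inf_eq hbS hb1' hM, h.comp_inf_eq hbS hb1' hM', e]
  · have key : ∀ {M M' : Subgroup G}, Comp b M → Comp b M' → img b M ≠ img b M' →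
        (S : Subgroup G) ⊓ M' ≤ cenS (S : Subgroup G) b M := fun hM hM' hne x hx =>
      ⟨hx.1, mem_lift.2 ⟨hM'.le hx.2, commutator_eq_bot_iff_le_centralizer.1
        (Components.IsComponent.commutator_eq_bot_of_ne hM'.isComponent hM.isComponent
          (Ne.symm hne)) (mem_img_of_mem _ hx.2)⟩⟩
    exact Or.inr ⟨key hM hM' e, key hM' hM (Ne.symm e)⟩

/-- An element of odd order fixing the complement and cycling the piece. -/
theorem exists_cycle {q : ℕ} {U B : Subgroup G} (hP : Piece (S : Subgroup G) q U B) {b : G}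
    (hb : b ∈ B) (hb1 : b ≠ 1) :
    ∃ g ∈ normalizer ((S : Subgroup G) : Set G), (∀ c ∈ B, g * c * g⁻¹ = c) ∧
      (∀ u ∈ U, g * u * g⁻¹ ∈ U) ∧
      ∀ u ∈ U, u ≠ 1 → ∀ v ∈ U, v ≠ 1 → ∃ k : ℕ, g ^ k * u * (g ^ k)⁻¹ = v := by
  haveI : Fact (Nat.Prime 2) := ⟨Nat.prime_two⟩
  have hbS : b ∈ (S : Subgroup G) := hP.leB hb
  obtain ⟨M, hM, hMU, hMB⟩ := hP.comp b hb hb1
  have hSC := h.le_centralizer hbS
  set P := imgSylow S hSC with hPd
  have hK := hM.isComponent
  let T : Sylow 2 (img b M) := ((P.isPGroup'.to_le inf_le_left).comap_subtype (K := img b M)).toSylow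
    (not_dvd_relIndex_of_isSubnormal P hK.1)
  obtain ⟨s, hsN, -, hst⟩ := CompType.exists_cycle (h.compType hbS hb1 hM) T
  -- `s` normalizes the image of `S`
  have hUT : ∀ u ∈ U, ∀ hu : u ∈ centralizer ({b} : Set G),
      ∃ hu' : proj b ⟨u, hu⟩ ∈ img b M, (⟨_, hu'⟩ : img b M) ∈ (T : Subgroup (img b M)) := by
    intro u hu huC
    rw [← hMU] at hu
    exact ⟨mem_img_of_mem huC hu.2, mem_img_of_mem huC hu.1, mem_img_of_mem huC hu.2⟩
  have hTU : ∀ z : img b M, z ∈ (T : Subgroup (img b M)) →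
      ∃ (u : G) (hu : u ∈ centralizer ({b} : Set G)), u ∈ U ∧ proj b ⟨u, hu⟩ = z := by
    intro z hz
    obtain ⟨x, hx, hxS, he⟩ := exists_of_mem_img (show (z : Top2 b) ∈ img b (S : Subgroup G) from hz.1)
    refine ⟨x, hx, ?_, he⟩
    rw [← hMU, h.comp_inf_eq hbS hb1 hM]
    exact ⟨hxS, mem_lift.2 ⟨hx, by rw [he]; exact z.2⟩⟩
  have hB : ∀ c ∈ B, ∀ hc : c ∈ centralizer ({b} : Set G),
      (s : Top2 b) * proj b ⟨c, hc⟩ * (s : Top2 b)⁻¹ = proj b ⟨c, hc⟩ := by
    intro c hc hcC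
    rw [← hMB] at hc
    obtain ⟨_, hc'⟩ := mem_lift.1 hc.2
    rw [mem_centralizer_iff.1 hc' s s.2, mul_inv_cancel_right]
  have hsS : (s : Top2 b) ∈ normalizer ((img b (S : Subgroup G) : Subgroup (Top2 b)) : Set (Top2 b)) := by
    rw [mem_normalizer_iff_map_conj_eq]
    refine eq_of_le_of_card_ge ?_ (le_of_eq (card_map_of_injective (MulEquiv.injective _)).symm)
    rintro _ ⟨z, hz, rfl⟩
    obtain ⟨x, hx, hxS, rfl⟩ := exists_of_mem_img hz
    obtain ⟨v, hv, c, hc, rfl⟩ := h.exists_mul hbS hb1 hM hxS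
    rw [hMU] at hv
    rw [hMB] at hc
    have hvC := hSC (hP.leU hv)
    have hcC := hSC (hP.leB hc)
    show (s : Top2 b) * proj b (⟨v, hvC⟩ * ⟨c, hcC⟩) * (s : Top2 b)⁻¹ ∈ _
    rw [map_mul, show (s : Top2 b) * (proj b ⟨v, hvC⟩ * proj b ⟨c, hcC⟩) * (s : Top2 b)⁻¹ =
      ((s : Top2 b) * proj b ⟨v, hvC⟩ * (s : Top2 b)⁻¹) *
        ((s : Top2 b) * proj b ⟨c, hcC⟩ * (s : Top2 b)⁻¹) by group, hB c hc hcC]
    refine mul_mem ?_ (mem_img_of_mem hcC (hP.leB hc))
    obtain ⟨hv', hvT⟩ := hUT v hv hvC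
    exact ((mem_normalizer_iff.1 hsN ⟨_, hv'⟩).1 hvT).1
  have hp : IsPGroup 2 ((S : Subgroup G).subgroupOf (centralizer ({b} : Set G))) :=
    S.isPGroup'.comap_subtype
  rw [img, PLocal.normalizer_map_mk'_eq (p := 2) _ (PLocal.coprime_card_pPrimeCore 2 _) hp] at hsS
  obtain ⟨g, hg, hgs⟩ := hsS
  have hgS : (g : G) ∈ normalizer ((S : Subgroup G) : Set G) := by
    rw [mem_normalizer_iff_map_conj_eq]
    refine eq_of_le_of_card_ge ?_ (le_of_eq (card_map_of_injective (MulEquiv.injective _)).symm)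
    rintro _ ⟨x, hx, rfl⟩
    exact (mem_normalizer_iff.1 hg ⟨x, hSC hx⟩).1 hx
  have hconj : ∀ x ∈ (S : Subgroup G), ∀ hx : x ∈ centralizer ({b} : Set G),
      ∃ hy : (g : G) * x * (g : G)⁻¹ ∈ centralizer ({b} : Set G),
        proj b ⟨(g : G) * x * (g : G)⁻¹, hy⟩ =
          (s : Top2 b) * proj b ⟨x, hx⟩ * (s : Top2 b)⁻¹ := by
    intro x hxS hx
    refine ⟨mul_mem (mul_mem g.2 hx) (inv_mem g.2), ?_⟩
    show proj b (g * ⟨x, hx⟩ * g⁻¹) = _
    rw [map_mul, map_mul, map_inv, show proj b g = (s : Top2 b) from hgs]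
  have hU : ∀ u ∈ U, (g : G) * u * (g : G)⁻¹ ∈ U := fun u hu => by
    have huC := hSC (hP.leU hu)
    obtain ⟨hy, he⟩ := hconj u (hP.leU hu) huC
    obtain ⟨hu', huT⟩ := hUT u hu huC
    obtain ⟨w, hw, hwU, hwe⟩ := hTU _ ((mem_normalizer_iff.1 hsN ⟨_, hu'⟩).1 huT)
    have : (g : G) * u * (g : G)⁻¹ = w := proj_injOn S.isPGroup'
      ((mem_normalizer_iff.1 hgS u).1 (hP.leU hu)) (hP.leU hwU) hy hw (he.trans hwe.symm)
    rw [this]
    exact hwU
  refine ⟨g, hgS, fun c hc => ?_, hU, fun u hu hu1 v hv hv1 => ?_⟩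
  · have hcC := hSC (hP.leB hc)
    obtain ⟨hy, he⟩ := hconj c (hP.leB hc) hcC
    exact proj_injOn S.isPGroup' ((mem_normalizer_iff.1 hgS c).1 (hP.leB hc)) (hP.leB hc) hy hcC
      (he.trans (hB c hc hcC))
  · have huC := hSC (hP.leU hu)
    have hvC := hSC (hP.leU hv)
    obtain ⟨hu', huT⟩ := hUT u hu huC
    obtain ⟨hv', hvT⟩ := hUT v hv hvC
    have hne : ∀ x ∈ U, ∀ hxC : x ∈ centralizer ({b} : Set G), ∀ hx' : proj b ⟨x, hxC⟩ ∈ img b M,
        x ≠ 1 → (⟨_, hx'⟩ : img b M) ≠ 1 := fun x hx hxC hx' hx1 e => hx1 (proj_injOn S.isPGroup'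
      (hP.leU hx) (one_mem _) hxC (one_mem _) ((congrArg Subtype.val e).trans (map_one (proj b)).symm))
    obtain ⟨k, hk⟩ := hst _ huT (hne u hu huC hu' hu1) _ hvT (hne v hv hvC hv' hv1)
    refine ⟨k, proj_injOn S.isPGroup' ((mem_normalizer_iff.1 (pow_mem hgS k) u).1 (hP.leU hu))
      (hP.leU hv) (mul_mem (mul_mem (pow_mem g.2 k) huC) (inv_mem (pow_mem g.2 k))) hvC ?_⟩
    show proj b (g ^ k * ⟨u, huC⟩ * (g ^ k)⁻¹) = _
    rw [map_mul, map_mul, map_inv, map_pow, show proj b g = (s : Top2 b) from hgs]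
    exact congrArg Subtype.val hk

/-- By the linear lemma `q ^ 2 < |S|`. -/
theorem sq_lt (hsq : ∀ s ∈ (S : Subgroup G), s * s = 1) (h16 : 16 ≤ Nat.card (S : Subgroup G))
    {q : ℕ} (hq4 : 4 ≤ q) {U B : Subgroup G} (hP : Piece (S : Subgroup G) q U B) (hB : B ≠ ⊥) :
    q * q < Nat.card (S : Subgroup G) := by
  classical
  haveI : Fact (Nat.Prime 2) := ⟨Nat.prime_two⟩
  obtain ⟨⟨b, hb⟩, hb1⟩ := Subgroup.ne_bot_iff_exists_ne_one.1 hB
  obtain ⟨g, hgN, hgB, hgU, hgt⟩ := h.exists_cycle hP hb fun e => hb1 (Subtype.ext e)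
  letI : CommGroup (S : Subgroup G) :=
    { (inferInstance : Group (S : Subgroup G)) with mul_comm := h.comm.is_comm.comm }
  letI : Module (ZMod 2) (Additive (S : Subgroup G)) := AddCommGroup.zmodModule fun x => by
    rw [two_nsmul]
    exact congrArg Additive.ofMul (Subtype.ext (hsq (Additive.toMul x : (S : Subgroup G))
      (Additive.toMul x).2) : (Additive.toMul x : (S : Subgroup G)) * Additive.toMul x = 1)
  let toEnd : MulAut (S : Subgroup G) →* Module.End (ZMod 2) (Additive (S : Subgroup G)) :=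
    { toFun := fun f => (MonoidHom.toAdditive f.toMonoidHom).toZModLinearMap 2
      map_one' := LinearMap.ext fun x => rfl
      map_mul' := fun f f' => LinearMap.ext fun x => rfl }
  let ρ := toEnd.toHomUnits.comp (S : Subgroup G).normalizerMonoidHom
  let sub : Subgroup G → Submodule (ZMod 2) (Additive (S : Subgroup G)) := fun H =>
    AddSubgroup.toZModSubmodule 2 (Subgroup.toAddSubgroup (H.subgroupOf (S : Subgroup G)))
  have hsub : ∀ (H : Subgroup G) (x : (S : Subgroup G)), Additive.ofMul x ∈ sub H ↔ (x : G) ∈ H :=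
    fun H x => Iff.rfl
  have hρ : ∀ (n : normalizer ((S : Subgroup G) : Set G)) (x : (S : Subgroup G)),
      ((Additive.toMul ((ρ n : Module.End (ZMod 2) (Additive (S : Subgroup G))) (Additive.ofMul x)) :
        (S : Subgroup G)) : G) = (n : G) * x * (n : G)⁻¹ := fun n x => rfl
  have hcard : ∀ H : Subgroup G, H ≤ (S : Subgroup G) →
      2 ^ Module.finrank (ZMod 2) (sub H) = Nat.card H := fun H hH => by
    refine (by rw [Module.natCard_eq_pow_finrank (K := ZMod 2), Nat.card_zmod] :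
      Nat.card (sub H) = 2 ^ Module.finrank (ZMod 2) (sub H)).symm.trans ?_
    rw [← Nat.card_congr (subgroupOfEquivOfLe hH).toEquiv]
    exact Nat.card_congr (Equiv.subtypeEquiv Additive.toMul fun x => Iff.rfl)
  have htot : 2 ^ Module.finrank (ZMod 2) (Additive (S : Subgroup G)) =
      Nat.card (S : Subgroup G) := by
    refine (by rw [Module.natCard_eq_pow_finrank (K := ZMod 2), Nat.card_zmod] :
      Nat.card (Additive (S : Subgroup G)) =
        2 ^ Module.finrank (ZMod 2) (Additive (S : Subgroup G))).symm.trans ?_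
    exact Nat.card_congr Additive.toMul
  have hS : Singer ρ.range (sub U) (sub B) (ρ ⟨g, hgN⟩) := by
    refine ⟨?_, fun W hW => ?_, ?_, ?_, ⟨_, rfl⟩, ?_, ?_, ?_, ?_⟩
    · rw [MonoidHom.range_eq_map, ← map_map, ← MonoidHom.range_eq_map]
      exact (odd_card_range S h.comm).of_dvd_nat (card_map_dvd _ _)
    · let H : Subgroup G :=
        (Subgroup.toAddSubgroup.symm W.toAddSubgroup).map (S : Subgroup G).subtype
      have hH : ∀ x : (S : Subgroup G), (x : G) ∈ H ↔ Additive.ofMul x ∈ W := fun x =>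
        ⟨fun ⟨y, hy, e⟩ => Subtype.ext e ▸ hy, fun hx => ⟨x, hx, rfl⟩⟩
      rcases h.irreducible hsq (B := H) (map_subtype_le _) (by
          rintro n hn _ ⟨y, hy, rfl⟩
          exact ⟨_, hW _ ⟨⟨n, hn⟩, rfl⟩ _ hy, rfl⟩) with e | e
      · refine Or.inl ((Submodule.eq_bot_iff W).2 fun x hx => ?_)
        have h1 : ((Additive.toMul x : (S : Subgroup G)) : G) ∈ H := (hH _).2 hx
        rw [e, mem_bot] at h1
        exact congrArg Additive.ofMul (Subtype.ext h1 : (Additive.toMul x : (S : Subgroup G)) = 1)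
      · refine Or.inr (Submodule.eq_top_iff'.2 fun x => (hH (Additive.toMul x)).1 ?_)
        rw [e]
        exact (Additive.toMul x : (S : Subgroup G)).2
    · refine isCompl_iff.2 ⟨Submodule.disjoint_def.2 fun x hxU hxB => ?_, ?_⟩
      · have h1 : ((Additive.toMul x : (S : Subgroup G)) : G) ∈ U ⊓ B := ⟨hxU, hxB⟩
        rw [hP.disj, mem_bot] at h1
        exact congrArg Additive.ofMul (Subtype.ext h1 : (Additive.toMul x : (S : Subgroup G)) = 1)
      · rw [codisjoint_iff]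
        refine Submodule.eq_top_of_finrank_eq (Nat.pow_right_injective (le_refl 2) ?_)
        show 2 ^ _ = 2 ^ _
        have hd : sub U ⊓ sub B = ⊥ := (Submodule.eq_bot_iff _).2 fun x hx => by
          have h1 : ((Additive.toMul x : (S : Subgroup G)) : G) ∈ U ⊓ B := ⟨hx.1, hx.2⟩
          rw [hP.disj, mem_bot] at h1
          exact congrArg Additive.ofMul
            (Subtype.ext h1 : (Additive.toMul x : (S : Subgroup G)) = 1)
        have h2 := Submodule.finrank_sup_add_finrank_inf_eq (sub U) (sub B)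
        rw [hd, finrank_bot, add_zero] at h2
        rw [h2, pow_add, hcard U hP.leU, hcard B hP.leB, htot, ← hP.card_mul]
    · intro e
      have h1 := hcard B hP.leB
      rw [e, finrank_bot, pow_zero] at h1
      exact hB (Subgroup.card_eq_one.1 h1.symm)
    · intro x hx
      exact congrArg Additive.ofMul (Subtype.ext (hgB _ hx) :
        (S : Subgroup G).normalizerMonoidHom ⟨g, hgN⟩ (Additive.toMul x) = Additive.toMul x)
    · exact fun x hx => hgU _ hx
    · intro x hx hx0 y hy hy0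
      obtain ⟨k, hk⟩ := hgt _ hx (fun e => hx0 (congrArg Additive.ofMul (Subtype.ext e :
          (Additive.toMul x : (S : Subgroup G)) = 1))) _ hy
        (fun e => hy0 (congrArg Additive.ofMul (Subtype.ext e :
          (Additive.toMul y : (S : Subgroup G)) = 1)))
      refine ⟨k, ?_⟩
      rw [← map_pow]
      exact congrArg Additive.ofMul (Subtype.ext hk :
        (S : Subgroup G).normalizerMonoidHom (⟨g, hgN⟩ ^ k) (Additive.toMul x) = Additive.toMul y)
    · refine (Nat.pow_le_pow_iff_right (le_refl 2)).1 ?_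
      rw [hcard U hP.leU, hP.card]
      exact hq4
  have h4 : 4 ≤ Module.finrank (ZMod 2) (Additive (S : Subgroup G)) := by
    refine (Nat.pow_le_pow_iff_right (le_refl 2)).1 ?_
    rw [htot]
    exact h16
  have hlt := Nat.pow_lt_pow_right one_lt_two (hS.two_mul_lt h4)
  rw [two_mul, pow_add, hcard U hP.leU, htot, hP.card] at hlt
  exact hlt

end Hyp

/-- The configuration. -/
structure Frame (S : Sylow 2 G) (q : ℕ) : Prop where
  hyp : Hyp S
  bound : Bound G q
  sq : ∀ s ∈ (S : Subgroup G), s * s = 1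
  four : 4 ≤ q
  big : q * q < Nat.card (S : Subgroup G)
  exists_piece : ∃ U B, Piece (S : Subgroup G) q U B

theorem exists_frame {S : Sylow 2 G} (h : Hyp S)
    (h16 : 16 ≤ Nat.card {a : G // a ∈ (S : Subgroup G) ∧ a * a = 1}) {t : G} (ht : orderOf t = 2)
    (hns : ¬ Group.IsSolvable (centralizer ({t} : Set G))) :
    ∃ (T : Sylow 2 G) (q : ℕ), Frame T q := by
  classical
  haveI : Fact (Nat.Prime 2) := ⟨Nat.prime_two⟩
  obtain ⟨T₀, hT₀⟩ := (isPGroup_zpowers (z := t) (k := 1) (by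
    rw [pow_one, ← ht, pow_orderOf_eq_one])).exists_le_sylow
  have htT : t ∈ (T₀ : Subgroup G) := hT₀ (mem_zpowers t)
  have ht1 : t ≠ 1 := fun e => by rw [e, orderOf_one] at ht; omega
  obtain ⟨M₀, hM₀⟩ := (h.of_sylow T₀).exists_comp_of_nonsolvable htT ht1 hns
  let A : Set (Sylow 2 G × G × Subgroup G) := {x | x.2.1 ∈ (x.1 : Subgroup G) ∧ x.2.1 ≠ 1 ∧
    Comp x.2.1 x.2.2}
  obtain ⟨⟨T, a, M⟩, ⟨ha, ha1, hM⟩, hmax⟩ := Set.exists_max_image A
    (fun x => Nat.card ↥((x.1 : Subgroup G) ⊓ x.2.2)) (Set.toFinite A)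
    ⟨(T₀, t, M₀), htT, ht1, hM₀⟩
  set q := Nat.card ↥((T : Subgroup G) ⊓ M)
  have hT := h.of_sylow T
  have hq : Bound G q := fun S' a' M' h1 h2 h3 => hmax (S', a', M') ⟨h1, h2, h3⟩
  have hP := hT.piece_of_comp hq ha ha1 hM rfl
  have hsq := hT.sq ha ha1 hM
  have h16' : 16 ≤ Nat.card (T : Subgroup G) := by
    refine h16.trans ?_
    rw [Nat.card_congr (Sylow.equiv T S).toEquiv]
    exact Nat.card_le_card_of_injective (fun x => (⟨x.1, x.2.1⟩ : (S : Subgroup G)))
      fun x y e => Subtype.ext (congrArg Subtype.val e :)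
  have hq4 : 4 ≤ q := by
    show 4 ≤ Nat.card ↥((T : Subgroup G) ⊓ M)
    rw [hT.comp_inf_eq ha ha1 hM, hT.card_img_inf ha (img a M)]
    let P : Sylow 2 (img a M) := (((imgSylow T (hT.le_centralizer ha)).isPGroup'.to_le
      inf_le_left).comap_subtype (K := img a M)).toSylow
        (not_dvd_relIndex_of_isSubnormal _ hM.isComponent.1)
    exact (CompType.four_le (hT.compType ha ha1 hM) P).trans_eq
      (Nat.card_congr (subgroupOfEquivOfLe inf_le_right).toEquiv)
  exact ⟨T, q, hT, hq, hsq, hq4, hT.sq_lt hsq h16' hq4 hP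
    (fun e => ha1 (mem_bot.1 (e ▸ hT.mem_cenS_self ha))), _, _, hP⟩

end CfsgLib.Walter.Rank
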