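import Cfsg.Agent.Walter.Rank.Balance

/-!
# Walter, rank at least four: the geometry of the pieces

Distinct pieces lie in each other's complements, the pieces generate `S`, and every complement has
order at least `q ^ 2`; in particular at least `2 ^ (balK q + 1)`.
-/

set_option autoImplicit false
set_option linter.style.haveILetI false
set_option linter.unusedSectionVars false

open Subgroup

namespace CfsgLib.Walter.Rank

universe u

variable {G : Type u} [Group G] [Finite G]

namespace Frame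

variable {S : Sylow 2 G} {q : ℕ} (F : Frame S q)
include F

theorem elab_S : Cfsg.IsElementaryAbelian 2 (S : Subgroup G) :=
  ⟨F.hyp.comm, fun a ha => by rw [pow_two]; exact F.sq a ha⟩

theorem le_normalizer {X Y : Subgroup G} (hX : X ≤ (S : Subgroup G)) (hY : Y ≤ (S : Subgroup G)) :
    Y ≤ normalizer (X : Set G) :=
  (hY.trans (Transitivity.le_centralizer_of_elab F.elab_S hX)).trans (centralizer_le_normalizer _)

theorem card_mul_le {X Y : Subgroup G} (hX : X ≤ (S : Subgroup G)) (hY : Y ≤ (S : Subgroup G)) :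
    Nat.card X * Nat.card Y ≤ Nat.card (S : Subgroup G) * Nat.card ↥(X ⊓ Y) := by
  have h1 : X.relIndex Y ≤ X.relIndex (S : Subgroup G) := relIndex_le_of_le_right hY (by
    exact index_ne_zero_of_finite)
  have h2 : (X ⊓ Y).relIndex Y = X.relIndex Y := inf_relIndex_right X Y
  have h3 := relIndex_mul_relIndex ⊥ (X ⊓ Y) Y bot_le inf_le_right
  have h4 := relIndex_mul_relIndex ⊥ X (S : Subgroup G) bot_le hX
  simp only [relIndex_bot_left] at h3 h4
  rw [← h3, ← h4, h2, mul_assoc, mul_comm (Nat.card ↥(X ⊓ Y)) (X.relIndex Y)]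
  exact Nat.mul_le_mul_left _ (Nat.mul_le_mul_right _ h1)

theorem card_sup {X Y : Subgroup G} (hX : X ≤ (S : Subgroup G)) (hY : Y ≤ (S : Subgroup G))
    (hd : X ⊓ Y = ⊥) : Nat.card ↥(X ⊔ Y) = Nat.card X * Nat.card Y :=
  Coprime.card_sup_eq (F.le_normalizer hX hY) hd

theorem exists_pow : ∃ n, 2 ≤ n ∧ q = 2 ^ n := by
  haveI : Fact (Nat.Prime 2) := ⟨Nat.prime_two⟩
  obtain ⟨U, B, hP⟩ := F.exists_piece
  obtain ⟨n, hn⟩ := IsPGroup.iff_card.1 (S.isPGroup'.to_le hP.leU)
  refine ⟨n, ?_, hP.card ▸ hn⟩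
  by_contra hlt
  have h4 := F.four
  rw [← hP.card, hn] at h4
  interval_cases n <;> simp at h4

theorem pow_balK_le : 2 ^ (balK q + 1) ≤ q * q := by
  obtain ⟨n, hn2, rfl⟩ := F.exists_pow
  unfold balK
  split
  · rename_i h
    rw [h]; norm_num
  · rename_i h
    have h3 : 3 ≤ n := by
      by_contra hlt
      exact h (by rw [show n = 2 by omega]; norm_num)
    rw [← pow_add]
    exact Nat.pow_le_pow_right two_pos (by omega)

variable {U B : Subgroup G} (hP : Piece (S : Subgroup G) q U B)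
include hP

theorem mul_card : q * Nat.card B = Nat.card (S : Subgroup G) := by rw [← hP.card, hP.card_mul]

theorem lt_card : q < Nat.card B := by
  refine Nat.lt_of_mul_lt_mul_left (a := q) ?_
  rw [F.mul_card hP]
  exact F.big

theorem ne_bot : U ≠ ⊥ := fun e => by
  have h := hP.card
  rw [e, Subgroup.card_bot] at h
  have := F.four
  omega

theorem inter {U' B' : Subgroup G} (hP' : Piece (S : Subgroup G) q U' B') : B ⊓ B' ≠ ⊥ := by
  intro e
  have h := F.card_sup hP.leB hP'.leB e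
  have h1 := Nat.le_of_dvd Nat.card_pos (card_dvd_of_le (sup_le hP.leB hP'.leB))
  rw [h, ← F.mul_card hP, mul_comm q] at h1
  exact absurd (F.lt_card hP') (not_lt.2 (Nat.le_of_mul_le_mul_left h1 Nat.card_pos))

theorem pair {U' B' : Subgroup G} (hP' : Piece (S : Subgroup G) q U' B') :
    (U = U' ∧ B = B') ∨ (U' ≤ B ∧ U ≤ B') :=
  F.hyp.piece_pair hP hP' (F.inter hP hP')

omit hP in
theorem exists_not_le {X : Subgroup G} (hX : X ≤ (S : Subgroup G))
    (hlt : Nat.card X < Nat.card (S : Subgroup G)) :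
    ∃ U B, Piece (S : Subgroup G) q U B ∧ ¬ U ≤ X := by
  by_contra hcon
  push Not at hcon
  set W := ⨆ P : {P : Subgroup G × Subgroup G // Piece (S : Subgroup G) q P.1 P.2}, P.1.1
  have hWS : W ≤ (S : Subgroup G) := iSup_le fun P => P.2.leU
  have hinv : ∀ n ∈ normalizer ((S : Subgroup G) : Set G), ∀ b ∈ W, n * b * n⁻¹ ∈ W := by
    intro n hn b hb
    have h1 : W.map (MulAut.conj n).toMonoidHom ≤ W := by
      rw [Subgroup.map_iSup]
      exact iSup_le fun P => le_iSup
        (fun P : {P : Subgroup G × Subgroup G // Piece (S : Subgroup G) q P.1 P.2} => P.1.1)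
        ⟨(_, _), F.hyp.piece_conj P.2 hn⟩
    exact h1 ⟨b, hb, rfl⟩
  rcases F.hyp.irreducible F.sq hWS hinv with e | e
  · obtain ⟨U, B, hP⟩ := F.exists_piece
    exact F.ne_bot hP (le_bot_iff.1 (e ▸ le_iSup
      (fun P : {P : Subgroup G × Subgroup G // Piece (S : Subgroup G) q P.1 P.2} => P.1.1)
      ⟨(U, B), hP⟩))
  · have : (S : Subgroup G) ≤ X := e ▸ iSup_le fun P => hcon _ _ P.2
    exact absurd (Nat.le_of_dvd Nat.card_pos (card_dvd_of_le this)) (not_le.2 hlt)

theorem exists_other : ∃ U' B', Piece (S : Subgroup G) q U' B' ∧ U' ≤ B ∧ U ≤ B' := by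
  obtain ⟨U', B', hP', hn⟩ := F.exists_not_le hP.leU (by
    rw [hP.card]
    exact (Nat.le_mul_self q).trans_lt F.big)
  rcases F.pair hP hP' with ⟨e, -⟩ | h
  · exact absurd e.ge hn
  · exact ⟨U', B', hP', h⟩

/-- A third piece. -/
theorem exists_third {U' B' : Subgroup G} (hP' : Piece (S : Subgroup G) q U' B') (hle : U' ≤ B) :
    ∃ U'' B'', Piece (S : Subgroup G) q U'' B'' ∧ U'' ≤ B ∧ U'' ≤ B' := by
  have hd : U ⊓ U' = ⊥ := le_bot_iff.1 ((inf_le_inf_left _ hle).trans hP.disj.le)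
  obtain ⟨V, C, hV, hn⟩ := F.exists_not_le (sup_le hP.leU hP'.leU) (by
    rw [F.card_sup hP.leU hP'.leU hd, hP.card, hP'.card]
    exact F.big)
  refine ⟨V, C, hV, ?_, ?_⟩
  · rcases F.pair hP hV with ⟨e, -⟩ | h
    · exact absurd (e ▸ le_sup_left) hn
    · exact h.1
  · rcases F.pair hP' hV with ⟨e, -⟩ | h
    · exact absurd (e ▸ le_sup_right) hn
    · exact h.1

theorem sq_le : q * q ≤ Nat.card B := by
  obtain ⟨U', B', hP', hU', -⟩ := F.exists_other hP
  obtain ⟨V, C, hV, hVB, hVB'⟩ := F.exists_third hP hP' hU'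
  have hd : U' ⊓ V = ⊥ := le_bot_iff.1 ((inf_le_inf_left _ hVB').trans hP'.disj.le)
  have h1 := Nat.le_of_dvd Nat.card_pos (card_dvd_of_le (sup_le hU' hVB))
  rwa [F.card_sup hP'.leU hV.leU hd, hP'.card, hV.card] at h1

theorem pow_le_card : 2 ^ (balK q + 1) ≤ Nat.card B := F.pow_balK_le.trans (F.sq_le hP)

omit hP in
theorem pow_le_S : 2 ^ (balK q + 2) ≤ Nat.card (S : Subgroup G) := by
  obtain ⟨U, B, hP⟩ := F.exists_piece
  rw [← F.mul_card hP, pow_succ, mul_comm _ 2]
  exact Nat.mul_le_mul ((show 2 ≤ 4 by norm_num).trans F.four) (F.pow_le_card hP)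

end Frame

end CfsgLib.Walter.Rank
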