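import Cfsg.Agent.Walter.Rank.Inner
import Cfsg.Agent.Walter.Rank.Defs
import Cfsg.Agent.Walter.Known
import Cfsg.Agent.Components.FStar
import Cfsg.Agent.Inv53.Basic

/-!
# Walter, rank at least four: groups with abelian Sylow 2-subgroups and trivial odd core

`TopHyp X`: the Sylow 2-subgroups are abelian, the odd core is trivial, and the smaller simple
groups are known.  Then the components are simple of known type, a Sylow 2-subgroup `P` is the
product of `O₂(X)` and its traces on the components, and `layer ⊔ O₂` has odd index.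
-/

set_option autoImplicit false
set_option linter.style.haveILetI false
set_option linter.unusedSectionVars false

open Subgroup
open scoped commutatorElement

namespace CfsgLib.Walter.Rank

universe u

variable {G : Type u} [Group G] [Finite G]

/-- The hypotheses on a centralizer modulo its odd core. -/
structure TopHyp (G : Type u) [Group G] : Prop where
  comm : ∀ P : Sylow 2 G, IsMulCommutative (P : Subgroup G)
  core : Cfsg.oddCore G = ⊥
  small : ∃ N, SmallHyp.{u} N ∧ Nat.card G < N

theorem eq_bot_of_odd_normal_of_core (hO : Cfsg.oddCore G = ⊥) {N : Subgroup G} (hN : N.Normal)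
    (h : Odd (Nat.card N)) : N = ⊥ := by
  haveI := hN
  rw [eq_bot_iff, ← hO]
  exact PLocal.le_pPrimeCore (Nat.coprime_two_right.2 h)

/-- The trace of a Sylow subgroup on a subnormal subgroup is a Sylow subgroup. -/
theorem not_dvd_relIndex_of_isSubnormal {p : ℕ} [Fact p.Prime] (P : Sylow p G) {H : Subgroup G}
    (hH : H.IsSubnormal) : ¬ p ∣ ((P : Subgroup G) ⊓ H).relIndex H := by
  induction hH with
  | top => rw [inf_top_eq, relIndex_top_right]; exact P.not_dvd_index
  | step H K hle hK hn ih =>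
    let PK : Sylow p K := ((P.isPGroup'.to_le inf_le_left).comap_subtype (K := K)).toSylow ih
    haveI := hn
    have h := Inv53.not_dvd_relIndex_inf PK (N := ⊤) (K := H.subgroupOf K) le_top le_top
      (le_normalizer_of_normal (H := H.subgroupOf K))
    rw [show (PK : Subgroup K) = ((P : Subgroup G) ⊓ K).subgroupOf K from rfl, show ((P : Subgroup G) ⊓ K).subgroupOf K ⊓ H.subgroupOf K = ((P : Subgroup G) ⊓ K ⊓ H).subgroupOf K from rfl,
      relIndex_subgroupOf hle, inf_assoc, inf_eq_right.2 hle] at h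
    exact h

theorem isMulCommutative_of_le {A B : Subgroup G} (hB : IsMulCommutative B) (h : A ≤ B) :
    IsMulCommutative A :=
  ⟨⟨fun a b => Subtype.ext (congrArg Subtype.val (hB.is_comm.comm ⟨a, h a.2⟩ ⟨b, h b.2⟩) :)⟩⟩

theorem sylow_subgroup_comm (hab : ∀ P : Sylow 2 G, IsMulCommutative (P : Subgroup G))
    (H : Subgroup G) (T : Sylow 2 H) : IsMulCommutative (T : Subgroup H) := by
  haveI : Fact (Nat.Prime 2) := ⟨Nat.prime_two⟩
  obtain ⟨P, hP⟩ := (T.isPGroup'.map H.subtype).exists_le_sylow
  exact ⟨⟨fun a b => Subtype.ext (Subtype.ext (congrArg Subtype.val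
    ((hab P).is_comm.comm ⟨((a : H) : G), hP ⟨a, a.2, rfl⟩⟩ ⟨((b : H) : G), hP ⟨b, b.2, rfl⟩⟩) :))⟩⟩

namespace TopHyp

variable (hX : TopHyp G) {L : Subgroup G} (hL : Cfsg.IsComponent L)
include hX hL

theorem center_eq_bot : Subgroup.center L = ⊥ := by
  haveI : Fact (Nat.Prime 2) := ⟨Nat.prime_two⟩
  set Z := Subgroup.center L
  by_contra hne
  by_cases h2 : 2 ∣ Nat.card Z
  · obtain ⟨z, hz⟩ := exists_prime_orderOf_dvd_card' (G := Z) 2 h2
    have h1 := eq_one_of_central (G := L) (z := (z : L)) (k := 1)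
      (Components.IsQuasisimple.perfect hL.2) (sylow_subgroup_comm hX.comm L)
      (by rw [pow_one, ← hz, ← orderOf_coe, pow_orderOf_eq_one])
      fun g => mem_center_iff.1 z.2 g
    rw [← orderOf_coe, h1, orderOf_one] at hz
    omega
  · have hsn : (Z.map L.subtype).IsSubnormal := by
      have hZ : Z.IsSubnormal := Subgroup.Normal.isSubnormal inferInstance
      exact hZ.trans' hL.1
    have h := PLocal.le_pPrimeCore_of_isSubnormal (p := 2) hsn
      (by rw [card_map_of_injective L.subtype_injective]; exact PLocal.not_dvd_iff_coprime.2 h2)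
    rw [show Cfsg.pPrimeCore 2 G = ⊥ from hX.core, le_bot_iff,
      map_eq_bot_iff_of_injective _ L.subtype_injective] at h
    exact hne h

theorem isSimpleGroup : IsSimpleGroup L := by
  haveI : Nontrivial L := Components.IsQuasisimple.nontrivial hL.2
  refine ⟨fun N hN => ?_⟩
  rcases Components.IsQuasisimple.normal_eq_top_or_le_center hL.2 N with h | h
  · exact Or.inr h
  · exact Or.inl (le_bot_iff.1 (h.trans (hX.center_eq_bot hL).le))

theorem not_isMulCommutative : ¬ IsMulCommutative L :=
  Components.IsQuasisimple.not_isMulCommutative hL.2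

theorem compType : CompType L := by
  obtain ⟨N, hN, hlt⟩ := hX.small
  obtain ⟨T⟩ : Nonempty (Sylow 2 L) := inferInstance
  exact hN L (hX.isSimpleGroup hL) (hX.not_isMulCommutative hL)
    ((L.card_le_card_group).trans_lt hlt) T (sylow_subgroup_comm hX.comm L T)

theorem eq_one_of_centralizes {x : G} (hx : x ∈ L) (hc : x ∈ centralizer (L : Set G)) : x = 1 := by
  have h : (⟨x, hx⟩ : L) ∈ Subgroup.center L := mem_center_iff.2 fun y =>
    Subtype.ext (mem_centralizer_iff.1 hc y y.2)
  rw [hX.center_eq_bot hL, mem_bot] at h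
  exact congrArg Subtype.val h

theorem inf_ne_bot (P : Sylow 2 G) : (P : Subgroup G) ⊓ L ≠ ⊥ := by
  haveI : Fact (Nat.Prime 2) := ⟨Nat.prime_two⟩
  intro h
  have h2 := not_dvd_relIndex_of_isSubnormal P hL.1
  rw [h, relIndex_bot_left] at h2
  haveI : Group.IsSolvable L := Cfsg.Agent.S0205.result (Nat.odd_iff.2 (by omega))
  exact Components.IsComponent.not_isSolvable hL inferInstance

theorem le_normalizer_component (P : Sylow 2 G) : (P : Subgroup G) ≤ normalizer (L : Set G) := by
  intro s hs
  by_contra hsn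
  obtain ⟨⟨u, hu⟩, hu1⟩ := (Subgroup.ne_bot_iff_exists_ne_one.1 (hX.inf_ne_bot hL P))
  set L' := L.map (MulAut.conj s).toMonoidHom
  have hne : L ≠ L' := fun e => hsn (mem_normalizer_iff_map_conj_eq.2 e.symm)
  have hL' : Cfsg.IsComponent L' := Components.IsComponent.conj hL s
  have hc := Components.IsComponent.commutator_eq_bot_of_ne hL hL' hne
  haveI := hX.comm P
  have huL' : (⟨u, hu⟩ : (↥((P : Subgroup G) ⊓ L))).1 ∈ L' := ⟨u, hu.2, by
    show s * u * s⁻¹ = u
    rw [show s * u = u * s from congrArg Subtype.val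
      (mul_comm' (⟨s, hs⟩ : (P : Subgroup G)) ⟨u, hu.1⟩), mul_inv_cancel_right]⟩
  refine hu1 (Subtype.ext (hX.eq_one_of_centralizes hL hu.2 ?_))
  rw [commutator_eq_bot_iff_le_centralizer] at hc
  exact mem_centralizer_iff.2 fun l hl => ((mem_centralizer_iff.1 (hc hl)) u huL').symm

/-- A 2-element of `P` is the product of an element of `P ∩ L` and one centralizing `L`. -/
theorem exists_mul (P : Sylow 2 G) {s : G} (hs : s ∈ (P : Subgroup G)) :
    ∃ u ∈ (P : Subgroup G) ⊓ L, ∃ c ∈ (P : Subgroup G), c ∈ centralizer (L : Set G) ∧ s = u * c := by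
  haveI : Fact (Nat.Prime 2) := ⟨Nat.prime_two⟩
  haveI := hX.isSimpleGroup hL
  haveI := hX.comm P
  obtain ⟨k, hk⟩ := P.isPGroup' ⟨s, hs⟩
  obtain ⟨u, hu, huc⟩ := exists_inner (hX.not_isMulCommutative hL) inf_le_right
    (P.isPGroup'.to_le inf_le_left) (not_dvd_relIndex_of_isSubnormal P hL.1)
    (isMulCommutative_of_le (hX.comm P) inf_le_left) (k := k) (congrArg Subtype.val hk)
    (hX.le_normalizer_component hL P hs) fun u hu => congrArg Subtype.val
      (mul_comm' (⟨s, hs⟩ : (P : Subgroup G)) ⟨u, hu.1⟩)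
  exact ⟨u, hu, u⁻¹ * s, mul_mem (inv_mem hu.1) hs, huc, (mul_inv_cancel_left u s).symm⟩

omit hL

/-- A 2-element of `P` centralizing all components lies in `O₂`. -/
theorem mem_pCore (P : Sylow 2 G) {c : G} (hc : c ∈ (P : Subgroup G))
    (h : ∀ L : Subgroup G, Cfsg.IsComponent L → c ∈ centralizer (L : Set G)) :
    c ∈ Cfsg.pCore 2 G := by
  haveI : Fact (Nat.Prime 2) := ⟨Nat.prime_two⟩
  have hF : Cfsg.fittingSubgroup G ≤ Cfsg.pCore 2 G := by
    refine sSup_le fun N ⟨hN, hnil⟩ => Components.le_pCore (IsPGroup.of_card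
      (n := (Nat.card N).primeFactorsList.length)
      (Nat.eq_prime_pow_of_unique_prime_dvd Nat.card_pos.ne' fun {q} hq hdvd => ?_))
    by_contra hq2
    haveI := Fact.mk hq
    haveI := hnil
    obtain ⟨T⟩ : Nonempty (Sylow q N) := inferInstance
    have hTn : (T : Subgroup N).Normal :=
      Sylow.normal_of_normalizerCondition Group.normalizerCondition_of_isNilpotent T
    haveI : (T : Subgroup N).Characteristic := Sylow.characteristic_of_normal T hTn
    haveI := hN
    refine T.ne_bot_of_dvd_card hdvd ((map_eq_bot_iff_of_injective _ N.subtype_injective).1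
      (eq_bot_of_odd_normal_of_core hX.core (PLocal.normal_map_subtype N T) ?_))
    rw [card_map_of_injective N.subtype_injective]
    obtain ⟨j, hj⟩ := IsPGroup.iff_card.1 T.isPGroup'
    rw [hj]
    exact (hq.odd_of_ne_two hq2).pow
  haveI := hX.comm P
  refine hF (Components.centralizer_generalizedFitting_le ?_)
  refine le_centralizer_iff.1 (sup_le (sSup_le fun L hL => ?_) (hF.trans fun x hx => ?_))
    (mem_zpowers c)
  · exact le_centralizer_iff.1 (zpowers_le.2 (h L hL))
  · rw [← Transitivity.centralizer_singleton_eq, mem_centralizer_singleton_iff]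
    exact congrArg Subtype.val
      (mul_comm' (⟨x, PLocal.pCore_le_sylow P hx⟩ : (P : Subgroup G)) ⟨c, hc⟩)

/-- A Sylow 2-subgroup lies in `layer ⊔ O₂`. -/
theorem sylow_le (P : Sylow 2 G) : (P : Subgroup G) ≤ Cfsg.layer G ⊔ Cfsg.pCore 2 G := by
  classical
  haveI := hX.comm P
  intro s hs
  haveI : Fintype (Subgroup G) := Fintype.ofFinite _
  suffices H : ∀ F : Finset (Subgroup G), (∀ L ∈ F, Cfsg.IsComponent L) →
      ∃ w ∈ (P : Subgroup G) ⊓ Cfsg.layer G, ∀ L ∈ F, w⁻¹ * s ∈ centralizer (L : Set G) by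
    obtain ⟨w, hw, hwc⟩ := H (Finset.univ.filter Cfsg.IsComponent) fun L hL =>
      (Finset.mem_filter.1 hL).2
    rw [show s = w * (w⁻¹ * s) from (mul_inv_cancel_left w s).symm]
    exact mul_mem (mem_sup_left hw.2) (mem_sup_right (hX.mem_pCore P
      (mul_mem (inv_mem hw.1) hs) fun L hL => hwc L (Finset.mem_filter.2 ⟨Finset.mem_univ L, hL⟩)))
  intro F
  induction F using Finset.induction_on with
  | empty => exact fun _ => ⟨1, one_mem _, fun L hL => absurd hL (Finset.notMem_empty L)⟩
  | @insert L F hLF ih =>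
    intro hF
    obtain ⟨w, hw, hwc⟩ := ih fun L' hL' => hF L' (Finset.mem_insert_of_mem hL')
    have hL := hF L (Finset.mem_insert_self L F)
    obtain ⟨u, hu, c, hc, hcL, huc⟩ := hX.exists_mul hL P (mul_mem (inv_mem hw.1) hs)
    refine ⟨w * u, ⟨mul_mem hw.1 hu.1, mul_mem hw.2
      (Components.IsComponent.le_layer hL hu.2)⟩, fun L' hL' => ?_⟩
    have e : (w * u)⁻¹ * s = c := by
      rw [mul_inv_rev, mul_assoc, huc, inv_mul_cancel_left]
    rw [e]
    rcases Finset.mem_insert.1 hL' with rfl | hL'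
    · exact hcL
    · have hne : L ≠ L' := fun e' => hLF (e' ▸ hL')
      have hu' : u ∈ centralizer (L' : Set G) := commutator_eq_bot_iff_le_centralizer.1
        (Components.IsComponent.commutator_eq_bot_of_ne hL
          (hF L' (Finset.mem_insert_of_mem hL')) hne) hu.2
      rw [show c = u⁻¹ * (w⁻¹ * s) by rw [huc, inv_mul_cancel_left]]
      exact mul_mem (inv_mem hu') (hwc L' hL')

theorem odd_index : Odd (Cfsg.layer G ⊔ Cfsg.pCore 2 G).index := by
  obtain ⟨P⟩ : Nonempty (Sylow 2 G) := inferInstance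
  rw [← Nat.not_even_iff_odd, even_iff_two_dvd]
  exact fun h => P.not_dvd_index (h.trans (index_dvd_of_le (hX.sylow_le P)))

/-- A perfect subgroup lies in the layer. -/
theorem perfect_le_layer {M : Subgroup G} (hM : ⁅M, M⁆ = M) : M ≤ Cfsg.layer G := by
  have key : ∀ (N : Subgroup G) [N.Normal], Group.IsSolvable (G ⧸ N) → M ≤ N := by
    intro N _ hsol
    obtain ⟨n, hn⟩ := (Group.isSolvable_def (G := G ⧸ N)).1 hsol
    have h : ∀ i, M ≤ derivedSeries G i := by
      intro i
      induction i with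
      | zero => exact le_top
      | succ i ih => rw [derivedSeries_succ, ← hM]; exact commutator_mono ih ih
    intro x hx
    rw [← QuotientGroup.eq_one_iff, ← mem_bot, ← hn]
    exact map_derivedSeries_le_derivedSeries (QuotientGroup.mk' N) n ⟨x, h n hx, rfl⟩
  refine key (Cfsg.layer G) ?_
  haveI : Fact (Nat.Prime 2) := ⟨Nat.prime_two⟩
  set π := QuotientGroup.mk' (Cfsg.layer G)
  haveI : ((Cfsg.pCore 2 G).map π).Normal :=
    Subgroup.Normal.map inferInstance π (QuotientGroup.mk'_surjective _)
  haveI : Group.IsSolvable ((Cfsg.pCore 2 G).map π) := by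
    haveI := ((Components.isPGroup_pCore (G := G) 2).map π).isNilpotent
    infer_instance
  haveI : Group.IsSolvable ((G ⧸ Cfsg.layer G) ⧸ (Cfsg.pCore 2 G).map π) := by
    refine Cfsg.Agent.S0205.result ?_
    rw [← index_eq_card]
    refine (hX.odd_index).of_dvd_nat ?_
    refine dvd_of_eq ?_
    rw [← index_comap_of_surjective _ (QuotientGroup.mk'_surjective (Cfsg.layer G)),
      comap_map_eq, QuotientGroup.ker_mk', sup_comm]
  exact Group.isSolvable_of_ker_le_range ((Cfsg.pCore 2 G).map π).subtype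
    (QuotientGroup.mk' ((Cfsg.pCore 2 G).map π))
    (by rw [QuotientGroup.ker_mk', range_subtype])

theorem isSolvable_of_no_component (h : ∀ L : Subgroup G, ¬ Cfsg.IsComponent L) :
    Group.IsSolvable G := by
  obtain ⟨n, hn⟩ := exists_perfect_normal G
  refine (Group.isSolvable_def (G := G)).2 ⟨n, le_bot_iff.1 ?_⟩
  exact (hX.perfect_le_layer hn).trans (Components.layer_eq_bot_iff.2 h).le

end TopHyp

end CfsgLib.Walter.Rank
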